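import Mathlib
import Cfsg.Agent.Lib.Helper24.Coprime

set_option autoImplicit false

namespace Cfsg.Agent.Lib.Helper68

open scoped commutatorElement

section powformula
variable {G : Type*} [Group G]

/-- `b^n a = c^n a b^n` when `c = ⁅b,a⁆` commutes with `b`. -/
theorem pow_mul_class2 (a b : G) (hcb : Commute ⁅b, a⁆ b) (n : ℕ) :
    b ^ n * a = ⁅b, a⁆ ^ n * a * b ^ n := by
  set c := ⁅b, a⁆ with hc
  have hba : b * a = c * a * b := by rw [hc, commutatorElement_def]; group
  induction n with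
  | zero => simp
  | succ n ih =>
    have h1 : b * c ^ n = c ^ n * b := ((hcb.pow_left n).eq).symm
    calc b ^ (n + 1) * a = b * (b ^ n * a) := by rw [pow_succ']; rw [mul_assoc]
      _ = b * (c ^ n * a * b ^ n) := by rw [ih]
      _ = (b * c ^ n) * a * b ^ n := by simp only [mul_assoc]
      _ = c ^ n * (b * a) * b ^ n := by rw [h1]; simp only [mul_assoc]
      _ = c ^ n * (c * a * b) * b ^ n := by rw [hba]
      _ = c ^ (n + 1) * a * b ^ (n + 1) := by rw [pow_succ, pow_succ']; simp only [mul_assoc]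

/-- the power formula in class two -/
theorem mul_pow_class2 (a b : G) (hca : Commute ⁅b, a⁆ a) (hcb : Commute ⁅b, a⁆ b) (n : ℕ) :
    (a * b) ^ n = a ^ n * b ^ n * ⁅b, a⁆ ^ (∑ i ∈ Finset.range n, i) := by
  set c := ⁅b, a⁆ with hc
  induction n with
  | zero => simp
  | succ n ih =>
    set t := ∑ i ∈ Finset.range n, i with ht
    have hta : c ^ t * a = a * c ^ t := (hca.pow_left t).eq
    have htb : c ^ t * b = b * c ^ t := (hcb.pow_left t).eq
    have hna : a ^ n * c ^ n = c ^ n * a ^ n := ((hca.pow_pow n n).eq).symm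
    have hna' : c ^ n * a ^ (n + 1) = a ^ (n + 1) * c ^ n := (hca.pow_pow n (n + 1)).eq
    have hnb' : c ^ n * b ^ (n + 1) = b ^ (n + 1) * c ^ n := (hcb.pow_pow n (n + 1)).eq
    have hpm := pow_mul_class2 a b hcb n
    rw [Finset.sum_range_succ, ← ht]
    calc (a * b) ^ (n + 1) = (a * b) ^ n * (a * b) := pow_succ _ _
      _ = a ^ n * b ^ n * c ^ t * (a * b) := by rw [ih]
      _ = a ^ n * b ^ n * (c ^ t * a) * b := by simp only [mul_assoc]
      _ = a ^ n * (b ^ n * a) * (c ^ t * b) := by rw [hta]; simp only [mul_assoc]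
      _ = a ^ n * (c ^ n * a * b ^ n) * (b * c ^ t) := by rw [hpm, htb]
      _ = (a ^ n * c ^ n) * a * (b ^ n * b) * c ^ t := by simp only [mul_assoc]
      _ = c ^ n * (a ^ n * a) * (b ^ n * b) * c ^ t := by rw [hna]; simp only [mul_assoc]
      _ = (c ^ n * a ^ (n + 1)) * b ^ (n + 1) * c ^ t := by rw [← pow_succ, ← pow_succ]
      _ = a ^ (n + 1) * (c ^ n * b ^ (n + 1)) * c ^ t := by rw [hna']; simp only [mul_assoc]
      _ = a ^ (n + 1) * b ^ (n + 1) * (c ^ n * c ^ t) := by rw [hnb']; simp only [mul_assoc]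
      _ = a ^ (n + 1) * b ^ (n + 1) * c ^ (t + n) := by rw [← pow_add, add_comm n t]

end powformula


/-- the exponent: `4` for `p = 2`, `p` otherwise -/
def eExp (p : ℕ) : ℕ := p * (if p = 2 then 2 else 1)

section general
variable {G : Type*} [Group G]

theorem mul_pow_eExp {p : ℕ} (hp : p.Prime) (a b : G) (hca : Commute ⁅b, a⁆ a)
    (hcb : Commute ⁅b, a⁆ b) (hcp : ⁅b, a⁆ ^ p = 1) :
    (a * b) ^ eExp p = a ^ eExp p * b ^ eExp p := by
  rw [mul_pow_class2 a b hca hcb]
  suffices h : ⁅b, a⁆ ^ (∑ i ∈ Finset.range (eExp p), i) = 1 by rw [h, mul_one]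
  by_cases h2 : p = 2
  · subst h2
    have : (∑ i ∈ Finset.range (eExp 2), i) = 2 * 3 := by decide
    rw [this, pow_mul, hcp, one_pow]
  · have he : eExp p = p := by unfold eExp; rw [if_neg h2, mul_one]
    rw [he]
    have hodd : Odd p := hp.odd_of_ne_two h2
    obtain ⟨k, hk⟩ := hodd
    have h1 := Finset.sum_range_id_mul_two p
    have h3 : (∑ i ∈ Finset.range p, i) = p * k := by
      have : p - 1 = 2 * k := by omega
      rw [this] at h1
      have h4 : (∑ i ∈ Finset.range p, i) * 2 = (p * k) * 2 := by rw [h1]; ring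
      exact Nat.eq_of_mul_eq_mul_right (by norm_num) h4
    rw [h3, pow_mul, hcp, one_pow]

/-- an element conjugating a generating set into the closure normalizes the closure -/
theorem mem_normalizer_closure {S : Set G} {g : G}
    (h : ∀ s ∈ S, g * s * g⁻¹ ∈ Subgroup.closure S)
    (h' : ∀ s ∈ S, g⁻¹ * s * g ∈ Subgroup.closure S) :
    g ∈ Subgroup.normalizer ((Subgroup.closure S : Subgroup G) : Set G) := by
  have key : ∀ k : G, (∀ s ∈ S, k * s * k⁻¹ ∈ Subgroup.closure S) →
      ∀ x ∈ Subgroup.closure S, k * x * k⁻¹ ∈ Subgroup.closure S := by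
    intro k hk
    have : Subgroup.closure S ≤ (Subgroup.closure S).comap (MulAut.conj k).toMonoidHom := by
      rw [Subgroup.closure_le]
      intro s hs
      exact hk s hs
    intro x hx
    exact this hx
  rw [Subgroup.mem_normalizer_iff]
  intro x
  constructor
  · exact key g h x
  · intro hx
    have := key g⁻¹ (by intro s hs; rw [inv_inv]; exact h' s hs) _ hx
    have e : g⁻¹ * (g * x * g⁻¹) * g⁻¹⁻¹ = x := by group
    rwa [e] at this

/-- An element normalizing two subgroups normalizes their join. -/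
theorem mem_normalizer_sup' {A B : Subgroup G} {g : G}
    (hA : g ∈ Subgroup.normalizer (A : Set G)) (hB : g ∈ Subgroup.normalizer (B : Set G)) :
    g ∈ Subgroup.normalizer ((A ⊔ B : Subgroup G) : Set G) := by
  have key : ∀ k : G, k ∈ Subgroup.normalizer (A : Set G) → k ∈ Subgroup.normalizer (B : Set G) →
      ∀ h ∈ A ⊔ B, k * h * k⁻¹ ∈ A ⊔ B := by
    intro k hkA hkB
    have : A ⊔ B ≤ (A ⊔ B).comap (MulAut.conj k).toMonoidHom := by
      apply sup_le
      · intro a ha
        rw [Subgroup.mem_comap]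
        exact (le_sup_left : A ≤ A ⊔ B) ((Subgroup.mem_normalizer_iff.1 hkA a).1 ha)
      · intro b hb
        rw [Subgroup.mem_comap]
        exact (le_sup_right : B ≤ A ⊔ B) ((Subgroup.mem_normalizer_iff.1 hkB b).1 hb)
    intro h hh
    exact this hh
  rw [Subgroup.mem_normalizer_iff]
  intro h
  constructor
  · exact key g hA hB h
  · intro hh
    have := key g⁻¹ (inv_mem hA) (inv_mem hB) _ hh
    have e : g⁻¹ * (g * h * g⁻¹) * g⁻¹⁻¹ = h := by group
    rwa [e] at this

/-- the subgroup generated by the `p`-th powers of elements of `P` -/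
def ppow (p : ℕ) (P : Subgroup G) : Subgroup G := Subgroup.closure {x | ∃ a ∈ P, a ^ p = x}

theorem pow_mem_ppow (p : ℕ) (P : Subgroup G) {a : G} (ha : a ∈ P) : a ^ p ∈ ppow p P :=
  Subgroup.subset_closure ⟨a, ha, rfl⟩

theorem normalizer_le_normalizer_ppow (p : ℕ) (P : Subgroup G) :
    Subgroup.normalizer (P : Set G) ≤ Subgroup.normalizer ((ppow p P : Subgroup G) : Set G) := by
  intro g hg
  apply mem_normalizer_closure
  · rintro s ⟨a, ha, rfl⟩
    apply Subgroup.subset_closure
    refine ⟨g * a * g⁻¹, (Subgroup.mem_normalizer_iff.1 hg a).1 ha, ?_⟩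
    rw [conj_pow]
  · rintro s ⟨a, ha, rfl⟩
    apply Subgroup.subset_closure
    have hg' : g⁻¹ ∈ Subgroup.normalizer (P : Set G) := inv_mem hg
    refine ⟨g⁻¹ * a * g, ?_, ?_⟩
    · have := (Subgroup.mem_normalizer_iff.1 hg' a).1 ha
      rwa [inv_inv] at this
    · have := conj_pow (i := p) (a := g⁻¹) (b := a)
      rwa [inv_inv] at this

theorem normalizer_le_normalizer_commutator (P : Subgroup G) :
    Subgroup.normalizer (P : Set G) ≤ Subgroup.normalizer ((⁅P, P⁆ : Subgroup G) : Set G) := by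
  have := Cfsg.Agent.Lib.Helper24.normalizer_le_normalizer_map_of_characteristic P (commutator ↥P)
  rwa [Subgroup.map_subtype_commutator] at this


/-- a nontrivial `p`-subgroup has a proper subgroup containing all commutators and `p`-th powers -/
theorem exists_lt_commutator_pow [Finite G] {p : ℕ} [Fact p.Prime] (P : Subgroup G)
    (hP : IsPGroup p P) (hne : P ≠ ⊥) :
    ∃ K : Subgroup G, K ≤ P ∧ K ≠ P ∧ (∀ a ∈ P, ∀ b ∈ P, ⁅a, b⁆ ∈ K) ∧ (∀ a ∈ P, a ^ p ∈ K) := by
  have hp : p.Prime := Fact.out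
  obtain ⟨m, hm⟩ := hP.exists_card_eq
  have hm0 : m ≠ 0 := by
    rintro rfl
    rw [pow_zero, Subgroup.card_eq_one] at hm
    exact hne hm
  obtain ⟨n, rfl⟩ := Nat.exists_eq_succ_of_ne_zero hm0
  obtain ⟨K', hK'⟩ := Sylow.exists_subgroup_card_pow_prime (G := ↥P) p (n := n)
    (by rw [hm]; exact pow_dvd_pow p (Nat.le_succ n))
  have hidx : K'.index = p := by
    have h1 := K'.card_mul_index
    rw [hK', hm, pow_succ] at h1
    exact Nat.eq_of_mul_eq_mul_left (pow_pos hp.pos n) h1
  haveI hKn : K'.Normal := by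
    apply Subgroup.normal_of_index_eq_minFac_card
    rw [hidx, hm, Nat.pow_minFac (Nat.succ_ne_zero n), hp.minFac_eq]
  have hcardQ : Nat.card (↥P ⧸ K') = p := hidx
  haveI : IsCyclic (↥P ⧸ K') := isCyclic_of_prime_card hcardQ
  letI : CommGroup (↥P ⧸ K') := IsCyclic.commGroup
  have hcomm : commutator ↥P ≤ K' := by
    have := Abelianization.commutator_subset_ker (QuotientGroup.mk' K')
    rwa [QuotientGroup.ker_mk'] at this
  refine ⟨K'.map P.subtype, Subgroup.map_subtype_le K', ?_, ?_, ?_⟩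
  · intro h
    have h1 : Nat.card (K'.map P.subtype) = Nat.card P := by rw [h]
    rw [Subgroup.card_map_of_injective P.subtype_injective, hK', hm] at h1
    have := Nat.pow_right_injective hp.two_le h1
    omega
  · intro a ha b hb
    refine ⟨⁅(⟨a, ha⟩ : ↥P), ⟨b, hb⟩⁆, hcomm ?_, rfl⟩
    rw [commutator_def]
    exact Subgroup.commutator_mem_commutator (Subgroup.mem_top _) (Subgroup.mem_top _)
  · intro a ha
    refine ⟨(⟨a, ha⟩ : ↥P) ^ p, ?_, rfl⟩
    have := K'.pow_index_mem (⟨a, ha⟩ : ↥P)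
    rwa [hidx] at this

end general


section main
variable {G : Type*} [Group G]
open Subgroup Cfsg.Agent.Lib.Helper24

theorem omega_aux [Finite G] {p : ℕ} [Fact p.Prime] (y : G) (hy : (orderOf y).Coprime p) :
    ∀ n : ℕ, ∀ P : Subgroup G, Nat.card P = n → IsPGroup p P → y ∈ normalizer (P : Set G) →
      (∀ x ∈ P, x ^ eExp p = 1 → y * x = x * y) →
      P ≤ centralizer ((zpowers y : Subgroup G) : Set G) := by
  have hp : p.Prime := Fact.out
  intro n
  induction n using Nat.strong_induction_on with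
  | _ n ih =>
  intro P hn hP hyN hE
  by_contra hcon
  set A : Subgroup G := zpowers y with hA
  have hAP : A ≤ normalizer (P : Set G) := by rw [hA, zpowers_le]; exact hyN
  have hcop : (Nat.card A).Coprime (Nat.card P) := by
    obtain ⟨k, hk⟩ := hP.exists_card_eq
    rw [hk, hA, Nat.card_zpowers]
    exact Nat.Coprime.pow_right k hy
  have hsolv : Group.IsSolvable A ∨ Group.IsSolvable P := by
    right
    haveI : Group.IsNilpotent P := hP.isNilpotent
    infer_instance
  have hyA : y ∈ A := mem_zpowers y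
  -- induction hypothesis for proper invariant subgroups
  have IH : ∀ M : Subgroup G, M ≤ P → M ≠ P → y ∈ normalizer (M : Set G) →
      M ≤ centralizer (A : Set G) := by
    intro M hMP hne hyM
    have hlt : Nat.card M < n := by
      rw [← hn]
      have h1 : Nat.card M ≤ Nat.card P := Subgroup.card_le_of_le hMP
      rcases lt_or_eq_of_le h1 with h | h
      · exact h
      · exact absurd (Subgroup.eq_of_le_of_card_ge hMP h.ge) hne
    exact ih _ hlt M rfl (hP.to_le hMP) hyM (fun x hx => hE x (hMP hx))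
  -- (a)
  have hPA : ⁅P, A⁆ = P := by
    by_contra hne
    have h1 := IH ⁅P, A⁆ (commutator_le_of_le_normalizer P A hAP) hne
      (le_normalizer_commutator_right P A hAP hyA)
    have h2 : ⁅⁅P, A⁆, A⁆ = ⊥ := commutator_eq_bot_iff_le_centralizer.2 h1
    rw [commutator_commutator_eq A P hAP hcop hsolv] at h2
    exact hcon (commutator_eq_bot_iff_le_centralizer.1 h2)
  -- (b)
  have hcentral : ∀ M : Subgroup G, M ≤ P → M ≠ P → y ∈ normalizer (M : Set G) →
      P ≤ normalizer (M : Set G) → M ≤ centralizer (A : Set G) ∧ M ≤ centralizer (P : Set G) := by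
    intro M hMP hne hyM hPM
    have hMA := IH M hMP hne hyM
    refine ⟨hMA, ?_⟩
    have hMAbot : ⁅M, A⁆ = ⊥ := commutator_eq_bot_iff_le_centralizer.2 hMA
    have h1 : ⁅⁅P, M⁆, A⁆ = ⊥ := by
      have h3 : ⁅P, M⁆ ≤ M := by
        rw [commutator_comm]; exact commutator_le_of_le_normalizer M P hPM
      exact le_bot_iff.1 (hMAbot ▸ commutator_mono h3 le_rfl)
    have h2 : ⁅⁅M, A⁆, P⁆ = ⊥ := by rw [hMAbot, commutator_bot_left]
    have h4 : ⁅⁅A, P⁆, M⁆ = ⊥ := commutator_commutator_eq_bot_of_rotate h1 h2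
    rw [commutator_comm A P, hPA] at h4
    rw [le_centralizer_iff]
    exact commutator_eq_bot_iff_le_centralizer.1 h4
  -- (c)
  have hPne : P ≠ ⊥ := by
    rintro rfl
    exact hcon bot_le
  obtain ⟨K, hKP, hKne, hKc, hKp⟩ := exists_lt_commutator_pow P hP hPne
  set M : Subgroup G := ⁅P, P⁆ ⊔ ppow p P with hM
  have hMK : M ≤ K := by
    apply sup_le
    · rw [commutator_le]; exact hKc
    · unfold ppow
      rw [closure_le]
      rintro x ⟨a, ha, rfl⟩
      exact hKp a ha
  have hMP : M ≤ P := hMK.trans hKP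
  have hMne : M ≠ P := by
    intro h
    exact hKne (le_antisymm hKP (h ▸ hMK))
  have hnorm : normalizer (P : Set G) ≤ normalizer (M : Set G) := by
    intro g hg
    exact mem_normalizer_sup' (normalizer_le_normalizer_commutator P hg)
      (normalizer_le_normalizer_ppow p P hg)
  obtain ⟨hMA, hMZ⟩ := hcentral M hMP hMne (hnorm hyN) (le_normalizer.trans hnorm)
  -- (d) commutators are central of order dividing p
  have hcM : ∀ a ∈ P, ∀ b ∈ P, ⁅b, a⁆ ∈ M := fun a ha b hb =>
    (le_sup_left : ⁅P, P⁆ ≤ M) (commutator_mem_commutator hb ha)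
  have hcomm : ∀ a ∈ P, ∀ z ∈ M, Commute z a := by
    intro a ha z hz
    have := hMZ hz
    rw [mem_centralizer_iff] at this
    exact (this a ha).symm
  have hcp : ∀ a ∈ P, ∀ b ∈ P, ⁅b, a⁆ ^ p = 1 := by
    intro a ha b hb
    have hca : Commute ⁅b, a⁆ a := hcomm a ha _ (hcM a ha b hb)
    have h1 : ⁅b, a ^ p⁆ = ⁅b, a⁆ ^ p := by
      have h2 : b * a * b⁻¹ = ⁅b, a⁆ * a := by rw [commutatorElement_def]; group
      calc ⁅b, a ^ p⁆ = (b * a * b⁻¹) ^ p * (a ^ p)⁻¹ := by
            rw [commutatorElement_def, conj_pow]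
        _ = (⁅b, a⁆ * a) ^ p * (a ^ p)⁻¹ := by rw [h2]
        _ = ⁅b, a⁆ ^ p := by rw [hca.mul_pow]; group
    rw [← h1]
    have h3 : Commute (a ^ p) b :=
      hcomm b hb _ ((le_sup_right : ppow p P ≤ M) (pow_mem_ppow p P ha))
    rw [commutatorElement_eq_one_iff_commute]
    exact h3.symm
  -- (e)
  have hmul : ∀ a ∈ P, ∀ b ∈ P, (a * b) ^ eExp p = a ^ eExp p * b ^ eExp p := by
    intro a ha b hb
    exact mul_pow_eExp hp a b (hcomm a ha _ (hcM a ha b hb)) (hcomm b hb _ (hcM a ha b hb))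
      (hcp a ha b hb)
  have hpowA : ∀ a ∈ P, a ^ eExp p ∈ centralizer (A : Set G) := by
    intro a ha
    unfold eExp
    rw [pow_mul]
    exact pow_mem (hMA ((le_sup_right : ppow p P ≤ M) (pow_mem_ppow p P ha))) _
  -- (f)
  have hfin : ⁅P, A⁆ ≤ centralizer (A : Set G) := by
    rw [commutator_le]
    intro a ha z hz
    have hv : z * a⁻¹ * z⁻¹ ∈ P := (mem_normalizer_iff.1 (hAP hz) a⁻¹).1 (P.inv_mem ha)
    have hw : ⁅a, z⁆ = a * (z * a⁻¹ * z⁻¹) := by rw [commutatorElement_def]; group
    have hwP : ⁅a, z⁆ ∈ P := by rw [hw]; exact P.mul_mem ha hv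
    have hwe : ⁅a, z⁆ ^ eExp p = 1 := by
      rw [hw, hmul a ha _ hv, conj_pow]
      have h1 := hpowA a⁻¹ (P.inv_mem ha)
      rw [mem_centralizer_iff] at h1
      have h2 : z * a⁻¹ ^ eExp p = a⁻¹ ^ eExp p * z := h1 z hz
      rw [h2, inv_pow]
      group
    have h3 : y * ⁅a, z⁆ = ⁅a, z⁆ * y := hE _ hwP hwe
    rw [mem_centralizer_iff]
    intro u hu
    obtain ⟨i, rfl⟩ := mem_zpowers_iff.1 hu
    exact ((Commute.zpow_left (show Commute y ⁅a, z⁆ from h3) i).eq)
  rw [hPA] at hfin
  exact hcon hfin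

/-- **Ω-theorem**: a `p'`-element normalizing a `p`-subgroup `P` and centralizing its
elements of order `p` (and `4` when `p = 2`) centralizes `P`. -/
theorem omega_theorem [Finite G] {p : ℕ} [Fact p.Prime] (P : Subgroup G) (hP : IsPGroup p P)
    (y : G) (hy : (orderOf y).Coprime p) (hyN : y ∈ normalizer (P : Set G))
    (hE : ∀ x ∈ P, (orderOf x = p ∨ (p = 2 ∧ orderOf x = 4)) → y * x = x * y) :
    y ∈ centralizer (P : Set G) := by
  have hp : p.Prime := Fact.out
  have h := omega_aux y hy _ P rfl hP hyN (by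
    intro x hx hxe
    have hd : orderOf x ∣ eExp p := orderOf_dvd_of_pow_eq_one hxe
    by_cases h2 : p = 2
    · subst h2
      have he : eExp 2 = 2 ^ 2 := by decide
      rw [he] at hd
      obtain ⟨k, hk, hok⟩ := (Nat.dvd_prime_pow Nat.prime_two).1 hd
      interval_cases k
      · rw [pow_zero, orderOf_eq_one_iff] at hok
        rw [hok, mul_one, one_mul]
      · exact hE x hx (Or.inl (by rw [hok, pow_one]))
      · exact hE x hx (Or.inr ⟨rfl, by rw [hok]; norm_num⟩)
    · have he : eExp p = p := by unfold eExp; rw [if_neg h2, mul_one]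
      rw [he] at hd
      rcases (Nat.dvd_prime hp).1 hd with h1 | h1
      · rw [orderOf_eq_one_iff] at h1
        rw [h1, mul_one, one_mul]
      · exact hE x hx (Or.inl h1))
  have h' : (zpowers y : Subgroup G) ≤ centralizer (P : Set G) := le_centralizer_iff.1 h
  exact h' (mem_zpowers y)

end main

end Cfsg.Agent.Lib.Helper68
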