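import Cfsg.Agent.Lib.Helper62.SigmaHall
import Cfsg.Agent.Lib.Helper24.SylowInv
import Cfsg.Agent.Lib.Helper24.InvCompl
import Cfsg.Agent.Lib.Helper24.BG121
import Cfsg.Agent.Lib.Helper19.HallRel
import Cfsg.Agent.Lib.Helper24.BGStmt

set_option autoImplicit false
set_option linter.style.haveILetI false
set_option linter.unusedSectionVars false

/-!
# BG 12.15 (sigma(M)-subgroups are conjugate into `M_σ`): general lemmas
-/

namespace Cfsg.Agent.Lib.Helper68.BG1215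

open Subgroup Cfsg Cfsg.Agent.Lib.Helper33
open scoped Pointwise

universe u

variable {G : Type u} [Group G] [Finite G]

/-- a subgroup of `H` whose order is prime to the index of the normal subgroup `N` lies in `N` -/
theorem le_of_coprime_relIndex {N H Y : Subgroup G} (hNH : N ≤ H)
    (hHN : H ≤ normalizer (N : Set G)) (hYH : Y ≤ H)
    (hcop : (Nat.card Y).Coprime (N.relIndex H)) : Y ≤ N := by
  haveI hn : (N.subgroupOf H).Normal := (normal_subgroupOf_iff_le_normalizer hNH).mpr hHN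
  intro x hx
  set y : H ⧸ N.subgroupOf H := QuotientGroup.mk' (N.subgroupOf H) ⟨x, hYH hx⟩ with hy
  have h1 : orderOf y ∣ Nat.card Y := by
    have hxo : orderOf (⟨x, hx⟩ : Y) ∣ Nat.card Y := orderOf_dvd_natCard _
    have h0 : orderOf y ∣ orderOf (⟨x, hx⟩ : Y) := by
      apply orderOf_dvd_of_pow_eq_one
      rw [hy, ← map_pow]
      have h00 : (⟨x, hYH hx⟩ : H) ^ orderOf (⟨x, hx⟩ : Y) = 1 := by
        apply Subtype.ext
        have := congrArg Subtype.val (pow_orderOf_eq_one (⟨x, hx⟩ : Y))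
        simpa using this
      rw [h00, map_one]
    exact h0.trans hxo
  have h2 : orderOf y ∣ N.relIndex H := by
    rw [Subgroup.relIndex, Subgroup.index_eq_card]
    exact orderOf_dvd_natCard y
  have h3 : orderOf y = 1 := Nat.eq_one_of_dvd_coprimes hcop h1 h2
  have h4 : y = 1 := orderOf_eq_one_iff.mp h3
  have h5 : (⟨x, hYH hx⟩ : H) ∈ N.subgroupOf H := (QuotientGroup.eq_one_iff _).mp h4
  exact Subgroup.mem_subgroupOf.mp h5

/-- a `p`-subgroup of `H` lies in every normal subgroup of `H` of index prime to `p` -/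
theorem le_of_isPGroup_of_not_dvd {p : ℕ} [hp : Fact p.Prime] {N H P : Subgroup G} (hNH : N ≤ H)
    (hHN : H ≤ normalizer (N : Set G)) (hPH : P ≤ H) (hP : IsPGroup p P)
    (hidx : ¬ p ∣ N.relIndex H) : P ≤ N := by
  apply le_of_coprime_relIndex hNH hHN hPH
  obtain ⟨k, hk⟩ := IsPGroup.iff_card.mp hP
  rw [hk]
  exact Nat.Coprime.pow_left k ((Nat.Prime.coprime_iff_not_dvd hp.out).mpr hidx)

/-- a `σ(M)`-subgroup of `M` lies in `M_σ` -/
theorem le_sigmaCore_of_pi {M Y : Subgroup G} (hHall : IsPiHallOf (sigma M) (sigmaCore M) M)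
    (hYM : Y ≤ M) (hY : ∀ p : ℕ, p.Prime → p ∣ Nat.card Y → p ∈ sigma M) :
    Y ≤ sigmaCore M := by
  apply le_of_coprime_relIndex hHall.1 (Cfsg.Agent.Lib.Helper24.BG.le_normalizer_sigmaCore M) hYM
  apply Nat.coprime_of_dvd
  intro k hk hkY hkI
  exact hHall.2.2 k hk (hY k hk hkY) hkI

/-- a `p`-subgroup of `M`, `p ∈ σ(M)`, lies in `M_σ` -/
theorem le_sigmaCore_of_isPGroup {M P : Subgroup G} (hHall : IsPiHallOf (sigma M) (sigmaCore M) M)
    {p : ℕ} [hp : Fact p.Prime] (hpσ : p ∈ sigma M) (hPM : P ≤ M) (hP : IsPGroup p P) :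
    P ≤ sigmaCore M :=
  le_of_isPGroup_of_not_dvd hHall.1 (Cfsg.Agent.Lib.Helper24.BG.le_normalizer_sigmaCore M) hPM hP
    (hHall.2.2 p hp.out hpσ)

/-- an `r`-subgroup meets `M_σ` trivially when `r ∉ σ(M)` -/
theorem inf_sigmaCore_eq_bot_of_isPGroup {M R : Subgroup G}
    (hHall : IsPiHallOf (sigma M) (sigmaCore M) M)
    {r : ℕ} [hr : Fact r.Prime] (hrσ : r ∉ sigma M) (hR : IsPGroup r R) :
    R ⊓ sigmaCore M = ⊥ := by
  have hI : IsPGroup r ↥(R ⊓ sigmaCore M) := hR.to_le inf_le_left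
  obtain ⟨k, hk⟩ := IsPGroup.iff_card.mp hI
  rcases Nat.eq_zero_or_pos k with rfl | hk0
  · rw [pow_zero] at hk
    exact Subgroup.card_eq_one.mp hk
  · exfalso
    apply hrσ
    apply hHall.2.1 r hr.out
    have h1 : r ∣ Nat.card ↥(R ⊓ sigmaCore M) := by rw [hk]; exact dvd_pow_self r hk0.ne'
    exact h1.trans (Subgroup.card_dvd_of_le inf_le_right)

/-- for `p ∈ σ(M)`, every `p`-subgroup of `G` is conjugate into `M_σ` -/
theorem exists_cj_le_sigmaCore {M : Subgroup G} (hHallG : IsPiHall (sigma M) (sigmaCore M))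
    {p : ℕ} [hp : Fact p.Prime] (hpσ : p ∈ sigma M) {X : Subgroup G} (hX : IsPGroup p X) :
    ∃ g : G, cj g X ≤ sigmaCore M := by
  obtain ⟨P₀⟩ : Nonempty (Sylow p ↥(sigmaCore M)) := inferInstance
  obtain ⟨hPle, hPp, hPi⟩ := Cfsg.Agent.Lib.Helper24.sylow_map_facts (sigmaCore M) P₀
  set P := (P₀ : Subgroup ↥(sigmaCore M)).map (sigmaCore M).subtype with hPdef
  have hidx : ¬ p ∣ P.relIndex ⊤ := by
    rw [Subgroup.relIndex_top_right, ← Subgroup.relIndex_mul_index hPle]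
    intro hd
    rcases (Nat.Prime.dvd_mul hp.out).mp hd with h | h
    · exact hPi h
    · exact hHallG.2 p hp.out hpσ h
  obtain ⟨c, -, hc⟩ := sylow_sub (K := ⊤) le_top hPp hidx le_top hX
  exact ⟨c, hc.trans hPle⟩

/-- if `S` normalizes `R`, all commutators of `R` with `S` lie in `C`, and `R ∩ C = 1`, then `R`
centralizes `S` -/
theorem le_centralizer_of_comm_mem {R S C : Subgroup G} (hS : S ≤ normalizer (R : Set G))
    (hC : ∀ x ∈ R, ∀ s ∈ S, x * s * x⁻¹ * s⁻¹ ∈ C) (hRC : R ⊓ C = ⊥) :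
    R ≤ centralizer (S : Set G) := by
  intro x hx
  rw [mem_centralizer_iff]
  intro s hs
  have h1 : s * x⁻¹ * s⁻¹ ∈ R := (mem_normalizer_iff.mp (hS hs) x⁻¹).mp (R.inv_mem hx)
  have h2 : x * s * x⁻¹ * s⁻¹ ∈ R := by
    have : x * s * x⁻¹ * s⁻¹ = x * (s * x⁻¹ * s⁻¹) := by group
    rw [this]; exact R.mul_mem hx h1
  have h3 : x * s * x⁻¹ * s⁻¹ ∈ R ⊓ C := ⟨h2, hC x hx s hs⟩
  rw [hRC, mem_bot] at h3
  have : x * s = s * x := by
    have h4 : x * s = (x * s * x⁻¹ * s⁻¹) * (s * x) := by group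
    rw [h4, h3, one_mul]
  exact this.symm

/-- Hall's theorem in a solvable subgroup `K`: dominance and conjugacy -/
theorem hall_conj_le {K : Subgroup G} [hs : Group.IsSolvable K] (m n : ℕ)
    (hK : Nat.card K = m * n) (hmn : m.Coprime n) {H Y : Subgroup G} (hHK : H ≤ K)
    (hH : Nat.card H = m) (hYK : Y ≤ K) (hY : (Nat.card Y).Coprime n) :
    ∃ g ∈ K, cj g Y ≤ H := by
  have hcH : Nat.card (H.subgroupOf K) = m := by
    rw [Nat.card_congr (Subgroup.subgroupOfEquivOfLe hHK).toEquiv, hH]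
  have hcY : Nat.card (Y.subgroupOf K) = Nat.card Y :=
    Nat.card_congr (Subgroup.subgroupOfEquivOfLe hYK).toEquiv
  obtain ⟨g, -, hg⟩ := Cfsg.Agent.Lib.Helper19.HallRel.exists_conj_le (S := ↥K) ⊤ m n
    (by rw [Subgroup.card_top]; exact hK) hmn (H.subgroupOf K) le_top hcH (Y.subgroupOf K) le_top
    (by rw [hcY]; exact hY)
  have key : ∀ y ∈ Y, (g : G)⁻¹ * y * g ∈ H := by
    intro y hy
    have h1 : (⟨y, hYK hy⟩ : K) ∈ MulAut.conj g • H.subgroupOf K :=
      hg (by rw [Subgroup.mem_subgroupOf]; exact hy)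
    rw [Subgroup.mem_pointwise_smul_iff_inv_smul_mem, Subgroup.mem_subgroupOf] at h1
    simpa using h1
  refine ⟨(g : G)⁻¹, K.inv_mem g.2, ?_⟩
  intro x hx
  rw [mem_cj] at hx
  have h2 := key _ hx
  have h3 : (g : G)⁻¹ * ((g : G)⁻¹⁻¹ * x * (g : G)⁻¹) * g = x := by group
  rwa [h3] at h2

/-- Hall's theorem in a solvable subgroup `K`: existence of a Hall subgroup over a given subgroup -/
theorem hall_exists_ge {K : Subgroup G} [hs : Group.IsSolvable K] (m n : ℕ)
    (hK : Nat.card K = m * n) (hmn : m.Coprime n) {A : Subgroup G} (hAK : A ≤ K)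
    (hA : (Nat.card A).Coprime n) :
    ∃ H : Subgroup G, H ≤ K ∧ Nat.card H = m ∧ A ≤ H := by
  have hcA : Nat.card (A.subgroupOf K) = Nat.card A :=
    Nat.card_congr (Subgroup.subgroupOfEquivOfLe hAK).toEquiv
  obtain ⟨H₂, -, hH₂, hle⟩ := Cfsg.Agent.Lib.Helper19.HallRel.exists_hall_ge (S := ↥K) ⊤ m n
    (by rw [Subgroup.card_top]; exact hK) hmn (A.subgroupOf K) le_top (by rw [hcA]; exact hA)
  refine ⟨H₂.map K.subtype, Subgroup.map_subtype_le _, ?_, ?_⟩
  · rw [Subgroup.card_map_of_injective K.subtype_injective, hH₂]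
  · intro a ha
    exact ⟨⟨a, hAK ha⟩, hle (by rw [Subgroup.mem_subgroupOf]; exact ha), rfl⟩

/-- conjugates of maximal subgroups are maximal -/
theorem isCoatom_cj {M : Subgroup G} (hM : IsCoatom M) (g : G) : IsCoatom (cj g M) :=
  ((MulAut.conj g).mapSubgroup.isCoatom_iff M).mpr hM

end Cfsg.Agent.Lib.Helper68.BG1215
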