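import Cfsg.Agent.Lib.Helper30.BG142C
import Cfsg.Agent.Lib.Helper33.SylowSub
import Cfsg.Agent.Lib.Helper33.Transfer

/-!
# BG 14.2(c) (second half) / 14.7(a): `𝓜(C_G(X)) = {M}` for `X ≤ K* = C_{M_σ}(K)` of prime order

From the *statement* of S1430 (as a hypothesis `Stmt1430 G`) and landed rows only
(S1350, S1414 via Lemma K, S1423, S1426).
-/

set_option autoImplicit false
set_option linter.unusedSectionVars false
set_option linter.unusedVariables false

universe u

namespace Cfsg.Agent.Lib.Helper68.BG147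

open Subgroup Cfsg Cfsg.Agent.Lib.Helper33 Cfsg.Agent.Lib.Helper63
open Cfsg.Agent.Lib.Helper56.BG143 (Stmt1430 C1430 C1431 exists_prime_sub)
open scoped commutatorElement

variable {G : Type u} [Group G] [Finite G]

/-- **Lemma U**: for `X ≤ K* = C_{M_σ}(K)` of prime order, `C_G(X) ≤ M` and `M` is the only
maximal subgroup containing `C_G(X)`. -/
theorem lemmaU (hG : IsMinSimpleOddOrder G) (h30 : Stmt1430 G)
    {M K : Subgroup G} (hM : IsCoatom M) (hK : IsPiHallOf (kappa M) K M) (hK1 : K ≠ ⊥)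
    {X : Subgroup G} (hX : X ≤ sigmaCore M ⊓ centralizer (K : Set G))
    (hXp : (Nat.card X).Prime) :
    centralizer (X : Set G) ≤ M ∧
      ∀ L : Subgroup G, IsCoatom L → centralizer (X : Set G) ≤ L → L = M := by
  classical
  obtain ⟨t, ht⟩ : ∃ t, t = Nat.card X := ⟨_, rfl⟩
  have htp : t.Prime := ht ▸ hXp
  haveI : Fact t.Prime := ⟨htp⟩
  have hσM := BG13.hallStmt hG M hM
  have hWM : sigmaCore M ≤ M := hσM.1
  have hXW : X ≤ sigmaCore M := hX.trans inf_le_left
  have hXM : X ≤ M := hXW.trans hWM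
  have htσM : t ∈ sigma M :=
    hσM.2.1 t htp (ht ▸ Subgroup.card_dvd_of_le hXW)
  have S : Sylow t ↥(sigmaCore M) := Classical.arbitrary _
  by_cases hβ : t ∈ beta M
  · exact (Cfsg.Agent.S1423.result hG M hM t htσM X hXM ht.symm S (Or.inl hβ)).1
  · -- `t ∉ β(M)`: Lemma K
    obtain ⟨hsemi, ⟨U, hUab, hU, hKU, hreg⟩, h3⟩ := h30 M hM K hK hK1
    have hE := Cfsg.Agent.Lib.Helper30.BG142.isComplIn_UK hσM hK hU hKU
    obtain ⟨E, hEdef⟩ : ∃ E : Subgroup G, E = U ⊔ K := ⟨_, rfl⟩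
    rw [← hEdef] at hE
    have hUE : U ≤ E := hEdef ▸ le_sup_left
    have hKE : K ≤ E := hEdef ▸ le_sup_right
    obtain ⟨S₁, hS₁p, hS₁1, hS₁i, hS₁W, hES₁, -, hEE⟩ :=
      Cfsg.Agent.Lib.Helper62.BG13K.lemmaK_beta hG hM htσM hβ hE
    -- `U ≤ [E,E]`
    obtain ⟨⟨k, hkK⟩, hk1⟩ := (Subgroup.ne_bot_iff_exists_ne_one).1 hK1
    have hk1' : k ≠ 1 := fun h => hk1 (Subtype.ext h)
    have hUcomm : U ≤ ⁅E, E⁆ :=
      Cfsg.Agent.Lib.Helper56.BG143.U_le_commutator hKE hUE hKU hkK (hreg k hkK hk1')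
    have hMN := Cfsg.Agent.Lib.Helper24.BG.le_normalizer_sigmaCore M
    have hWtop : sigmaCore M ≠ ⊤ := fun h => hM.1 (top_le_iff.mp (h ▸ hWM))
    have hcopKW : (Nat.card K).Coprime (Nat.card ↥(sigmaCore M)) := by
      apply Nat.coprime_of_dvd
      intro q hq hqK hqW
      exact (hK.2.1 q hq hqK).2.2.1 (hσM.2.1 q hq hqW)
    have hS₁r : ¬ t ∣ S₁.relIndex (sigmaCore M) := fun h =>
      hS₁i (h.trans (Subgroup.relIndex_dvd_index_of_le hS₁W))
    have hC4 := Cfsg.Agent.Lib.Helper70.BG134.inf_centralizer_sylow' K (sigmaCore M)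
      (hK.1.trans hMN) hcopKW (Or.inr (hG.2.2.2 _ hWtop)) S₁ hS₁W hS₁p hS₁r (hKE.trans hES₁)
    -- conjugate `X` into `S₁ ∩ C(K)` inside `C_{M_σ}(K)`
    have hXpg : IsPGroup t X := IsPGroup.of_card (n := 1) (by rw [pow_one, ht])
    obtain ⟨c, hc, hcX⟩ := sylow_sub (K := sigmaCore M ⊓ centralizer (K : Set G))
      (P := S₁ ⊓ centralizer (K : Set G)) (inf_le_inf_right _ hS₁W) (hS₁p.to_le inf_le_left)
      hC4 hX hXpg
    -- `S₁ ∩ C(K) ≤ C_{M_σ}(E) ≤ (M_σ)'`
    have hle : S₁ ⊓ centralizer (K : Set G) ≤ ⁅sigmaCore M, sigmaCore M⁆ := by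
      refine le_trans ?_ (Cfsg.Agent.S1426.result hG M hM E hE).1
      refine le_inf (inf_le_left.trans hS₁W) ?_
      rw [hEdef]
      intro a ha
      obtain ⟨haS, haK⟩ := Subgroup.mem_inf.1 ha
      have h1 : U ⊔ K ≤ centralizer ({a} : Set G) := by
        apply sup_le
        · intro u hu
          have h2 := (hUcomm.trans hEE) hu
          rw [Subgroup.mem_centralizer_iff] at h2 ⊢
          intro z hz
          rw [Set.mem_singleton_iff] at hz
          subst hz
          exact h2 z haS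
        · intro u hu
          rw [Subgroup.mem_centralizer_iff] at haK ⊢
          intro z hz
          rw [Set.mem_singleton_iff] at hz
          subst hz
          exact (haK u hu).symm
      rw [Subgroup.mem_centralizer_iff]
      intro e he
      have := h1 he
      rw [Subgroup.mem_centralizer_iff] at this
      exact (this a rfl).symm
    have hcM : c ∈ M := hWM (Subgroup.mem_inf.1 hc).1
    have hXcomm : X ≤ ⁅sigmaCore M, sigmaCore M⁆ := by
      have h1 : cj c X ≤ ⁅sigmaCore M, sigmaCore M⁆ := hcX.trans hle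
      rw [cj_le_iff, cj_commutator] at h1
      have h2 : cj c⁻¹ (sigmaCore M) = sigmaCore M :=
        cj_eq_self_iff.2 (hMN (M.inv_mem hcM))
      rwa [h2] at h1
    exact (Cfsg.Agent.S1423.result hG M hM t htσM X hXM ht.symm S (Or.inr hXcomm)).1

end Cfsg.Agent.Lib.Helper68.BG147
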