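import Mathlib
import Cfsg.Agent.S0071
import Cfsg.Agent.Lib.Helper2.PComplement
import Cfsg.Agent.Lib.Helper24.PxQ
import Cfsg.Agent.S4106
import Cfsg.Agent.S4093

set_option autoImplicit false

namespace Cfsg.Agent.Lib.Helper68

open Cfsg.Agent.Lib.Helper2

/-- Frobenius' criterion, packaged: `FrobCond` gives a normal `p`-complement. -/
theorem hasNormalPComplement_of_frobCond {G : Type*} [Group G] [Finite G] {p : ℕ} [Fact p.Prime]
    (hF : FrobCond p G) : Cfsg.HasNormalPComplement p G := by
  let P : Sylow p G := default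
  rw [hasNormalPComplement_iff P, Cfsg.Agent.S0071.result P]
  intro Q hQ g hg hgo
  exact hF Q (P.2.to_le hQ) g hg hgo

/-- Jordan: in a transitive action of a finite group on a finite set in which every element
has a fixed point, the set has at most one point. -/
theorem subsingleton_of_forall_fixed {K X : Type*} [Group K] [Finite K] [MulAction K X] [Finite X]
    [MulAction.IsPretransitive K X] (h : ∀ k : K, ∃ x : X, k • x = x) : Subsingleton X := by
  classical
  haveI := Fintype.ofFinite K
  haveI := Fintype.ofFinite X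
  by_contra hns
  rw [not_subsingleton_iff_nontrivial] at hns
  have hburn := MulAction.sum_card_fixedBy_eq_card_orbits_mul_card_group K X
  have horb : Fintype.card (Quotient (MulAction.orbitRel K X)) = 1 := by
    rw [Fintype.card_eq_one_iff]
    obtain ⟨x0⟩ := (inferInstance : Nonempty X)
    refine ⟨Quotient.mk'' x0, ?_⟩
    intro q
    induction q using Quotient.inductionOn' with
    | h y =>
      apply Quotient.sound'
      exact MulAction.exists_smul_eq K x0 y
  rw [horb, one_mul] at hburn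
  have h1 : ∀ k : K, 1 ≤ Fintype.card (MulAction.fixedBy X k) := by
    intro k
    obtain ⟨x, hx⟩ := h k
    exact Fintype.card_pos_iff.2 ⟨⟨x, hx⟩⟩
  have h2 : 2 ≤ Fintype.card (MulAction.fixedBy X (1 : K)) := by
    have : Fintype.card (MulAction.fixedBy X (1:K)) = Fintype.card X := by
      apply Fintype.card_congr
      exact (Equiv.subtypeUnivEquiv (fun x => by simp [MulAction.mem_fixedBy]))
    rw [this]
    exact Fintype.one_lt_card
  have : Fintype.card K + 1 ≤ ∑ k : K, Fintype.card (MulAction.fixedBy X k) := by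
    calc Fintype.card K + 1 = ∑ k : K, (1 + if k = 1 then 1 else 0) := by
          rw [Finset.sum_add_distrib]; simp
      _ ≤ _ := Finset.sum_le_sum (fun k _ => by
          split_ifs with hk
          · subst hk; exact h2
          · exact h1 k)
  omega


/-- A subgroup of index prime to `p` contains a Sylow `p`-subgroup through any of its
`p`-elements. -/
theorem exists_sylow_le_of_not_dvd_index {G : Type*} [Group G] [Finite G] {p : ℕ} [Fact p.Prime]
    (C : Subgroup G) (hC : ¬ p ∣ C.index) (u : G) (hu : u ∈ C) (hup : ∃ k : ℕ, orderOf u = p ^ k) :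
    ∃ P : Sylow p G, (P : Subgroup G) ≤ C ∧ u ∈ P := by
  obtain ⟨k, hk⟩ := hup
  let u' : C := ⟨u, hu⟩
  have hu' : IsPGroup p (Subgroup.zpowers u') := by
    apply IsPGroup.of_card (n := k)
    rw [Nat.card_zpowers, ← hk]
    exact Subgroup.orderOf_mk u hu
  obtain ⟨S, hS⟩ := hu'.exists_le_sylow
  have hcard : Nat.card ((S : Subgroup C).map C.subtype) = p ^ (Nat.card G).factorization p := by
    rw [Subgroup.card_map_of_injective C.subtype_injective, S.card_eq_multiplicity]
    congr 1
    have h1 := C.card_mul_index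
    rw [← h1, Nat.factorization_mul (Nat.card_pos.ne') (Subgroup.index_ne_zero_of_finite),
      Finsupp.add_apply, Nat.factorization_eq_zero_of_not_dvd hC, add_zero]
  refine ⟨Sylow.ofCard _ hcard, ?_, ?_⟩
  · intro z hz
    obtain ⟨w, _, rfl⟩ := hz
    exact w.2
  · exact ⟨u', hS (Subgroup.mem_zpowers u'), rfl⟩

/-- If every `p'`-element of `H` has index prime to `p`, the Sylow `p`-subgroup is unique. -/
theorem subsingleton_sylow_of_p'_index {H : Type*} [Group H] [Finite H] {p : ℕ} [Fact p.Prime]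
    (h : ∀ y : H, (orderOf y).Coprime p → ¬ p ∣ (Subgroup.centralizer ({y} : Set H)).index) :
    Subsingleton (Sylow p H) := by
  have hp : p.Prime := Fact.out
  apply subsingleton_of_forall_fixed (K := H)
  intro k
  obtain ⟨u, y, huy, hcomm, ⟨a, hua⟩, hq⟩ := Cfsg.Agent.S4106.decomp k p hp
  have hyo : (orderOf y).Coprime p :=
    Nat.Coprime.symm ((Nat.Prime.coprime_iff_not_dvd hp).2 (fun hd => (hq p hp hd).2 rfl))
  have huo : ∃ b : ℕ, orderOf u = p ^ b := by
    obtain ⟨b, _, hb⟩ := (Nat.dvd_prime_pow hp).1 (orderOf_dvd_of_pow_eq_one hua)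
    exact ⟨b, hb⟩
  have huC : u ∈ Subgroup.centralizer ({y} : Set H) := by
    rw [Subgroup.mem_centralizer_iff]
    intro z hz
    rw [Set.mem_singleton_iff] at hz
    rw [hz]; exact hcomm.eq.symm
  obtain ⟨P, hPC, huP⟩ := exists_sylow_le_of_not_dvd_index _ (h y hyo) u huC huo
  refine ⟨P, ?_⟩
  rw [Sylow.smul_eq_iff_mem_normalizer, ← huy]
  apply Subgroup.mul_mem
  · exact Subgroup.le_normalizer huP
  · apply Subgroup.centralizer_le_normalizer
    rw [Subgroup.mem_centralizer_iff]
    intro z hz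
    have := hPC hz
    rw [Subgroup.mem_centralizer_iff] at this
    exact (this y rfl).symm

/-- If every `p'`-element of `H` has index prime to `p`, then `p`-elements commute with
`p'`-elements. -/
theorem commute_of_p'_index {H : Type*} [Group H] [Finite H] {p : ℕ} [Fact p.Prime]
    (h : ∀ y : H, (orderOf y).Coprime p → ¬ p ∣ (Subgroup.centralizer ({y} : Set H)).index)
    (u y : H) (hu : ∃ k : ℕ, orderOf u = p ^ k) (hy : (orderOf y).Coprime p) : Commute u y := by
  haveI := subsingleton_sylow_of_p'_index h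
  obtain ⟨P, hPC, -⟩ := exists_sylow_le_of_not_dvd_index _ (h y hy) 1 (one_mem _) ⟨0, by simp⟩
  obtain ⟨k, hk⟩ := hu
  have hu' : IsPGroup p (Subgroup.zpowers u) := by
    apply IsPGroup.of_card (n := k)
    rw [Nat.card_zpowers, ← hk]
  obtain ⟨P', hP'⟩ := hu'.exists_le_sylow
  have hPP : P' = P := Subsingleton.elim _ _
  have huP : u ∈ (P : Subgroup H) := by rw [← hPP]; exact hP' (Subgroup.mem_zpowers u)
  have := hPC huP
  rw [Subgroup.mem_centralizer_iff] at this
  exact (this y rfl).symm


/-- If the class of `x` has `p`-power size, every Sylow `p`-subgroup is transitive on it. -/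
theorem exists_conj_eq_of_index_pow {G : Type*} [Group G] [Finite G] {p : ℕ} [Fact p.Prime]
    (x : G) (a : ℕ) (hx : (Subgroup.centralizer ({x} : Set G)).index = p ^ a) (P : Sylow p G)
    (c : G) : ∃ b ∈ (P : Subgroup G), c * x * c⁻¹ = b * x * b⁻¹ := by
  have hp : p.Prime := Fact.out
  set C := Subgroup.centralizer ({x} : Set G) with hC
  -- the two orbits
  let OP : Set G := {g | ∃ b ∈ (P : Subgroup G), g = b * x * b⁻¹}
  let OG : Set G := {g | ∃ c : G, g = c * x * c⁻¹}
  have hsub : OP ⊆ OG := by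
    rintro g ⟨b, _, rfl⟩; exact ⟨b, rfl⟩
  have hOP : OP = (letI := Cfsg.Agent.S4093.conjAct (P : Subgroup G);
      MulAction.orbit (P : Subgroup G) x) := by
    ext g
    constructor
    · rintro ⟨b, hb, rfl⟩
      exact ⟨⟨b, hb⟩, rfl⟩
    · rintro ⟨m, rfl⟩
      exact ⟨m.1, m.2, rfl⟩
  have hOG : OG = (letI := Cfsg.Agent.S4093.conjAct (⊤ : Subgroup G);
      MulAction.orbit (⊤ : Subgroup G) x) := by
    ext g
    constructor
    · rintro ⟨b, rfl⟩
      exact ⟨⟨b, Subgroup.mem_top b⟩, rfl⟩
    · rintro ⟨m, rfl⟩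
      exact ⟨m.1, rfl⟩
  have hcardG : OG.ncard = p ^ a := by
    rw [← Nat.card_coe_set_eq, hOG, Cfsg.Agent.S4093.card_orbit, top_inf_eq, Subgroup.card_top,
      ← hx]
    have := C.card_mul_index
    rw [← this]
    exact Nat.mul_div_cancel_left _ Nat.card_pos
  have hcardP : p ^ a ≤ OP.ncard := by
    rw [← Nat.card_coe_set_eq, hOP, Cfsg.Agent.S4093.card_orbit]
    set d := Nat.card ↥((P : Subgroup G) ⊓ C) with hd
    have hdpos : 0 < d := Nat.card_pos
    have hdP : d ∣ Nat.card (P : Subgroup G) := Subgroup.card_dvd_of_le inf_le_left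
    have hdC : d ∣ Nat.card C := Subgroup.card_dvd_of_le inf_le_right
    obtain ⟨o, ho⟩ := hdP
    obtain ⟨e, he⟩ := hdC
    have h3 : Nat.card (P : Subgroup G) * (P : Subgroup G).index = Nat.card G :=
      Subgroup.card_mul_index _
    have h4 : Nat.card C * C.index = Nat.card G := Subgroup.card_mul_index _
    rw [hx] at h4
    have h5 : d * (o * (P : Subgroup G).index) = d * (e * p ^ a) := by
      rw [← mul_assoc, ← ho, ← mul_assoc, ← he, h3, h4]
    have h6 : o * (P : Subgroup G).index = e * p ^ a := Nat.eq_of_mul_eq_mul_left hdpos h5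
    have hcop : Nat.Coprime (p ^ a) (P : Subgroup G).index :=
      Nat.Coprime.pow_left a ((Nat.Prime.coprime_iff_not_dvd hp).2 P.not_dvd_index)
    have h7 : p ^ a ∣ o := hcop.dvd_of_dvd_mul_right (Dvd.intro_left _ h6.symm)
    rw [ho, Nat.mul_div_cancel_left _ hdpos]
    apply Nat.le_of_dvd _ h7
    rcases Nat.eq_zero_or_pos o with h0 | h0
    · rw [h0, mul_zero] at ho
      exact absurd ho Nat.card_pos.ne'
    · exact h0
  have heq : OP = OG := Set.eq_of_subset_of_ncard_le hsub (by rw [hcardG]; exact hcardP) (Set.toFinite _)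
  have : c * x * c⁻¹ ∈ OP := by rw [heq]; exact ⟨c, rfl⟩
  obtain ⟨b, hb, hbe⟩ := this
  exact ⟨b, hb, hbe⟩

/-- A `p`-element whose class has `p`-power size generates a normal `p`-subgroup. -/
theorem isPGroup_normalClosure_of_index_pow {G : Type*} [Group G] [Finite G] {p : ℕ}
    [Fact p.Prime] (x : G) (a k : ℕ) (hx : (Subgroup.centralizer ({x} : Set G)).index = p ^ a)
    (hxo : orderOf x = p ^ k) : IsPGroup p (Subgroup.normalClosure ({x} : Set G)) := by
  have hx' : IsPGroup p (Subgroup.zpowers x) := by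
    apply IsPGroup.of_card (n := k)
    rw [Nat.card_zpowers, ← hxo]
  obtain ⟨P, hP⟩ := hx'.exists_le_sylow
  have hxP : x ∈ (P : Subgroup G) := hP (Subgroup.mem_zpowers x)
  apply P.2.to_le
  unfold Subgroup.normalClosure
  rw [Subgroup.closure_le]
  intro g hg
  rw [Group.mem_conjugatesOfSet_iff] at hg
  obtain ⟨b, hb, hbg⟩ := hg
  rw [Set.mem_singleton_iff] at hb
  subst hb
  rw [isConj_iff] at hbg
  obtain ⟨c, rfl⟩ := hbg
  obtain ⟨b', hb', hbe⟩ := exists_conj_eq_of_index_pow b a hx P c
  rw [hbe]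
  exact Subgroup.mul_mem _ (Subgroup.mul_mem _ hb' hxP) (Subgroup.inv_mem _ hb')


/-- It suffices to check Frobenius' condition on elements of prime-power order. -/
theorem frobCond_of_primePow {G : Type*} [Group G] [Finite G] {p : ℕ} [Fact p.Prime]
    (h : ∀ Q : Subgroup G, IsPGroup p Q → ∀ g ∈ Subgroup.normalizer (Q : Set G),
      ∀ q j : ℕ, q.Prime → q ≠ p → orderOf g = q ^ j → g ∈ Subgroup.centralizer (Q : Set G)) :
    FrobCond p G := by
  have hp : p.Prime := Fact.out
  intro Q hQ
  have key : ∀ n : ℕ, ∀ g ∈ Subgroup.normalizer (Q : Set G), orderOf g = n → n.Coprime p →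
      g ∈ Subgroup.centralizer (Q : Set G) := by
    intro n
    induction n using Nat.strong_induction_on with
    | _ n ih =>
    intro g hg hgn hcop
    by_cases hn1 : n = 1
    · rw [hn1, orderOf_eq_one_iff] at hgn
      rw [hgn]; exact one_mem _
    have hn0 : n ≠ 0 := by rw [← hgn]; exact (orderOf_pos g).ne'
    set q := n.minFac with hq
    have hqp : q.Prime := Nat.minFac_prime hn1
    obtain ⟨j, m, hqm, hnm⟩ := Nat.exists_eq_pow_mul_and_not_dvd hn0 q hqp.ne_one
    have hj : j ≠ 0 := by
      rintro rfl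
      rw [pow_zero, one_mul] at hnm
      exact hqm (hnm ▸ Nat.minFac_dvd n)
    have hqnep : q ≠ p := by
      intro hqe
      have : p ∣ n := hqe ▸ Nat.minFac_dvd n
      exact (Nat.Prime.coprime_iff_not_dvd hp).1 hcop.symm this
    have hm0 : m ≠ 0 := by
      rintro rfl
      rw [mul_zero] at hnm; exact hn0 hnm
    have hqj0 : q ^ j ≠ 0 := pow_ne_zero _ hqp.ne_zero
    have ho1 : orderOf (g ^ m) = q ^ j := by
      rw [orderOf_pow_of_dvd hm0 (by rw [hgn, hnm]; exact Dvd.intro_left _ rfl), hgn, hnm,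
        Nat.mul_div_cancel _ (Nat.pos_of_ne_zero hm0)]
    have ho2 : orderOf (g ^ (q ^ j)) = m := by
      rw [orderOf_pow_of_dvd hqj0 (by rw [hgn, hnm]; exact Dvd.intro _ rfl), hgn, hnm,
        Nat.mul_div_cancel_left _ (Nat.pos_of_ne_zero hqj0)]
    have hm_lt : m < n := by
      rw [hnm]
      have : 2 ≤ q ^ j := by
        calc 2 ≤ q := hqp.two_le
          _ = q ^ 1 := (pow_one q).symm
          _ ≤ q ^ j := Nat.pow_le_pow_right hqp.pos (Nat.one_le_iff_ne_zero.2 hj)
      nlinarith [Nat.pos_of_ne_zero hm0]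
    have hmcop : m.Coprime p := Nat.Coprime.coprime_dvd_left (by rw [hnm]; exact Dvd.intro_left _ rfl) hcop
    have h1 := h Q hQ (g ^ m) (pow_mem hg m) q j hqp hqnep ho1
    have h2 := ih m hm_lt (g ^ (q ^ j)) (pow_mem hg _) ho2 hmcop
    have hcop' : Nat.Coprime m (q ^ j) :=
      (Nat.Coprime.pow_left j ((Nat.Prime.coprime_iff_not_dvd hqp).2 hqm)).symm
    have hbez := Nat.gcd_eq_gcd_ab m (q ^ j)
    rw [hcop'.gcd_eq_one] at hbez
    have hg' : g = (g ^ m) ^ (Nat.gcdA m (q ^ j)) * (g ^ (q ^ j)) ^ (Nat.gcdB m (q ^ j)) := by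
      rw [← zpow_natCast, ← zpow_natCast, ← zpow_mul, ← zpow_mul, ← zpow_add, ← hbez]
      simp
    rw [hg']
    exact mul_mem (zpow_mem h1 _) (zpow_mem h2 _)
  intro g hg hgo
  exact key _ g hg rfl hgo


/-- Commuting elements of coprime orders are both powers of their product. -/
theorem mem_zpowers_mul_of_coprime {G : Type*} [Group G] (x y : G) (hc : Commute x y)
    (hcop : (orderOf x).Coprime (orderOf y)) :
    x ∈ Subgroup.zpowers (x * y) ∧ y ∈ Subgroup.zpowers (x * y) := by
  constructor
  · obtain ⟨j, hj⟩ := exists_pow_eq_self_of_coprime (x := x) (n := orderOf y) hcop.symm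
    have h1 : (x * y) ^ orderOf y = x ^ orderOf y := by
      rw [hc.mul_pow, pow_orderOf_eq_one y, mul_one]
    have h2 : ((x * y) ^ orderOf y) ^ j ∈ Subgroup.zpowers (x * y) :=
      Subgroup.pow_mem _ (Subgroup.pow_mem _ (Subgroup.mem_zpowers _) _) _
    rwa [h1, hj] at h2
  · obtain ⟨j, hj⟩ := exists_pow_eq_self_of_coprime (x := y) (n := orderOf x) hcop
    have h1 : (x * y) ^ orderOf x = y ^ orderOf x := by
      rw [hc.mul_pow, pow_orderOf_eq_one x, one_mul]
    have h2 : ((x * y) ^ orderOf x) ^ j ∈ Subgroup.zpowers (x * y) :=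
      Subgroup.pow_mem _ (Subgroup.pow_mem _ (Subgroup.mem_zpowers _) _) _
    rwa [h1, hj] at h2

/-- An element normalizing two subgroups normalizes their join. -/
theorem mem_normalizer_sup {G : Type*} [Group G] {A B : Subgroup G} {g : G}
    (hA : g ∈ Subgroup.normalizer (A : Set G)) (hB : g ∈ Subgroup.normalizer (B : Set G)) :
    g ∈ Subgroup.normalizer ((A ⊔ B : Subgroup G) : Set G) := by
  have key : ∀ k : G, k ∈ Subgroup.normalizer (A : Set G) → k ∈ Subgroup.normalizer (B : Set G) →
      ∀ h ∈ A ⊔ B, k * h * k⁻¹ ∈ A ⊔ B := by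
    intro k hkA hkB
    have : A ⊔ B ≤ (A ⊔ B).comap (MulAut.conj k).toMonoidHom := by
      apply sup_le
      · intro a ha
        rw [Subgroup.mem_comap]
        exact (le_sup_left : A ≤ A ⊔ B) ((Subgroup.mem_normalizer_iff.1 hkA a).1 ha)
      · intro b hb
        rw [Subgroup.mem_comap]
        exact (le_sup_right : B ≤ A ⊔ B) ((Subgroup.mem_normalizer_iff.1 hkB b).1 hb)
    intro h hh
    exact this hh
  rw [Subgroup.mem_normalizer_iff]
  intro h
  constructor
  · exact key g hA hB h
  · intro hh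
    have := key g⁻¹ (inv_mem hA) (inv_mem hB) _ hh
    have e : g⁻¹ * (g * h * g⁻¹) * g⁻¹⁻¹ = h := by group
    rwa [e] at this

/-- Conjugate elements have centralizers of the same index. -/
theorem index_centralizer_conj {G : Type*} [Group G] (c x : G) :
    (Subgroup.centralizer ({c * x * c⁻¹} : Set G)).index =
      (Subgroup.centralizer ({x} : Set G)).index := by
  have : Subgroup.centralizer ({c * x * c⁻¹} : Set G) =
      (Subgroup.centralizer ({x} : Set G)).map (MulAut.conj c).toMonoidHom := by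
    ext g
    rw [Subgroup.mem_map, Subgroup.mem_centralizer_iff]
    simp only [Set.mem_singleton_iff, forall_eq]
    constructor
    · intro h
      refine ⟨c⁻¹ * g * c, ?_, ?_⟩
      · rw [Subgroup.mem_centralizer_iff]
        simp only [Set.mem_singleton_iff, forall_eq]
        have : c⁻¹ * (c * x * c⁻¹ * g) * c = c⁻¹ * (g * (c * x * c⁻¹)) * c := by rw [h]
        calc x * (c⁻¹ * g * c) = c⁻¹ * (c * x * c⁻¹ * g) * c := by group
          _ = c⁻¹ * (g * (c * x * c⁻¹)) * c := this
          _ = c⁻¹ * g * c * x := by group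
      · change c * (c⁻¹ * g * c) * c⁻¹ = g
        group
    · rintro ⟨k, hk, rfl⟩
      rw [Subgroup.mem_centralizer_iff] at hk
      have h := hk x rfl
      change c * x * c⁻¹ * (c * k * c⁻¹) = c * k * c⁻¹ * (c * x * c⁻¹)
      calc c * x * c⁻¹ * (c * k * c⁻¹) = c * (x * k) * c⁻¹ := by group
        _ = c * (k * x) * c⁻¹ := by rw [h]
        _ = c * k * c⁻¹ * (c * x * c⁻¹) := by group
  rw [this, Subgroup.index_map_of_bijective (MulAut.conj c).bijective]

end Cfsg.Agent.Lib.Helper68
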