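import Cfsg.Agent.Lib.Helper68.BG1215a

set_option autoImplicit false
set_option linter.style.haveILetI false
set_option linter.unusedSectionVars false

/-!
# BG 12.15: hypotheses (earlier statements) and the case `q ∈ σ(M*)`
-/

namespace Cfsg.Agent.Lib.Helper68.BG1215

open Subgroup Cfsg Cfsg.Agent.Lib.Helper33 Cfsg.Agent.Lib.Helper23 Cfsg.Agent.Lib.Helper63
open scoped Pointwise

universe u

variable {G : Type u} [Group G] [Finite G]

/-- the part of B&G 10.8 (statement S1414) that is used -/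
def H14 (G : Type u) [Group G] : Prop :=
  ∀ M : Subgroup G, IsCoatom M → ∀ p : ℕ, p.Prime → p ∣ Nat.card M → p ∉ beta M →
    HasNormalPComplement p ↥(sigmaCore M) ∧
      ∀ q : ℕ, q.Prime → q ∣ (pPrimeCore p ↥M).index → q ≤ p

/-- the part of B&G 10.5 (statement S1408) that is used -/
def H8 (G : Type u) [Group G] : Prop :=
  ∀ M : Subgroup G, IsCoatom M → ∀ (p : ℕ) [Fact p.Prime], p ∉ sigma M → PRankLE p 2 M →
    ¬ PRankLE p 1 M → ¬ IsIdealPrime p G

/-- the part of B&G 12.4 (statement S1416) that is used -/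
def H16 (G : Type u) [Group G] : Prop :=
  ∀ M : Subgroup G, IsCoatom M → ∀ (p : ℕ) [Fact p.Prime] (A : Subgroup G),
    (A ≤ M ∧ IsElementaryAbelian p A ∧ Nat.card A = p ^ 2) → centralizer (A : Set G) ≤ M

/-- the part of B&G 12.5 (statement S1417) that is used -/
def H17 (G : Type u) [Group G] : Prop :=
  ∀ M : Subgroup G, IsCoatom M → ∀ (p : ℕ) [Fact p.Prime], p ∈ tau2 M → ∀ A : Subgroup G,
    (A ≤ M ∧ IsElementaryAbelian p A ∧ Nat.card A = p ^ 2) →
    M ≤ normalizer ((sigmaCore M ⊔ A : Subgroup G) : Set G) ∧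
      ∀ Mstar : Subgroup G, IsCoatom Mstar → Mstar ≠ M → A ≤ Mstar → sigmaCore M ⊓ Mstar = ⊥

/-- B&G 12.14(a,b,c) (statement S1424) -/
def H24 (G : Type u) [Group G] : Prop :=
  ∀ (M : Subgroup G), IsCoatom M → ∀ (q : ℕ) [Fact q.Prime], q ∈ sigma M → ∀ (X : Subgroup G),
    IsPGroup q X → X ≠ ⊥ → X ≤ M → ∀ (Mstar : Subgroup G), IsCoatom Mstar → Mstar ≠ M →
    normalizer (X : Set G) ≤ Mstar → ∀ (S : Sylow q ↥(M ⊓ Mstar)),
    X ≤ (S : Subgroup ↥(M ⊓ Mstar)).map (M ⊓ Mstar).subtype →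
    (∀ g : G, Mstar ≠ M.map (MulAut.conj g).toMonoidHom) ∧
      normalizer (((S : Subgroup ↥(M ⊓ Mstar)).map (M ⊓ Mstar).subtype : Subgroup G) : Set G) ≤ M ∧
      ¬ q ∣ ((S : Subgroup ↥(M ⊓ Mstar)).map (M ⊓ Mstar).subtype).relIndex Mstar

/-- `G`-level data of a normal `p`-complement of the subgroup `H` -/
theorem npc_data {H : Subgroup G} {p : ℕ} [hp : Fact p.Prime] (h : HasNormalPComplement p ↥H) :
    ∃ C : Subgroup G, C ≤ H ∧ H ≤ normalizer (C : Set G) ∧ (Nat.card C).Coprime p ∧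
      ∃ k : ℕ, C.relIndex H = p ^ k := by
  obtain ⟨P, N, hN, hc⟩ := h
  have hsub : (N.map H.subtype).subgroupOf H = N := by
    rw [Subgroup.subgroupOf, Subgroup.comap_map_eq_self_of_injective H.subtype_injective]
  refine ⟨N.map H.subtype, Subgroup.map_subtype_le _, ?_, ?_, ?_⟩
  · have : ((N.map H.subtype).subgroupOf H).Normal := by rw [hsub]; exact hN
    exact (normal_subgroupOf_iff_le_normalizer (Subgroup.map_subtype_le _)).mp this
  · rw [Subgroup.card_map_of_injective H.subtype_injective]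
    have h1 : Nat.card N * Nat.card (P : Subgroup H) = Nat.card H := hc.card_mul
    have h2 : (P : Subgroup H).index * Nat.card (P : Subgroup H) = Nat.card H :=
      (P : Subgroup H).index_mul_card
    have h3 : Nat.card N = (P : Subgroup H).index :=
      Nat.eq_of_mul_eq_mul_right Nat.card_pos (h1.trans h2.symm)
    rw [h3]
    exact ((Nat.Prime.coprime_iff_not_dvd hp.out).mpr P.not_dvd_index).symm
  · obtain ⟨k, hk⟩ := IsPGroup.iff_card.mp P.isPGroup'
    refine ⟨k, ?_⟩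
    rw [Subgroup.relIndex, hsub, hc.symm.index_eq_card, hk]

/-- `G`-level data of `O_{p'}(M)` -/
theorem ppc_data (M : Subgroup G) (p : ℕ) :
    ∃ N : Subgroup G, N ≤ M ∧ M ≤ normalizer (N : Set G) ∧ (Nat.card N).Coprime p ∧
      N.relIndex M = (pPrimeCore p ↥M).index := by
  haveI hN : (pPrimeCore p ↥M).Normal := pPrimeCore_normal p ↥M
  have hsub : ((pPrimeCore p ↥M).map M.subtype).subgroupOf M = pPrimeCore p ↥M := by
    rw [Subgroup.subgroupOf, Subgroup.comap_map_eq_self_of_injective M.subtype_injective]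
  refine ⟨(pPrimeCore p ↥M).map M.subtype, Subgroup.map_subtype_le _, ?_, ?_, ?_⟩
  · have : (((pPrimeCore p ↥M).map M.subtype).subgroupOf M).Normal := by rw [hsub]; exact hN
    exact (normal_subgroupOf_iff_le_normalizer (Subgroup.map_subtype_le _)).mp this
  · rw [Subgroup.card_map_of_injective M.subtype_injective]
    exact pPrimeCore_card_coprime' p
  · rw [Subgroup.relIndex, hsub]

/-- Fact A: `σ(M) ∩ α(M*) = ∅` for non-conjugate maximal subgroups -/
theorem fact_A (hG : IsMinSimpleOddOrder G) (hU : BG10.UniqStmt G) {M Ms : Subgroup G}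
    (hM : IsCoatom M) (hMs : IsCoatom Ms) (hHallG : IsPiHall (sigma M) (sigmaCore M))
    (hHall : IsPiHallOf (sigma M) (sigmaCore M) M)
    (hnc : ∀ g : G, Ms ≠ cj g M) {r : ℕ} (hr : r ∈ sigma M) : r ∉ alpha Ms := by
  intro hα
  haveI : Fact r.Prime := ⟨hα.1⟩
  obtain ⟨B, hBMs, hBe, hBc⟩ := BG10.exists_of_not_pRankLE hα.2
  have hr1 : 1 < r := hα.1.one_lt
  have hlt : r < Nat.card B := lt_of_le_of_lt (by nlinarith) hBc
  have hBtop : B ≠ ⊤ := fun h => hMs.1 (top_le_iff.mp (h ▸ hBMs))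
  have h1 : ¬ RankLE 1 B := BG10.not_rankLE_one_of_elemAb hBe le_rfl hlt
  have h2 : ¬ RankLE 2 B := BG10.not_rankLE_two_of_elemAb hBe le_rfl hBc
  obtain ⟨M₀, -, huniq⟩ := hU B hBtop h1 (Or.inl h2)
  obtain ⟨g, hg⟩ := exists_cj_le_sigmaCore hHallG hr (BG10.isPGroup_of_elemAb hBe)
  have hBM : B ≤ cj g⁻¹ M := cj_le_iff.mp (hg.trans hHall.1)
  have e1 : Ms = M₀ := huniq Ms ⟨hMs, hBMs⟩
  have e2 : cj g⁻¹ M = M₀ := huniq _ ⟨isCoatom_cj hM _, hBM⟩
  exact hnc g⁻¹ (e1.trans e2.symm)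

/-- the heart of the case `q ∈ σ(M*)`: for a prime `r ≠ q` outside `β(M*)`, some Sylow `r`-subgroup of
`M*` normalizes the Sylow `q`-subgroup `S` -/
theorem find_R (hG : IsMinSimpleOddOrder G) (h14 : H14 G) {Ms : Subgroup G} (hMs : IsCoatom Ms)
    (hHallMs : IsPiHallOf (sigma Ms) (sigmaCore Ms) Ms)
    {q : ℕ} [hq : Fact q.Prime] (hqσ : q ∈ sigma Ms) (hqβ : q ∉ beta Ms)
    {S : Subgroup G} (hSMs : S ≤ Ms) (hSq : IsPGroup q S) (hSi : ¬ q ∣ S.relIndex Ms)
    {r : ℕ} [hr : Fact r.Prime] (hrq : r ≠ q) (hrd : r ∣ Nat.card Ms) (hrβ : r ∉ beta Ms) :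
    ∃ R : Subgroup G, R ≤ Ms ∧ IsPGroup r R ∧ ¬ r ∣ R.relIndex Ms ∧
      R ≤ normalizer (S : Set G) := by
  have hqd : q ∣ Nat.card Ms := hqσ.2.1
  have hMstop : Ms ≠ ⊤ := hMs.1
  rcases lt_or_gt_of_ne hrq with hlt | hgt
  · -- `r < q`
    obtain ⟨-, hord⟩ := h14 Ms hMs r hr.out hrd hrβ
    obtain ⟨N, hNMs, hMsN, hNcop, hNidx⟩ := ppc_data Ms r
    have hqN : ¬ q ∣ N.relIndex Ms := by
      rw [hNidx]; intro hd
      have := hord q hq.out hd
      omega
    have hSN : S ≤ N := le_of_isPGroup_of_not_dvd hNMs hMsN hSMs hSq hqN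
    obtain ⟨R₀'⟩ : Nonempty (Sylow r ↥Ms) := inferInstance
    obtain ⟨hR₀Ms, hR₀r, hR₀i⟩ := Cfsg.Agent.Lib.Helper24.sylow_map_facts Ms R₀'
    set R₀ := (R₀' : Subgroup ↥Ms).map Ms.subtype with hR₀def
    have hcop : (Nat.card R₀).Coprime (Nat.card N) := by
      obtain ⟨k, hk⟩ := IsPGroup.iff_card.mp hR₀r
      rw [hk]
      exact Nat.Coprime.pow_left k hNcop.symm
    have hNtop : N ≠ ⊤ := fun h => hMstop (top_le_iff.mp (h ▸ hNMs))
    haveI : Group.IsSolvable ↥N := isSolvable_of_ne_top hG hNtop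
    obtain ⟨P, hP⟩ := Cfsg.Agent.Lib.Helper24.exists_invariant_sylow (p := q) R₀ N
      (hR₀Ms.trans hMsN) hcop (Or.inr inferInstance)
    obtain ⟨hS₁N, hS₁q, hS₁i⟩ := Cfsg.Agent.Lib.Helper24.sylow_map_facts N P
    set S₁ := (P : Subgroup ↥N).map N.subtype with hS₁def
    have hS₁Ms : S₁ ≤ Ms := hS₁N.trans hNMs
    have hS₁i' : ¬ q ∣ S₁.relIndex Ms := by
      rw [← Subgroup.relIndex_mul_relIndex S₁ N Ms hS₁N hNMs]
      intro hd
      rcases (Nat.Prime.dvd_mul hq.out).mp hd with h | h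
      · exact hS₁i h
      · exact hqN h
    obtain ⟨c, hc, hle⟩ := sylow_sub (K := Ms) hSMs hSq hSi hS₁Ms hS₁q
    obtain ⟨c', hc', hle'⟩ := sylow_sub (K := Ms) hS₁Ms hS₁q hS₁i' hSMs hSq
    have hcard : Nat.card S ≤ Nat.card (cj c S₁) := by
      rw [card_cj, ← card_cj c' S]
      exact Subgroup.card_le_of_le hle'
    have heq : cj c S₁ = S := Subgroup.eq_of_le_of_card_ge hle hcard
    refine ⟨cj c R₀, ?_, isPGroup_cj hR₀r, ?_, ?_⟩
    · have := cj_mono (g := c) hR₀Ms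
      rwa [cj_eq_self_of_mem hc] at this
    · have := relIndex_cj c R₀ Ms
      rw [cj_eq_self_of_mem hc] at this
      rw [this]; exact hR₀i
    · rw [← heq, normalizer_cj]
      exact cj_mono hP
  · -- `q < r`
    obtain ⟨-, hord⟩ := h14 Ms hMs q hq.out hqd hqβ
    obtain ⟨N, hNMs, hMsN, hNcop, hNidx⟩ := ppc_data Ms q
    have hrN : ¬ r ∣ N.relIndex Ms := by
      rw [hNidx]; intro hd
      have := hord r hr.out hd
      omega
    have hcop : (Nat.card S).Coprime (Nat.card N) := by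
      obtain ⟨k, hk⟩ := IsPGroup.iff_card.mp hSq
      rw [hk]
      exact Nat.Coprime.pow_left k hNcop.symm
    have hNtop : N ≠ ⊤ := fun h => hMstop (top_le_iff.mp (h ▸ hNMs))
    haveI : Group.IsSolvable ↥N := isSolvable_of_ne_top hG hNtop
    obtain ⟨P, hP⟩ := Cfsg.Agent.Lib.Helper24.exists_invariant_sylow (p := r) S N
      (hSMs.trans hMsN) hcop (Or.inr inferInstance)
    obtain ⟨hRN, hRr, hRi⟩ := Cfsg.Agent.Lib.Helper24.sylow_map_facts N P
    set R := (P : Subgroup ↥N).map N.subtype with hRdef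
    have hRMs : R ≤ Ms := hRN.trans hNMs
    have hRi' : ¬ r ∣ R.relIndex Ms := by
      rw [← Subgroup.relIndex_mul_relIndex R N Ms hRN hNMs]
      intro hd
      rcases (Nat.Prime.dvd_mul hr.out).mp hd with h | h
      · exact hRi h
      · exact hrN h
    have hSσ : S ≤ sigmaCore Ms := le_sigmaCore_of_isPGroup hHallMs hqσ hSMs hSq
    have hnorm := Cfsg.Agent.Lib.Helper24.BG.le_normalizer_sigmaCore Ms
    refine ⟨R, hRMs, hRr, hRi', ?_⟩
    refine le_trans ?_ (Subgroup.centralizer_le_normalizer (S : Set G))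
    by_cases hrσ : r ∈ sigma Ms
    · obtain ⟨hnpc, -⟩ := h14 Ms hMs r hr.out hrd hrβ
      obtain ⟨C, hCle, hnC, hCcop, k, hCk⟩ := npc_data hnpc
      have hSC : S ≤ C := by
        apply le_of_isPGroup_of_not_dvd hCle hnC hSσ hSq
        rw [hCk]
        intro hd
        exact hrq.symm ((Nat.prime_dvd_prime_iff_eq hq.out hr.out).mp (hq.out.dvd_of_dvd_pow hd))
      have hRle : R ≤ sigmaCore Ms := le_sigmaCore_of_isPGroup hHallMs hrσ hRMs hRr
      apply le_centralizer_of_comm_mem (C := C) hP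
      · intro x hx s hs
        have h1 : x * s * x⁻¹ ∈ C := (mem_normalizer_iff.mp (hnC (hRle hx)) s).mp (hSC hs)
        exact C.mul_mem h1 (C.inv_mem (hSC hs))
      · have hI : IsPGroup r ↥(R ⊓ C) := hRr.to_le inf_le_left
        obtain ⟨j, hj⟩ := IsPGroup.iff_card.mp hI
        rcases Nat.eq_zero_or_pos j with rfl | hj0
        · rw [pow_zero] at hj
          exact Subgroup.card_eq_one.mp hj
        · exfalso
          have h1 : r ∣ Nat.card ↥(R ⊓ C) := by rw [hj]; exact dvd_pow_self r hj0.ne'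
          have h2 : r ∣ Nat.card C := h1.trans (Subgroup.card_dvd_of_le inf_le_right)
          exact (Nat.Prime.coprime_iff_not_dvd hr.out).mp hCcop.symm h2
    · apply le_centralizer_of_comm_mem (C := sigmaCore Ms) hP
      · intro x hx s hs
        have h1 : x * s * x⁻¹ ∈ sigmaCore Ms :=
          (mem_normalizer_iff.mp (hnorm (hRMs hx)) s).mp (hSσ hs)
        exact (sigmaCore Ms).mul_mem h1 ((sigmaCore Ms).inv_mem (hSσ hs))
      · exact inf_sigmaCore_eq_bot_of_isPGroup hHallMs hrσ hRr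

/-- Hall's theorem for a Hall `π`-subgroup `H` of the solvable subgroup `K` -/
theorem hall_pi_conj_le {K : Subgroup G} [Group.IsSolvable K] (π : Set ℕ) {H Y : Subgroup G}
    (hHK : H ≤ K) (hHπ : ∀ p : ℕ, p.Prime → p ∣ Nat.card H → p ∈ π)
    (hHi : ∀ p : ℕ, p.Prime → p ∈ π → ¬ p ∣ H.relIndex K)
    (hYK : Y ≤ K) (hYπ : ∀ p : ℕ, p.Prime → p ∣ Nat.card Y → p ∈ π) :
    ∃ g ∈ K, cj g Y ≤ H := by
  apply hall_conj_le (Nat.card H) (H.relIndex K) ?_ ?_ hHK rfl hYK ?_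
  · exact (card_mul_relIndex_eq' hHK).symm
  · exact Nat.coprime_of_dvd (fun k hk h1 h2 => hHi k hk (hHπ k hk h1) h2)
  · exact Nat.coprime_of_dvd (fun k hk h1 h2 => hHi k hk (hYπ k hk h1) h2)

/-- **Case `q ∈ σ(M*)`** of B&G 12.15 -/
theorem case_d (hG : IsMinSimpleOddOrder G) (hU : BG10.UniqStmt G)
    (hF : ∀ M : Subgroup G, IsCoatom M → SigmaFusion M) (h14 : H14 G)
    {M Ms : Subgroup G} (hM : IsCoatom M) (hMs : IsCoatom Ms) (hnc : ∀ g : G, Ms ≠ cj g M)
    {q : ℕ} [hq : Fact q.Prime] (hqM : q ∈ sigma M) (hqMs : q ∈ sigma Ms)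
    {S : Subgroup G} (hSM : S ≤ M) (hSMs : S ≤ Ms) (hSq : IsPGroup q S)
    (hSi : ¬ q ∣ S.relIndex Ms) (hNS : normalizer (S : Set G) ≤ M)
    {Y : Subgroup G} (hYMs : Y ≤ Ms) (hY : ∀ p : ℕ, p.Prime → p ∣ Nat.card Y → p ∈ sigma M) :
    ∃ g : G, cj g Y ≤ sigmaCore M := by
  obtain ⟨hHallM, hHallMG, -⟩ := Cfsg.Agent.Lib.Helper62.sigmaCore_hall hG hU hM (hF M hM)
  obtain ⟨hHallMs, -, -⟩ := Cfsg.Agent.Lib.Helper62.sigmaCore_hall hG hU hMs (hF Ms hMs)
  have hA : ∀ r, r ∈ sigma M → r ∉ beta Ms :=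
    fun r hr hβ => fact_A hG hU hM hMs hHallMG hHallM hnc hr hβ.1
  have hSσ : S ≤ sigmaCore M := le_sigmaCore_of_isPGroup hHallM hqM hSM hSq
  set H := sigmaCore M ⊓ Ms with hHdef
  have hHi : ∀ r : ℕ, r.Prime → r ∈ sigma M → ¬ r ∣ H.relIndex Ms := by
    intro r hrp hrσ
    haveI : Fact r.Prime := ⟨hrp⟩
    by_cases hrd : r ∣ Nat.card Ms
    · by_cases hrq : r = q
      · subst hrq
        have hSH : S ≤ H := le_inf hSσ hSMs
        intro hd
        exact hSi (hd.trans (Subgroup.relIndex_dvd_of_le_left Ms hSH))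
      · obtain ⟨R, hRMs, hRr, hRi, hRN⟩ :=
          find_R hG h14 hMs hHallMs hqMs (hA q hqM) hSMs hSq hSi hrq hrd (hA r hrσ)
        have hRM : R ≤ M := hRN.trans hNS
        have hRH : R ≤ H := le_inf (le_sigmaCore_of_isPGroup hHallM hrσ hRM hRr) hRMs
        intro hd
        exact hRi (hd.trans (Subgroup.relIndex_dvd_of_le_left Ms hRH))
    · intro hd
      apply hrd
      exact hd.trans (Subgroup.index_dvd_card _)
  haveI : Group.IsSolvable ↥Ms := isSolvable_of_ne_top hG hMs.1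
  obtain ⟨g, -, hg⟩ := hall_pi_conj_le (sigma M) (inf_le_right : H ≤ Ms)
    (fun p hp hd => hHallM.2.1 p hp (hd.trans (Subgroup.card_dvd_of_le inf_le_left))) hHi hYMs hY
  exact ⟨g, hg.trans inf_le_left⟩

end Cfsg.Agent.Lib.Helper68.BG1215
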