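import Cfsg.Agent.Lib.Helper68.BG1215b
import Cfsg.Agent.Lib.Helper67.ZGroupConj
import Cfsg.Agent.Lib.Helper49.RankOneCyclic

set_option autoImplicit false
set_option linter.style.haveILetI false
set_option linter.unusedSectionVars false

/-!
# BG 12.15: the case `q ∉ σ(M*)`
-/

namespace Cfsg.Agent.Lib.Helper68.BG1215

open Subgroup Cfsg Cfsg.Agent.Lib.Helper33 Cfsg.Agent.Lib.Helper23 Cfsg.Agent.Lib.Helper63
open Cfsg.Agent.Lib.Helper24.BG
open scoped Pointwise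

universe u

variable {G : Type u} [Group G] [Finite G]

theorem inf_eq_bot_of_isPGroup_of_coprime {R C : Subgroup G} {r : ℕ} [hr : Fact r.Prime]
    (hR : IsPGroup r R) (hC : (Nat.card C).Coprime r) : R ⊓ C = ⊥ := by
  have hI : IsPGroup r ↥(R ⊓ C) := hR.to_le inf_le_left
  obtain ⟨j, hj⟩ := IsPGroup.iff_card.mp hI
  rcases Nat.eq_zero_or_pos j with rfl | hj0
  · rw [pow_zero] at hj
    exact Subgroup.card_eq_one.mp hj
  · exfalso
    have h1 : r ∣ Nat.card ↥(R ⊓ C) := by rw [hj]; exact dvd_pow_self r hj0.ne'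
    have h2 : r ∣ Nat.card C := h1.trans (Subgroup.card_dvd_of_le inf_le_right)
    exact (Nat.Prime.coprime_iff_not_dvd hr.out).mp hC.symm h2

/-- **Case `q ∉ σ(M*)`** of B&G 12.15 -/
theorem case_e (hG : IsMinSimpleOddOrder G) (hU : BG10.UniqStmt G)
    (hF : ∀ M : Subgroup G, IsCoatom M → SigmaFusion M) (h4 : Stmt1404 G) (h8 : H8 G)
    (h14 : H14 G) (h16 : H16 G) (h17 : H17 G)
    {M Ms : Subgroup G} (hM : IsCoatom M) (hMs : IsCoatom Ms) (hne : Ms ≠ M)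
    (hnc : ∀ g : G, Ms ≠ cj g M)
    {q : ℕ} [hq : Fact q.Prime] (hqM : q ∈ sigma M) (hqMs : q ∉ sigma Ms)
    {S X : Subgroup G} (hSM : S ≤ M) (hSMs : S ≤ Ms) (hSq : IsPGroup q S)
    (hSi : ¬ q ∣ S.relIndex Ms) (hXS : X ≤ S) (hX1 : X ≠ ⊥) (hNX : normalizer (X : Set G) ≤ Ms)
    {Y : Subgroup G} (hYMs : Y ≤ Ms) (hY : ∀ p : ℕ, p.Prime → p ∣ Nat.card Y → p ∈ sigma M) :
    ∃ g : G, cj g Y ≤ sigmaCore M := by
  obtain ⟨hHallM, hHallMG, -⟩ := Cfsg.Agent.Lib.Helper62.sigmaCore_hall hG hU hM (hF M hM)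
  obtain ⟨hHallMs, hHallMsG, -⟩ := Cfsg.Agent.Lib.Helper62.sigmaCore_hall hG hU hMs (hF Ms hMs)
  -- `q ∈ τ₂(M*)`
  have hqdMs : q ∣ Nat.card Ms := by
    have hXq : IsPGroup q X := hSq.to_le hXS
    obtain ⟨k, hk⟩ := IsPGroup.iff_card.mp hXq
    have hk0 : k ≠ 0 := by
      rintro rfl
      rw [pow_zero] at hk
      exact hX1 (Subgroup.card_eq_one.mp hk)
    have : q ∣ Nat.card X := by rw [hk]; exact dvd_pow_self q hk0
    exact this.trans (Subgroup.card_dvd_of_le (hXS.trans hSMs))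
  have hr2 : PRankLE q 2 ↥Ms := by
    by_contra h
    exact hqMs (alpha_subset_sigma hG hU hMs ⟨hq.out, h⟩)
  have hr1 : ¬ PRankLE q 1 ↥Ms := by
    intro h1
    have hq2 : q ≠ 2 := ne_two_of_dvd_card_subgroup hG hqdMs
    have hrS : PRankLE q 1 ↥S := BG10.pRankLE_of_injective (Subgroup.inclusion hSMs)
      (Subgroup.inclusion_injective hSMs) h1
    haveI hcyc : IsCyclic ↥S := by
      apply Cfsg.Agent.Lib.Helper49.isCyclic_of_isPGroup_rankLEOne hq2 hSq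
      intro A hA hAe
      have := hrS A hA hAe
      rwa [pow_one] at this
    have hNSX : normalizer (S : Set G) ≤ normalizer (X : Set G) := by
      intro g hg
      have h1 : cj g X ≤ S := by
        have := cj_mono (g := g) hXS
        rwa [cj_eq_self_iff.mpr hg] at this
      have h2 : cj g X = X :=
        Cfsg.Agent.Lib.Helper67.eq_of_le_isCyclic_of_card_eq S _ _ h1 hXS (card_cj g X)
      exact cj_eq_self_iff.mp h2
    obtain ⟨P, hP⟩ := Cfsg.Agent.Lib.Helper24.exists_sylow_map_eq Ms S hSMs hSq hSi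
    exact hqMs ⟨hq.out, hqdMs, P, by rw [hP]; exact hNSX.trans hNX⟩
  have hτ : q ∈ tau2 Ms := ⟨hq.out, hqMs, hr2, hr1⟩
  -- an `E_{q²}` inside `S`
  obtain ⟨A₀, hA₀Ms, hA₀e, hA₀c⟩ := BG10.exists_elemAb_sq_le hr1
  obtain ⟨c, hc, hcle⟩ := sylow_sub (K := Ms) hSMs hSq hSi hA₀Ms (BG10.isPGroup_of_elemAb hA₀e)
  obtain ⟨A, hAdef⟩ : ∃ A, A = cj c A₀ := ⟨_, rfl⟩
  have hAe : IsElementaryAbelian q A := by rw [hAdef]; exact BG10.map_elemAb _ hA₀e
  have hAc : Nat.card A = q ^ 2 := by rw [hAdef, card_cj, hA₀c]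
  have hAS : A ≤ S := by rw [hAdef]; exact hcle
  have hAMs : A ≤ Ms := hAS.trans hSMs
  have hAM : A ≤ M := hAS.trans hSM
  have hAq : IsPGroup q A := BG10.isPGroup_of_elemAb hAe
  have hAne : A ≠ ⊥ := by
    intro h
    rw [h, Subgroup.card_bot] at hAc
    have := hq.out.one_lt
    nlinarith
  obtain ⟨hnormT, hTI⟩ := h17 Ms hMs q hτ A ⟨hAMs, hAe, hAc⟩
  have hMI : sigmaCore Ms ⊓ M = ⊥ := hTI M hM hne.symm hAM
  have hASig : A ≤ sigmaCore M := le_sigmaCore_of_isPGroup hHallM hqM hAM hAq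
  have hnc' : ∀ g : G, M ≠ cj g Ms := by
    intro g h
    apply hnc g⁻¹
    rw [h, ← cj_mul, inv_mul_cancel, cj_one]
  -- `σ(M) ∩ σ(M*) = ∅`
  have claimB : ∀ r : ℕ, r ∈ sigma M → r ∈ sigma Ms → False := by
    intro r hrM hrMs
    haveI : Fact r.Prime := ⟨hrM.1⟩
    have hrq : r ≠ q := fun h => hqMs (h ▸ hrMs)
    have hqβ : q ∉ beta M := fun h => h8 Ms hMs q hqMs hr2 hr1 h.2
    have hrβ : r ∉ beta M := fun h => fact_A hG hU hMs hM hHallMsG hHallMs hnc' hrMs h.1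
    obtain ⟨hnpcq, -⟩ := h14 M hM q hq.out hqM.2.1 hqβ
    obtain ⟨hnpcr, -⟩ := h14 M hM r hrM.1 hrM.2.1 hrβ
    obtain ⟨Cq, hCqle, hnCq, hCqcop, kq, hCqk⟩ := npc_data hnpcq
    obtain ⟨Cr, hCrle, hnCr, hCrcop, kr, hCrk⟩ := npc_data hnpcr
    have hrS : r ∣ Nat.card (sigmaCore M) := by
      have h1 : Nat.card (sigmaCore M) * (sigmaCore M).relIndex M = Nat.card M :=
        card_mul_relIndex_eq' hHallM.1
      have h2 : r ∣ Nat.card (sigmaCore M) * (sigmaCore M).relIndex M := by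
        rw [h1]; exact hrM.2.1
      rcases (Nat.Prime.dvd_mul hrM.1).mp h2 with h | h
      · exact h
      · exact absurd h (hHallM.2.2 r hrM.1 hrM)
    have hrCq : r ∣ Nat.card Cq := by
      have h1 : Nat.card Cq * Cq.relIndex (sigmaCore M) = Nat.card (sigmaCore M) :=
        card_mul_relIndex_eq' hCqle
      rw [← h1, hCqk] at hrS
      rcases (Nat.Prime.dvd_mul hrM.1).mp hrS with h | h
      · exact h
      · exact absurd ((Nat.prime_dvd_prime_iff_eq hrM.1 hq.out).mp (hrM.1.dvd_of_dvd_pow h)) hrq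
    have hACq : A ≤ normalizer (Cq : Set G) := hASig.trans hnCq
    have hcop : (Nat.card A).Coprime (Nat.card Cq) := by
      rw [hAc]; exact Nat.Coprime.pow_left 2 hCqcop.symm
    have hCqtop : Cq ≠ ⊤ := fun h => hM.1 (top_le_iff.mp (h ▸ (hCqle.trans hHallM.1)))
    haveI : Group.IsSolvable ↥Cq := isSolvable_of_ne_top hG hCqtop
    obtain ⟨P, hP⟩ := Cfsg.Agent.Lib.Helper24.exists_invariant_sylow (p := r) A Cq hACq hcop
      (Or.inr inferInstance)
    obtain ⟨hR₁Cq, hR₁r, hR₁i⟩ := Cfsg.Agent.Lib.Helper24.sylow_map_facts Cq P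
    obtain ⟨R₁, hR₁def⟩ : ∃ R₁, R₁ = (P : Subgroup ↥Cq).map Cq.subtype := ⟨_, rfl⟩
    rw [← hR₁def] at hP hR₁Cq hR₁r hR₁i
    have hR₁ne : R₁ ≠ ⊥ := by
      intro h
      have h1 : Nat.card R₁ * R₁.relIndex Cq = Nat.card Cq := card_mul_relIndex_eq' hR₁Cq
      rw [h, Subgroup.card_bot, one_mul] at h1
      rw [h] at hR₁i
      exact hR₁i (h1 ▸ hrCq)
    have hACr : A ≤ Cr := by
      apply le_of_isPGroup_of_not_dvd hCrle hnCr hASig hAq
      rw [hCrk]; intro hd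
      exact hrq.symm ((Nat.prime_dvd_prime_iff_eq hq.out hrM.1).mp (hq.out.dvd_of_dvd_pow hd))
    have hR₁S : R₁ ≤ sigmaCore M := hR₁Cq.trans hCqle
    have hcent : R₁ ≤ centralizer (A : Set G) := by
      apply le_centralizer_of_comm_mem (C := Cr) hP
      · intro x hx s hs
        have h1 : x * s * x⁻¹ ∈ Cr := (mem_normalizer_iff.mp (hnCr (hR₁S hx)) s).mp (hACr hs)
        exact Cr.mul_mem h1 (Cr.inv_mem (hACr hs))
      · exact inf_eq_bot_of_isPGroup_of_coprime hR₁r hCrcop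
    have hR₁Ms : R₁ ≤ Ms := hcent.trans (h16 Ms hMs q A ⟨hAMs, hAe, hAc⟩)
    have hR₁M : R₁ ≤ M := hR₁S.trans hHallM.1
    have hR₁SMs : R₁ ≤ sigmaCore Ms := le_sigmaCore_of_isPGroup hHallMs hrMs hR₁Ms hR₁r
    apply hR₁ne
    rw [eq_bot_iff, ← hMI]
    exact le_inf hR₁SMs hR₁M
  -- `N_G(A) ≤ M`
  have hNA : normalizer (A : Set G) ≤ M := by
    have h := (h4 M hM q hqM A hAq hAne hAM).2
    rw [h]
    exact sup_le inf_le_left (h16 M hM q A ⟨hAM, hAe, hAc⟩)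
  -- a Hall `σ(M)`-subgroup of `M*` over `A`
  haveI : Group.IsSolvable ↥Ms := isSolvable_of_ne_top hG hMs.1
  obtain ⟨m, n, hmn, hcop, hmπ, hnπ⟩ :=
    Cfsg.Agent.Lib.Helper19.HallRel.pi_factorization (sigma M) (Nat.card Ms) Nat.card_pos
  have hAn : (Nat.card A).Coprime n := by
    rw [hAc]; apply Nat.Coprime.pow_left
    rw [Nat.Prime.coprime_iff_not_dvd hq.out]
    intro hd; exact hnπ q hq.out hd hqM
  obtain ⟨Hs, hHsMs, hHsc, hAHs⟩ := hall_exists_ge m n hmn hcop hAMs hAn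
  have hHsI : Hs ⊓ sigmaCore Ms = ⊥ := by
    by_contra hne'
    have hc1 : Nat.card ↥(Hs ⊓ sigmaCore Ms) ≠ 1 := fun h => hne' (Subgroup.card_eq_one.mp h)
    obtain ⟨p, hp, hpd⟩ := Nat.exists_prime_and_dvd hc1
    have h1 : p ∈ sigma M :=
      hmπ p hp (hHsc ▸ hpd.trans (Subgroup.card_dvd_of_le inf_le_left))
    have h2 : p ∈ sigma Ms :=
      hHallMs.2.1 p hp (hpd.trans (Subgroup.card_dvd_of_le inf_le_right))
    exact claimB p h1 h2
  have hHsN : Hs ≤ normalizer (A : Set G) := by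
    intro h hh
    have hle : cj h A ≤ A := by
      intro t ht
      obtain ⟨a, ha, rfl⟩ := mem_cj'.mp ht
      have htHs : h * a * h⁻¹ ∈ Hs := Hs.mul_mem (Hs.mul_mem hh (hAHs ha)) (Hs.inv_mem hh)
      have htT : h * a * h⁻¹ ∈ A ⊔ sigmaCore Ms := by
        have hT : h ∈ normalizer ((sigmaCore Ms ⊔ A : Subgroup G) : Set G) := hnormT (hHsMs hh)
        have := (mem_normalizer_iff.mp hT a).mp (mem_sup_right ha)
        rwa [sup_comm] at this
      obtain ⟨a', ha', s, hs, heq⟩ :=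
        Cfsg.Agent.Lib.Helper24.exists_mul_of_mem_sup_of_le_normalizer A (sigmaCore Ms)
          (hAMs.trans (le_normalizer_sigmaCore Ms)) _ htT
      have hsHs : s ∈ Hs := by
        have : s = a'⁻¹ * (h * a * h⁻¹) := by rw [heq]; group
        rw [this]; exact Hs.mul_mem (Hs.inv_mem (hAHs ha')) htHs
      have hs1 : s = 1 := by
        have : s ∈ Hs ⊓ sigmaCore Ms := ⟨hsHs, hs⟩
        rwa [hHsI, mem_bot] at this
      rw [heq, hs1, mul_one]; exact ha'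
    have heq : cj h A = A := Subgroup.eq_of_le_of_card_ge hle (by rw [card_cj])
    exact cj_eq_self_iff.mp heq
  have hHsM : Hs ≤ M := hHsN.trans hNA
  have hHsσ : Hs ≤ sigmaCore M :=
    le_sigmaCore_of_pi hHallM hHsM (fun p hp hd => hmπ p hp (hHsc ▸ hd))
  have hYn : (Nat.card Y).Coprime n :=
    Nat.coprime_of_dvd (fun k hk h1 h2 => hnπ k hk h2 (hY k hk h1))
  obtain ⟨g, -, hg⟩ := hall_conj_le m n hmn hcop hHsMs hHsc hYMs hYn
  exact ⟨g, hg.trans hHsσ⟩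

end Cfsg.Agent.Lib.Helper68.BG1215
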