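import Cfsg.Agent.Lib.Helper68.BG134C
import Cfsg.Agent.S1403
import Cfsg.Agent.S1404
import Cfsg.Agent.S1414
import Cfsg.Agent.S1415
import Cfsg.Agent.S1417
import Cfsg.Agent.S1418
import Cfsg.Agent.S1424

set_option autoImplicit false
set_option linter.style.haveILetI false
set_option linter.unusedSectionVars false

/-!
# BG 13.4 (S1428), Case A2: unconditional form (uses the landed S1403, S1404, S1414, S1415, S1417,
S1418, S1424)
-/

namespace Cfsg.Agent.Lib.Helper68.BG134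

open Subgroup Cfsg

universe u

variable {G : Type u} [Group G] [Finite G]

/-- **Case A2** of B&G 13.4 (helper62's proof, board #2456): `p ∈ τ₁(M)`, `P ≤ M` of order `p`,
`C_{M_σ}(P) ≤ H`, `Q0 ≠ 1` a `q`-subgroup of `M` centralized by `P`, `q ∈ σ(M)`, `H` of `q`-rank at most
one, `r_p(G) ≤ 2`, `S ≠ 1` a `p`-group with `S ≤ [S, E_H]` (Lemma K), `S ≤ C_G(Q0)`,
`E_H ≤ N_G(Q0)`: contradiction. -/
theorem caseA2 (hG : IsMinSimpleOddOrder G)
    {M H : Subgroup G} (hM : IsCoatom M)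
    {p q : ℕ} [hp : Fact p.Prime] [hq : Fact q.Prime] (hpq : p ≠ q)
    (hp1 : p ∈ tau1 M) (hqM : q ∈ sigma M) (hqH : PRankLE q 1 ↥H)
    {P Q0 EH S : Subgroup G}
    (hP : Nat.card P = p) (hPM : P ≤ M)
    (hCP : sigmaCore M ⊓ centralizer (P : Set G) ≤ H)
    (hQ0 : IsPGroup q Q0) (hQ01 : Q0 ≠ ⊥) (hQ0M : Q0 ≤ M)
    (hPQ : P ≤ centralizer (Q0 : Set G))
    (hS : IsPGroup p S) (hS1 : S ≠ ⊥) (hSQ : S ≤ centralizer (Q0 : Set G))
    (hEQ : EH ≤ normalizer (Q0 : Set G)) (hSE : S ≤ ⁅S, EH⁆)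
    (hr2 : PRankLE p 2 G) : False :=
  caseA2_of hG
    (fun K h1 h2 h3 => Cfsg.Agent.S1403.result hG K h1 h2 h3)
    (fun M hM p _ hp X hXp hX1 hXM => Cfsg.Agent.S1404.result hG M hM p hp X hXp hX1 hXM)
    (fun M hM p hp hpd hpβ =>
      ⟨((Cfsg.Agent.S1414.result hG M hM).2.2.2.2 p hp hpd hpβ).2.1,
        ((Cfsg.Agent.S1414.result hG M hM).2.2.2.2 p hp hpd hpβ).2.2⟩)
    (fun M hM => (Cfsg.Agent.S1414.result hG M hM).1)
    (fun M hM E hE E₃ hE₃ => ((Cfsg.Agent.S1415.result hG M hM E hE).2.2 E₃ hE₃).2.2)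
    (fun M hM p _ hp A hA =>
      ⟨(Cfsg.Agent.S1417.result hG M hM p hp A hA).2.2.1,
        (Cfsg.Agent.S1417.result hG M hM p hp A hA).2.2.2.2.1⟩)
    (fun M hM E hE p _ hp A hA => (Cfsg.Agent.S1418.result hG M hM E hE p hp A hA).1)
    (fun M hM q _ hq X hXq hX1 hXM Ms hMs hne hNX S hXS =>
      Cfsg.Agent.S1424.result hG M hM q hq X hXq hX1 hXM Ms hMs hne hNX S hXS)
    hM hpq hp1 hqM hqH hP hPM hCP hQ0 hQ01 hQ0M hPQ hS hS1 hSQ hEQ hSE hr2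

end Cfsg.Agent.Lib.Helper68.BG134
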