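import Cfsg.Agent.Lib.Helper68.BG147U
import Cfsg.Agent.Lib.Helper56.BG143b
import Cfsg.Agent.Lib.Helper24.BG142II
import Cfsg.Agent.Lib.Helper21.HallSub
import Cfsg.Agent.Lib.Helper68.BG1215a
import Cfsg.Agent.Lib.Helper19.BG1311
import Cfsg.Agent.S1420
import Cfsg.Agent.S1378

/-!
# BG 14.7 (a)-(c): the partner `M*` of a maximal subgroup of type `𝒫` (S1366), PART E

* `partner_unique` : uniqueness of the partner (from Lemma U).
* `exists_partner_of` : if `M*` is a maximal subgroup over `N_G(X)`, `X ≤ K` of prime order, and every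
  subgroup of prime order of `K` lies in `M*_σ`, then `K* = C_{M_σ}(K)` is a Hall `κ(M*)`-subgroup
  of `M*` and `K = C_{M*_σ}(K*)`.
* `s1366_of` : S1366 from the statement of S1430 and "all `N_G(X)`, `X ≤ K` of prime order, lie in the
  same maximal subgroup" (`StmtPartnerEq`, PART S of helper90).
-/

set_option autoImplicit false
set_option linter.unusedSectionVars false
set_option linter.unusedVariables false

universe u

namespace Cfsg.Agent.Lib.Helper68.BG147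

open Subgroup Cfsg Cfsg.Agent.Lib.Helper33 Cfsg.Agent.Lib.Helper63
open Cfsg.Agent.Lib.Helper56.BG143 (Stmt1430 C1430 C1431 exists_prime_sub Ks_ne_bot)
open Cfsg.Agent.Lib.Helper70.BG14 (Stmt1378b)
open scoped commutatorElement

variable {G : Type u} [Group G] [Finite G]

/-- PART S as a hypothesis: all the normalizers `N_G(X)`, `X ≤ K` of prime order, lie in the same
maximal subgroup. -/
def StmtPartnerEq (G : Type u) [Group G] : Prop :=
  ∀ M K : Subgroup G, IsCoatom M → IsPiHallOf (kappa M) K M → IsCyclic K →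
    ∀ X X' L L' : Subgroup G, X ≤ K → (Nat.card X).Prime → X' ≤ K → (Nat.card X').Prime →
      IsCoatom L → normalizer (X : Set G) ≤ L → IsCoatom L' → normalizer (X' : Set G) ≤ L' → L = L'

/-- a subgroup of order `p` inside `A` when `p ∣ |A|` -/
theorem exists_sub_card_prime {A : Subgroup G} {p : ℕ} (hp : p.Prime) (hd : p ∣ Nat.card A) :
    ∃ Y : Subgroup G, Y ≤ A ∧ Nat.card Y = p := by
  haveI : Fact p.Prime := ⟨hp⟩
  obtain ⟨a, ha⟩ := exists_prime_orderOf_dvd_card' (G := ↥A) p hd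
  refine ⟨zpowers (a : G), ?_, ?_⟩
  · rw [zpowers_le]; exact a.2
  · rw [Nat.card_zpowers, Subgroup.orderOf_coe, ha]

/-- a Hall `π`-subgroup is a maximal `π`-subgroup -/
theorem hall_eq_of_le {π : Set ℕ} {K K' M : Subgroup G} (hK : IsPiHallOf π K M) (hle : K ≤ K')
    (hK'M : K' ≤ M) (hK' : ∀ p : ℕ, p.Prime → p ∣ Nat.card K' → p ∈ π) : K' = K := by
  apply le_antisymm _ hle
  rw [← Subgroup.relIndex_eq_one]
  by_contra hne
  obtain ⟨q, hq, hqd⟩ := Nat.exists_prime_and_dvd hne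
  have h1 : K.relIndex K' * K'.relIndex M = K.relIndex M :=
    Subgroup.relIndex_mul_relIndex K K' M hle hK'M
  have h2 : Nat.card K * K.relIndex K' = Nat.card K' :=
    Cfsg.Agent.Lib.Helper76.BGSigU.card_mul_relIndex hle
  have hqπ : q ∈ π := hK' q hq (h2 ▸ Dvd.dvd.mul_left hqd _)
  exact hK.2.2 q hq hqπ (h1 ▸ Dvd.dvd.mul_right hqd _)

/-- disjointness of `σ(M)` and `σ(N)` from one separating prime (BG 13.9) -/
theorem sigma_disj_of (hG : IsMinSimpleOddOrder G) {M N : Subgroup G} (hM : IsCoatom M)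
    (hN : IsCoatom N) {r : ℕ} (hrN : r ∈ sigma N) (hrM : r ∉ sigma M) :
    ∀ t : ℕ, t ∈ sigma M → t ∈ sigma N → False := by
  intro t htM htN
  obtain ⟨g, hg⟩ := (Cfsg.Agent.S1378.result hG).2 M N hM hN ⟨t, htM, htN⟩
  apply hrM
  have h3 : r ∈ sigma (cj g M) := by
    rw [cj_def, ← hg]; exact hrN
  have h4 := Cfsg.Agent.Lib.Helper63.BG13.sigma_cj g⁻¹ h3
  rwa [cj_inv_cj] at h4

/-- the "cross" lemma: a subgroup `Y ≤ N` of prime order `t ∉ σ(N)` centralizing a non-identity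
element of `N_σ`, with `C_G(Y)` inside another maximal subgroup `M ≠ N`, has `t ∈ κ(N)`. -/
theorem mem_kappa_of_cross (hG : IsMinSimpleOddOrder G) {M N : Subgroup G} (hM : IsCoatom M)
    (hN : IsCoatom N) (hne : M ≠ N) {Y : Subgroup G} (hYN : Y ≤ N) {t : ℕ} (ht : t.Prime)
    (hY : Nat.card Y = t) (htσ : t ∉ sigma N) (hCY : centralizer (Y : Set G) ≤ M)
    (hcent : sigmaCore N ⊓ centralizer (Y : Set G) ≠ ⊥) : t ∈ kappa N := by
  classical
  have hσN := BG13.hallStmt hG N hN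
  obtain ⟨E, hE⟩ := Cfsg.Agent.Lib.Helper10.BG13.exists_isComplIn_sigmaCore hσN
  have htN : t ∣ Nat.card N := hY ▸ Subgroup.card_dvd_of_le hYN
  have htE : t ∣ Nat.card E := Cfsg.Agent.Lib.Helper19.BG1311.dvd_card_compl hE ht htN htσ
  obtain ⟨-, hcl⟩ := Cfsg.Agent.Lib.Helper24.S1421.prime_class hG hN hE ht htE
  rcases hcl with h13 | h2
  · exact Cfsg.Agent.Lib.Helper32.BG142.eq_of_cent_ne_bot_mem_kappa hG hN h13 hYN hY hcent
  · exfalso
    obtain ⟨y, hyY, hy1, hyo, hyz⟩ :=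
      Cfsg.Agent.Lib.Helper30.BG142.exists_gen_of_card_prime (hY.symm ▸ ht : (Nat.card Y).Prime)
    obtain ⟨⟨z, hz⟩, hz1⟩ := (Subgroup.ne_bot_iff_exists_ne_one).1 hcent
    have hz1' : z ≠ 1 := fun h => hz1 (Subtype.ext h)
    obtain ⟨hzW, hzC⟩ := Subgroup.mem_inf.1 hz
    have hyz' : y * z = z * y := ((Subgroup.mem_centralizer_iff.1 hzC) y hyY)
    have h4 := (Cfsg.Agent.S1420.result hG N hN E hE).2.2.2 y (hYN hyY) hy1
      (by
        intro p hp hpd
        rw [hyo, hY] at hpd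
        rw [(Nat.prime_dvd_prime_iff_eq hp ht).1 hpd]; exact h2)
      ⟨hYN hyY, z, hzW, hz1', hyz'⟩
    have h5 : centralizer ({y} : Set G) ≤ M := by
      refine le_trans ?_ hCY
      rw [← hyz]
      exact Cfsg.Agent.Lib.Helper30.BG142.centralizer_singleton_le y
    exact hne (h4.2 M hM h5)

/-- **(E1)** uniqueness of the partner. -/
theorem partner_unique (hG : IsMinSimpleOddOrder G) (h30 : Stmt1430 G)
    {M K : Subgroup G} (hM : IsCoatom M) (hK : IsPiHallOf (kappa M) K M) (hK1 : K ≠ ⊥)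
    {M₁ M₂ : Subgroup G}
    (h1 : IsCoatom M₁ ∧ K = sigmaCore M₁ ⊓
        centralizer ((sigmaCore M ⊓ centralizer (K : Set G) : Subgroup G) : Set G) ∧
      IsPiHallOf (kappa M₁) (sigmaCore M ⊓ centralizer (K : Set G)) M₁)
    (h2 : IsCoatom M₂ ∧ K = sigmaCore M₂ ⊓
        centralizer ((sigmaCore M ⊓ centralizer (K : Set G) : Subgroup G) : Set G) ∧
      IsPiHallOf (kappa M₂) (sigmaCore M ⊓ centralizer (K : Set G)) M₂) : M₁ = M₂ := by
  have hKs1 := Ks_ne_bot hK hK1 (h30 M hM K hK hK1).1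
  obtain ⟨x, hxK, hxp⟩ := exists_prime_sub hK1
  have e1 := lemmaU hG h30 h1.1 h1.2.2 hKs1 (hxK.trans h1.2.1.le) hxp
  have e2 := lemmaU hG h30 h2.1 h2.2.2 hKs1 (hxK.trans h2.2.1.le) hxp
  exact e2.2 M₁ h1.1 e1.1

/-- **(E2)** existence of the partner, given that all subgroups of prime order of `K` lie in
`M*_σ` for one maximal subgroup `M*` over `N_G(X)`. -/
theorem exists_partner_of (hG : IsMinSimpleOddOrder G) (h30 : Stmt1430 G)
    {M K : Subgroup G} (hM : IsCoatom M) (hK : IsPiHallOf (kappa M) K M)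
    (hKab : ∀ a ∈ K, ∀ b ∈ K, a * b = b * a) (hK1 : K ≠ ⊥)
    {X Ms : Subgroup G} (hXK : X ≤ K) (hXp : (Nat.card X).Prime) (hMs : IsCoatom Ms)
    (hNX : normalizer (X : Set G) ≤ Ms)
    (hall : ∀ X' : Subgroup G, X' ≤ K → (Nat.card X').Prime → X' ≤ sigmaCore Ms) :
    K = sigmaCore Ms ⊓
        centralizer ((sigmaCore M ⊓ centralizer (K : Set G) : Subgroup G) : Set G) ∧
      IsPiHallOf (kappa Ms) (sigmaCore M ⊓ centralizer (K : Set G)) Ms := by
  classical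
  have hσM := BG13.hallStmt hG M hM
  have hσMs := BG13.hallStmt hG Ms hMs
  have h78 : Stmt1378b G := (Cfsg.Agent.S1378.result hG).2
  have C30 := h30 M hM K hK hK1
  obtain ⟨Ks, hKsdef⟩ : ∃ Ks : Subgroup G, Ks = sigmaCore M ⊓ centralizer (K : Set G) := ⟨_, rfl⟩
  rw [← hKsdef]
  have hKs1 : Ks ≠ ⊥ := hKsdef ▸ Ks_ne_bot hK hK1 C30.1
  have hKsW : Ks ≤ sigmaCore M := hKsdef ▸ inf_le_left
  have hKsC : Ks ≤ centralizer (K : Set G) := hKsdef ▸ inf_le_right
  have hKCs : K ≤ centralizer (Ks : Set G) := Subgroup.le_centralizer_iff.1 hKsC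
  have hNXM : M ⊓ normalizer (X : Set G) = K ⊔ Ks := by
    rw [hKsdef]; exact (C30.2.2 X hXK hXp).1
  -- the prime `r = |X|`
  have hX1 : X ≠ ⊥ := Cfsg.Agent.Lib.Helper30.BG142.ne_bot_of_card_prime hXp
  have hrκ : Nat.card X ∈ kappa M := hK.2.1 _ hXp (Subgroup.card_dvd_of_le hXK)
  have hrM : Nat.card X ∉ sigma M := hrκ.2.2.1
  have hXσ : X ≤ sigmaCore Ms := hall X hXK hXp
  have hrMs : Nat.card X ∈ sigma Ms :=
    Cfsg.Agent.Lib.Helper47.BG11.mem_sigma_of_dvd_card_le hXσ hXp dvd_rfl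
  have hdisj := sigma_disj_of hG hM hMs hrMs hrM
  have hne : M ≠ Ms := by
    rintro rfl
    exact hrM hrMs
  -- `K, K* ≤ M*`
  have hKCX : K ≤ centralizer (X : Set G) := by
    intro k hk
    rw [Subgroup.mem_centralizer_iff]
    intro x hx
    exact hKab x (hXK hx) k hk
  have hKMs : K ≤ Ms := (hKCX.trans (Subgroup.centralizer_le_normalizer _)).trans hNX
  have hKsMs : Ks ≤ Ms :=
    ((hKsC.trans (Subgroup.centralizer_le hXK)).trans
      (Subgroup.centralizer_le_normalizer _)).trans hNX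
  -- `K ≤ M*_σ`
  have hKσ : K ≤ sigmaCore Ms := by
    apply Cfsg.Agent.Lib.Helper68.BG1215.le_sigmaCore_of_pi hσMs hKMs
    intro p hp hpd
    obtain ⟨X', hX'K, hX'c⟩ := exists_sub_card_prime hp hpd
    have h1 := hall X' hX'K (hX'c.symm ▸ hp)
    exact Cfsg.Agent.Lib.Helper47.BG11.mem_sigma_of_dvd_card_le h1 hp (hX'c ▸ dvd_rfl)
  -- primes of `K*` are in `κ(M*)`
  have hKsκ : ∀ t : ℕ, t.Prime → t ∣ Nat.card Ks → t ∈ kappa Ms := by
    intro t ht htd
    obtain ⟨Y, hYKs, hYc⟩ := exists_sub_card_prime ht htd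
    have htM : t ∈ sigma M :=
      Cfsg.Agent.Lib.Helper47.BG11.mem_sigma_of_dvd_card_le (hYKs.trans hKsW) ht (hYc ▸ dvd_rfl)
    have hCY := (lemmaU hG h30 hM hK hK1 (hKsdef ▸ hYKs) (hYc.symm ▸ ht)).1
    refine mem_kappa_of_cross hG hM hMs hne (hYKs.trans hKsMs) ht hYc
      (fun h => hdisj t htM h) hCY ?_
    intro hbot
    apply hX1
    rw [eq_bot_iff, ← hbot]
    refine le_inf hXσ ?_
    exact (Subgroup.le_centralizer_iff.1 ((hYKs.trans hKsC).trans (Subgroup.centralizer_le hXK)))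
  -- a Hall `κ(M*)`-subgroup `K₁ ≥ K*`
  have hMstop : Ms ≠ ⊤ := hMs.1
  obtain ⟨K₁, hK₁H, hKsK₁⟩ := Cfsg.Agent.Lib.Helper21.exists_isPiHallOf_ge (kappa Ms) Ms
    (hG.2.2.2 Ms hMstop) Ks hKsMs hKsκ
  have hK₁1 : K₁ ≠ ⊥ := fun h => hKs1 (eq_bot_iff.2 (h ▸ hKsK₁))
  have C30s := h30 Ms hMs K₁ hK₁H hK₁1
  -- an element `y ∈ K*` of prime order
  obtain ⟨y, hyKs, hyp⟩ := exists_prime_sub hKs1
  have hyKs' : y ∈ Ks := hyKs (Subgroup.mem_zpowers y)
  have hy1 : y ≠ 1 := by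
    rintro rfl
    rw [Subgroup.zpowers_one_eq_bot, Subgroup.card_bot] at hyp
    exact Nat.not_prime_one hyp
  have hK₁s : sigmaCore Ms ⊓ centralizer ({y} : Set G) = sigmaCore Ms ⊓ centralizer (K₁ : Set G) :=
    C30s.1 y (hKsK₁ hyKs') hy1
  obtain ⟨K₁s, hK₁sdef⟩ : ∃ K₁s : Subgroup G, K₁s = sigmaCore Ms ⊓ centralizer (K₁ : Set G) :=
    ⟨_, rfl⟩
  rw [← hK₁sdef] at hK₁s
  have hYle : zpowers y ≤ sigmaCore M ⊓ centralizer (K : Set G) := hKsdef ▸ hyKs
  have hUy := lemmaU hG h30 hM hK hK1 hYle hyp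
  -- `K ≤ K₁*`
  have hKK₁s : K ≤ K₁s := by
    rw [← hK₁s]
    refine le_inf hKσ ?_
    intro k hk
    rw [Subgroup.mem_centralizer_iff]
    intro z hz
    rw [Set.mem_singleton_iff] at hz
    subst hz
    exact ((Subgroup.mem_centralizer_iff.1 (hKsC hyKs')) k hk).symm
  -- `K₁* ≤ M`
  have hK₁sM : K₁s ≤ M := by
    rw [← hK₁s]
    exact (inf_le_right.trans (Cfsg.Agent.Lib.Helper30.BG142.centralizer_singleton_le y)).trans
      hUy.1
  have hK₁sσ : K₁s ≤ sigmaCore Ms := hK₁sdef ▸ inf_le_left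
  have hK₁sy : K₁s ≤ centralizer ({y} : Set G) := hK₁s ▸ inf_le_right
  -- primes of `K₁*` are in `κ(M)`
  have hK₁sκ : ∀ q : ℕ, q.Prime → q ∣ Nat.card K₁s → q ∈ kappa M := by
    intro q hq hqd
    obtain ⟨Q, hQle, hQc⟩ := exists_sub_card_prime hq hqd
    have hqMs : q ∈ sigma Ms :=
      Cfsg.Agent.Lib.Helper47.BG11.mem_sigma_of_dvd_card_le (hQle.trans hK₁sσ) hq (hQc ▸ dvd_rfl)
    have hCQ := (lemmaU hG h30 hMs hK₁H hK₁1 (hK₁sdef ▸ hQle) (hQc.symm ▸ hq)).1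
    refine mem_kappa_of_cross hG hMs hM hne.symm (hQle.trans hK₁sM) hq hQc
      (fun h => hdisj q h hqMs) hCQ ?_
    intro hbot
    apply hy1
    have : y ∈ sigmaCore M ⊓ centralizer (Q : Set G) := by
      refine Subgroup.mem_inf.2 ⟨hKsW hyKs', ?_⟩
      rw [Subgroup.mem_centralizer_iff]
      intro a ha
      have := (Subgroup.mem_centralizer_iff.1 (hK₁sy (hQle ha))) y rfl
      exact this.symm
    rw [hbot, Subgroup.mem_bot] at this
    exact this
  -- `K₁* = K`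
  have hK₁sK : K₁s = K := hall_eq_of_le hK hKK₁s hK₁sM hK₁sκ
  -- `K₁ ≤ M`
  have hY1 : zpowers y ≠ ⊥ := Cfsg.Agent.Lib.Helper30.BG142.ne_bot_of_card_prime hyp
  have hYM : zpowers y ≤ M := (hyKs.trans hKsW).trans hσM.1
  have hYtop : zpowers y ≠ ⊤ := fun h => hM.1 (top_le_iff.mp (h ▸ hYM))
  have hNYM : normalizer ((zpowers y : Subgroup G) : Set G) ≤ M := by
    obtain ⟨L, hL, hNL⟩ :=
      Cfsg.Agent.Lib.Helper64.BG9.exists_coatom_ge (BG10.normalizer_ne_top hG hY1 hYtop)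
    have hLM : L = M :=
      Cfsg.Agent.Lib.Helper30.BG142.uniq_of_kstar hG h30 h78 hM hK hK1 hYle hyp hL hNL
    exact hLM ▸ hNL
  have hK₁NY : K₁ ≤ normalizer ((zpowers y : Subgroup G) : Set G) := by
    have h1 := (C30s.2.2 (zpowers y) (hyKs.trans hKsK₁) hyp).1
    have h2 : K₁ ≤ Ms ⊓ normalizer ((zpowers y : Subgroup G) : Set G) := h1 ▸ le_sup_left
    exact h2.trans inf_le_right
  have hK₁M : K₁ ≤ M := hK₁NY.trans hNYM
  -- `K₁ ≤ C(K)`
  have hK₁CK : K₁ ≤ centralizer (K : Set G) := by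
    have h1 : K ≤ centralizer (K₁ : Set G) := by
      rw [← hK₁sK, hK₁sdef]; exact inf_le_right
    exact Subgroup.le_centralizer_iff.1 h1
  have hK₁Z : K₁ ≤ K ⊔ Ks := by
    rw [← hNXM]
    exact le_inf hK₁M ((hK₁CK.trans (Subgroup.centralizer_le hXK)).trans
      (Subgroup.centralizer_le_normalizer _))
  -- coprimality
  have hcop : (Nat.card K₁).Coprime (Nat.card K) := by
    apply Nat.coprime_of_dvd
    intro q hq hq1 hq2
    exact (hK₁H.2.1 q hq hq1).2.2.1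
      (Cfsg.Agent.Lib.Helper47.BG11.mem_sigma_of_dvd_card_le hKσ hq hq2)
  have hKKs : K ⊓ Ks = ⊥ := by
    have hc : (Nat.card K).Coprime (Nat.card Ks) := by
      apply Nat.coprime_of_dvd
      intro q hq hq1 hq2
      exact (hK.2.1 q hq hq1).2.2.1
        (Cfsg.Agent.Lib.Helper47.BG11.mem_sigma_of_dvd_card_le hKsW hq hq2)
    exact (Subgroup.disjoint_of_coprime_natCard hc).eq_bot
  -- `K₁ ≤ K*`
  have hK₁Ks : K₁ ≤ Ks := by
    intro k hk
    obtain ⟨a, ha, b, hb, hab⟩ :=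
      Cfsg.Agent.Lib.Helper24.exists_mul_of_mem_sup_of_le_normalizer K Ks
        (hKCs.trans (Subgroup.centralizer_le_normalizer _)) k (hK₁Z hk)
    have hcomm : Commute a b := (Subgroup.mem_centralizer_iff.1 (hKsC hb)) a ha
    have hkm : k ^ Nat.card K₁ = 1 := by
      have := pow_card_eq_one' (G := ↥K₁) (x := ⟨k, hk⟩)
      exact congrArg Subtype.val this
    rw [hab, hcomm.mul_pow] at hkm
    have ham : a ^ Nat.card K₁ = 1 := by
      have h1 : a ^ Nat.card K₁ = (b ^ Nat.card K₁)⁻¹ := eq_inv_of_mul_eq_one_left hkm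
      have h2 : a ^ Nat.card K₁ ∈ K ⊓ Ks :=
        Subgroup.mem_inf.2 ⟨K.pow_mem ha _, h1 ▸ Ks.inv_mem (Ks.pow_mem hb _)⟩
      rw [hKKs, Subgroup.mem_bot] at h2
      exact h2
    have han : a ^ Nat.card K = 1 := by
      have := pow_card_eq_one' (G := ↥K) (x := ⟨a, ha⟩)
      exact congrArg Subtype.val this
    have ho1 : orderOf a ∣ Nat.card K₁ := orderOf_dvd_of_pow_eq_one ham
    have ho2 : orderOf a ∣ Nat.card K := orderOf_dvd_of_pow_eq_one han
    have ho : orderOf a = 1 := Nat.eq_one_of_dvd_coprimes hcop ho1 ho2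
    have ha1 : a = 1 := orderOf_eq_one_iff.1 ho
    rw [hab, ha1, one_mul]; exact hb
  have hK₁eq : K₁ = Ks := le_antisymm hK₁Ks hKsK₁
  refine ⟨?_, hK₁eq ▸ hK₁H⟩
  rw [← hK₁eq, ← hK₁sdef, hK₁sK]

/-- **S1366** from the statement of S1430 and PART S. -/
theorem s1366_of (hG : IsMinSimpleOddOrder G) (h30 : Stmt1430 G) (hS : StmtPartnerEq G)
    (M : Subgroup G) (hM : IsCoatom M) (K U : Subgroup G) (hKU : IsSigmaDecomposition M K U)
    (hK1 : K ≠ ⊥) :
    ∃! Mstar : Subgroup G, IsCoatom Mstar ∧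
      K = sigmaCore Mstar ⊓
        centralizer ((sigmaCore M ⊓ centralizer (K : Set G) : Subgroup G) : Set G) ∧
      IsPiHallOf (kappa Mstar) (sigmaCore M ⊓ centralizer (K : Set G)) Mstar := by
  have hK := hKU.hall
  have hKab := Cfsg.Agent.Lib.Helper56.BG143.comm_of_isCyclic hKU.cyclic
  have C30 := h30 M hM K hK hK1
  obtain ⟨x, hxK, hxp⟩ := exists_prime_sub hK1
  have hX1 : zpowers x ≠ ⊥ := Cfsg.Agent.Lib.Helper30.BG142.ne_bot_of_card_prime hxp
  have hXM : zpowers x ≤ M := hxK.trans hK.1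
  have hXtop : zpowers x ≠ ⊤ := fun h => hM.1 (top_le_iff.mp (h ▸ hXM))
  obtain ⟨Ms, hMs, hNX⟩ :=
    Cfsg.Agent.Lib.Helper64.BG9.exists_coatom_ge (BG10.normalizer_ne_top hG hX1 hXtop)
  have hall : ∀ X' : Subgroup G, X' ≤ K → (Nat.card X').Prime → X' ≤ sigmaCore Ms := by
    intro X' hX'K hX'p
    have hX'1 : X' ≠ ⊥ := Cfsg.Agent.Lib.Helper30.BG142.ne_bot_of_card_prime hX'p
    have hX'M : X' ≤ M := hX'K.trans hK.1
    have hX'top : X' ≠ ⊤ := fun h => hM.1 (top_le_iff.mp (h ▸ hX'M))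
    obtain ⟨L', hL', hNL'⟩ :=
      Cfsg.Agent.Lib.Helper64.BG9.exists_coatom_ge (BG10.normalizer_ne_top hG hX'1 hX'top)
    have heq : Ms = L' :=
      hS M K hM hK hKU.cyclic (zpowers x) X' Ms L' hxK hxp hX'K hX'p hMs hNX hL' hNL'
    rw [heq]
    exact (C30.2.2 X' hX'K hX'p).2.2 L' hL' hNL'
  have hex := exists_partner_of hG h30 hM hK hKab hK1 hxK hxp hMs hNX hall
  refine ⟨Ms, ⟨hMs, hex.1, hex.2⟩, ?_⟩
  intro M₂ h2
  exact partner_unique hG h30 hM hK hK1 h2 ⟨hMs, hex.1, hex.2⟩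

end Cfsg.Agent.Lib.Helper68.BG147
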