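import Mathlib
import Cfsg.Prelude.Def_OddOrder
import Cfsg.Prelude.Def_OddOrderLocal
import Cfsg.Prelude.Def_Solvable
import Cfsg.Agent.S1430
import Cfsg.Agent.S1373

/-!
# BG157 hive (S1383), leaf L4f: `K_faithful`
-/

set_option autoImplicit false

namespace Cfsg.Agent.Lib.Helper91.BG157

open Subgroup Cfsg

universe u

variable {G : Type u} [Group G] [Finite G]

/-- L4f.  `k ∈ K`, `k ≠ 1` centralizing `P` gives `P ≤ C_H(k) = K*` (S1430(1)), and `|K*|` is prime (S1373):
`P` cyclic. -/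
theorem K_faithful (hG : IsMinSimpleOddOrder G) {M K U : Subgroup G} (hM : IsCoatom M)
    (hKU : IsSigmaDecomposition M K U) (hK1 : K ≠ ⊥) (hU : U = ⊥) (P : Subgroup G)
    (hP : P ≤ sigmaCore M) (hPna : ¬ IsMulCommutative ↥P) :
    K ⊓ centralizer (P : Set G) = ⊥ := by
  rw [eq_bot_iff]
  intro k hk
  rw [mem_bot]
  by_contra hk1
  apply hPna
  obtain ⟨hkK, hkC⟩ := hk
  have hkK' : k ∈ K := hkK
  have h30 := (Cfsg.Agent.S1430.result hG M hM K hKU.hall hK1).1 k hkK' hk1
  have hprime := Cfsg.Agent.S1373.result hG M hM K U hKU hK1 hU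
  -- P ≤ K*
  have hPle : P ≤ sigmaCore M ⊓ centralizer (K : Set G) := by
    rw [← h30]
    intro x hx
    refine ⟨hP hx, ?_⟩
    change x ∈ centralizer ({k} : Set G)
    rw [mem_centralizer_iff]
    intro y hy
    rw [Set.mem_singleton_iff] at hy
    subst hy
    have hkC' : y ∈ centralizer (P : Set G) := hkC
    rw [mem_centralizer_iff] at hkC'
    exact (hkC' x hx).symm
  -- K* is cyclic hence commutative
  haveI : Fact (Nat.card ↥(sigmaCore M ⊓ centralizer (K : Set G))).Prime := ⟨hprime⟩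
  have hcyc : IsCyclic ↥(sigmaCore M ⊓ centralizer (K : Set G)) := isCyclic_of_prime_card rfl
  constructor
  constructor
  intro a b
  obtain ⟨g, hg⟩ := hcyc.exists_generator
  obtain ⟨i, hi⟩ := hg ⟨a, hPle a.2⟩
  obtain ⟨j, hj⟩ := hg ⟨b, hPle b.2⟩
  apply Subtype.ext
  have ha : (a : G) = (g : G) ^ i := by
    have := congrArg Subtype.val hi
    simpa using this.symm
  have hb : (b : G) = (g : G) ^ j := by
    have := congrArg Subtype.val hj
    simpa using this.symm
  simp only [Subgroup.coe_mul, ha, hb]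
  rw [← zpow_add, ← zpow_add, add_comm]

end Cfsg.Agent.Lib.Helper91.BG157
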