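import Cfsg.Agent.Lib.Helper15.HsBasic

/-! # Ha hive (helper14, S2534): leaf HA-D1 `dpi_of_le_one_prime` -/

set_option autoImplicit false

namespace Cfsg.Agent.Lib.Helper14.Ha

open Cfsg Cfsg.Agent.Lib.Helper15.Hs
open scoped Pointwise

theorem d1_map_conj_one {G : Type*} [Group G] (H : Subgroup G) :
    H.map (MulAut.conj (1 : G)).toMonoidHom = H := by
  ext x
  simp [Subgroup.mem_map]

theorem d1_smul_eq_map {G : Type*} [Group G] (g : G) (H : Subgroup G) :
    MulAut.conj g • H = H.map (MulAut.conj g).toMonoidHom := rfl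

theorem dpi_of_le_one_prime {G : Type*} [Group G] [Finite G] (π : Set ℕ)
    (h : ∀ r s : ℕ, r.Prime → s.Prime → r ∈ π → s ∈ π → r ∣ Nat.card G → s ∣ Nat.card G → r = s) :
    IsDPiGroup π G := by
  classical
  by_cases hex : ∃ p : ℕ, p.Prime ∧ p ∈ π ∧ p ∣ Nat.card G
  · obtain ⟨p, hp, hpπ, hpG⟩ := hex
    haveI : Fact p.Prime := ⟨hp⟩
    -- π-subgroups are exactly the p-subgroups
    have hiff : ∀ X : Subgroup G, IsPiSubgroup π X ↔ IsPGroup p X := by
      intro X
      constructor
      · intro hX
        have hpos : Nat.card X ≠ 0 := Nat.card_pos.ne'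
        have hpow : Nat.card X = p ^ (Nat.card X).factorization p := by
          apply Nat.eq_pow_of_factorization_eq_single hpos
          ext q
          by_cases hq : q = p
          · subst hq; simp
          · rw [Finsupp.single_apply, if_neg (Ne.symm hq)]
            by_contra hne
            have hqp : q.Prime := Nat.prime_of_mem_primeFactors
              (Nat.support_factorization _ ▸ Finsupp.mem_support_iff.2 hne)
            have hqd : q ∣ Nat.card X := Nat.dvd_of_mem_primeFactors
              (Nat.support_factorization _ ▸ Finsupp.mem_support_iff.2 hne)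
            exact hq (h q p hqp hp (hX q hqp hqd) hpπ
              (hqd.trans (Subgroup.card_subgroup_dvd_card X)) hpG)
        exact IsPGroup.of_card hpow
      · intro hX q hq hqd
        obtain ⟨k, hk⟩ := IsPGroup.iff_card.1 hX
        rw [hk] at hqd
        have := (Nat.prime_dvd_prime_iff_eq hq hp).1 (hq.dvd_of_dvd_pow hqd)
        rw [this]; exact hpπ
    have hsyl : ∀ H : Subgroup G, Maximal (IsPiSubgroup π) H → ∃ P : Sylow p G, (P : Subgroup G) = H := by
      intro H hH
      refine ⟨⟨H, (hiff H).1 hH.1, ?_⟩, rfl⟩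
      intro Q hQ hHQ
      exact le_antisymm (hH.2 ((hiff Q).2 hQ) hHQ) hHQ
    intro H K hH hK
    obtain ⟨P, rfl⟩ := hsyl H hH
    obtain ⟨Q, rfl⟩ := hsyl K hK
    obtain ⟨g, hg⟩ := MulAction.exists_smul_eq G P Q
    refine ⟨g, ?_⟩
    rw [← hg]
    exact (Sylow.coe_subgroup_smul (g := g) (P := P)).trans (d1_smul_eq_map g P)
  · -- no prime of π divides |G|: every π-subgroup is trivial
    have hbot : ∀ X : Subgroup G, IsPiSubgroup π X → X = ⊥ := by
      intro X hX
      by_contra hne
      have h1 : Nat.card X ≠ 1 := fun h1 => hne (Subgroup.card_eq_one.1 h1)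
      obtain ⟨q, hq, hqd⟩ := Nat.exists_prime_and_dvd h1
      exact hex ⟨q, hq, hX q hq hqd, hqd.trans (Subgroup.card_subgroup_dvd_card X)⟩
    intro H K hH hK
    refine ⟨1, ?_⟩
    rw [d1_map_conj_one, hbot H hH.1, hbot K hK.1]

end Cfsg.Agent.Lib.Helper14.Ha
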