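import Cfsg.Agent.Lib.Helper15.HsBasic

/-! # Ha hive (helper14, S2534): leaf HA-D2 `dpi_of_all_primes` (+ shared aux `d2_map_conj_one`) -/

set_option autoImplicit false

namespace Cfsg.Agent.Lib.Helper14.Ha

open Cfsg Cfsg.Agent.Lib.Helper15.Hs

theorem d2_map_conj_one {G : Type*} [Group G] (H : Subgroup G) :
    H.map (MulAut.conj (1 : G)).toMonoidHom = H := by
  ext x
  simp [Subgroup.mem_map]

theorem dpi_of_all_primes {G : Type*} [Group G] [Finite G] (π : Set ℕ)
    (h : ∀ r : ℕ, r.Prime → r ∣ Nat.card G → r ∈ π) : IsDPiGroup π G := by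
  have hall : ∀ X : Subgroup G, IsPiSubgroup π X := fun X p hp hpX =>
    h p hp (hpX.trans (Subgroup.card_subgroup_dvd_card X))
  have htop : ∀ H : Subgroup G, Maximal (IsPiSubgroup π) H → H = ⊤ := fun H hH =>
    top_le_iff.1 (hH.2 (hall ⊤) le_top)
  intro H K hH hK
  refine ⟨1, ?_⟩
  rw [d2_map_conj_one, htop H hH, htop K hK]

end Cfsg.Agent.Lib.Helper14.Ha
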