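import Mathlib
import Cfsg.Agent.Lib.Helper41.PsDefs
import Cfsg.Agent.Lib.Helper90.CgCG1

set_option autoImplicit false

namespace Cfsg.Agent.Lib.Helper41.Ps

open Subgroup
open Cfsg.Agent.Lib.Helper22.Cg

universe u

/-- class size of the inverse -/
theorem ps13_cs_inv {G : Type u} [Group G] (x : G) : cs x⁻¹ = cs x := by
  have : centralizer ({x⁻¹} : Set G) = centralizer ({x} : Set G) := by
    ext g
    simp only [Subgroup.mem_centralizer_iff, Set.mem_singleton_iff, forall_eq]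
    constructor
    · intro h
      have c : Commute x⁻¹ g := h
      have c' := c.inv_left
      rw [inv_inv] at c'
      exact c'.eq
    · intro h
      have c : Commute x g := h
      exact c.inv_left.eq
  unfold cs
  rw [this]

/-- a number `> 1` coprime to nothing... : if `d ∣ a * b`, `¬ d ∣ a` then some prime divides `d` and `b`. -/
theorem ps13_prime_of_not_dvd (d a b : ℕ) (hd : d ∣ a * b) (hna : ¬ d ∣ a) :
    ∃ t : ℕ, t.Prime ∧ t ∣ b ∧ t ∣ d := by
  by_contra hcon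
  push Not at hcon
  apply hna
  have hcop : Nat.Coprime d b := by
    rw [Nat.coprime_iff_gcd_eq_one]
    by_contra h1
    obtain ⟨t, ht, htd⟩ := Nat.exists_prime_and_dvd h1
    exact hcon t ht (htd.trans (Nat.gcd_dvd_right d b)) (htd.trans (Nat.gcd_dvd_left d b))
  exact hcop.dvd_of_dvd_mul_right hd

/-- PS13 core, with PS12 as a hypothesis. -/
theorem ps_case4_core {G : Type u} [Group G] [Finite G] (p : ℕ) [Fact p.Prime] (P : Sylow p G)
    (habs : ∀ x y : G, (cs x).Coprime (cs y) → cs (x * y) ∣ cs x → ¬ p ∣ cs x →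
      (∃ n : ℕ, orderOf y = p ^ n) → cs y = 1)
    (α z : G) (hα : α ∈ P) (hz : z ∈ P) (hcomm : α * z = z * α) (hpα : ¬ p ∣ cs α)
    (hpz : ¬ p ∣ cs z) (hcop : (cs α).Coprime (cs z)) (h1α : 1 < cs α) (h1z : 1 < cs z) :
    ∃ t t' : ℕ, t.Prime ∧ t'.Prime ∧ t ∣ cs α ∧ t' ∣ cs z ∧ t ∣ cs (α * z) ∧ t' ∣ cs (α * z) ∧
      p ∣ orderOf (α * z) := by
  have hp : p.Prime := Fact.out
  -- elements of P have p-power order
  have hpow : ∀ x : G, x ∈ P → ∃ n : ℕ, orderOf x = p ^ n := by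
    intro x hx
    obtain ⟨k, hk⟩ := P.isPGroup' ⟨x, hx⟩
    have h1 : x ^ (p ^ k) = 1 := by
      have := congrArg (fun y : ↥(P : Subgroup G) => (y : G)) hk
      simpa using this
    obtain ⟨j, _, hj⟩ := (Nat.dvd_prime_pow hp).mp (orderOf_dvd_of_pow_eq_one h1)
    exact ⟨j, hj⟩
  have hd := cg1b α z hcop
  -- t' : prime dividing cs z and d
  have h1 : ¬ cs (α * z) ∣ cs α := fun hdv => by
    have := habs α z hcop hdv hpα (hpow z hz)
    omega
  obtain ⟨t', ht', ht'z, ht'd⟩ := ps13_prime_of_not_dvd _ _ _ hd h1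
  have hd' : cs (z * α) ∣ cs z * cs α := cg1b z α hcop.symm
  have h2 : ¬ cs (z * α) ∣ cs z := fun hdv => by
    have := habs z α hcop.symm hdv hpz (hpow α hα)
    omega
  obtain ⟨t, ht, htα, htd⟩ := ps13_prime_of_not_dvd _ _ _ hd' h2
  rw [← hcomm] at htd
  refine ⟨t, t', ht, ht', htα, ht'z, htd, ht'd, ?_⟩
  -- α * z ≠ 1
  have hne : α * z ≠ 1 := by
    intro h
    have hz' : z = α⁻¹ := (eq_inv_of_mul_eq_one_right h)
    have : cs z = cs α := by rw [hz', ps13_cs_inv]
    rw [this, Nat.coprime_self] at hcop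
    omega
  obtain ⟨n, hn⟩ := hpow (α * z) (P.mul_mem hα hz)
  rw [hn]
  have hn0 : n ≠ 0 := by
    rintro rfl
    rw [pow_zero, orderOf_eq_one_iff] at hn
    exact hne hn
  exact dvd_pow_self p hn0

end Cfsg.Agent.Lib.Helper41.Ps
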