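import Mathlib
import Cfsg.Agent.Lib.Helper41.PsDefs
import Cfsg.Agent.Lib.Helper68.PsPS13core
import Cfsg.Agent.Lib.Helper55.PsPS12

/-!
# Ps hive (S4321), leaf PS13 `ps_case4` (helper68)
-/

set_option autoImplicit false

namespace Cfsg.Agent.Lib.Helper41.Ps

open Subgroup
open Cfsg.Agent.Lib.Helper22.Cg

universe u

/-- PS13. case 4: `α, z ∈ P` commuting, both class sizes prime to `p` and coprime, both `> 1`:
the product `α * z` is a link. (cg1b, PS12 twice, PS8) -/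
theorem ps_case4 {G : Type u} [Group G] [Finite G] (p : ℕ) [Fact p.Prime] (P : Sylow p G)
    (α z : G) (hα : α ∈ P) (hz : z ∈ P) (hcomm : α * z = z * α) (hpα : ¬ p ∣ cs α)
    (hpz : ¬ p ∣ cs z) (hcop : (cs α).Coprime (cs z)) (h1α : 1 < cs α) (h1z : 1 < cs z) :
    ∃ t t' : ℕ, t.Prime ∧ t'.Prime ∧ t ∣ cs α ∧ t' ∣ cs z ∧ t ∣ cs (α * z) ∧ t' ∣ cs (α * z) ∧
      p ∣ orderOf (α * z) :=
  ps_case4_core p P (fun x y hc hd hpx hy => ps_abs p x y hc hd hpx hy)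
    α z hα hz hcomm hpα hpz hcop h1α h1z

end Cfsg.Agent.Lib.Helper41.Ps
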