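import Mathlib
import Cfsg.Prelude.Def_ClassicalGeometry
import Cfsg.Prelude.Def_GeometricClasses
import Cfsg.Agent.Lib.Helper65.QeDefs
import Cfsg.Agent.Lib.Helper43.OrthCardNum
import Cfsg.Agent.Lib.Helper68.HyB1
import Cfsg.Agent.Lib.Helper2.TiFIXcore
import Cfsg.Agent.Lib.Helper8.SpBlkDec

/-! Qe hive (helper65, S5988), leaf QE-B1 `alt_blocks` (helper68): block theory for an alternating
form, via helper2's `Ti.fix_split` and helper8's `SpBlk.exists_blocks`. -/

set_option autoImplicit false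

namespace Cfsg.Agent.Lib.Helper65.Qe

open Polynomial Module
open Cfsg.Agent.Lib.Helper2.BG Cfsg.Agent.Lib.Helper99 Cfsg.Agent.Lib.Helper48.Ti
open Cfsg.Agent.Lib.Helper5.Hy

section abstract

variable {F V : Type*} [Field F] [Fintype F] [AddCommGroup V] [Module F V] [FiniteDimensional F V]
variable {Q : QuadraticForm F V}

/-- QE-B1 -/
theorem alt_blocks {B : V →ₗ[F] V →ₗ[F] F} (ha : ∀ v, B v v = 0) {f : Module.End F V}
    (hf : Isom B f) (r : ℕ) [Fact r.Prime] (hr2 : r ≠ 2) (hrq : ¬ r ∣ Fintype.card F)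
    (hfr : f ^ r = 1) (i c : ℕ) (hi : i = orderOf ((Fintype.card F : ℕ) : ZMod r))
    (hc : c = if Even i then i else 2 * i) {N : Submodule F V} (hNi : Inv f N) (hN : Nd B N) :
    Nd B (N ⊓ Fix f) ∧ ∃ s : ℕ, finrank F N = finrank F ↥(N ⊓ Fix f) + s * c ∧
      ∀ j ≤ s, ∃ W₁ : Submodule F V, W₁ ≤ N ∧ Inv f W₁ ∧ Nd B W₁ ∧ W₁ ⊓ Fix f = ⊥ ∧
        Orth B (Fix f) W₁ ∧ finrank F W₁ = j * c := by
  classical
  have hr : r.Prime := Fact.out
  obtain ⟨p, hp⟩ := CharP.exists F
  haveI := hp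
  have hpp : p.Prime := CharP.char_is_prime F p
  haveI : Fact p.Prime := ⟨hpp⟩
  have hrp : r ≠ p := by
    rintro rfl
    apply hrq
    obtain ⟨n, -, hn⟩ := FiniteField.card F r
    rw [hn]
    exact dvd_pow_self r n.ne_zero
  have hrF : (r : F) ≠ 0 := by
    intro h0
    rw [CharP.cast_eq_zero_iff F p] at h0
    exact hrp ((Nat.prime_dvd_prime_iff_eq hpp hr).mp h0).symm
  set P : F[X] := ∑ k ∈ Finset.range r, X ^ k with hP
  have hcop1 : IsCoprime (X - 1 : F[X]) P := b1h_coprime_sub r hrF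
  have hkill : aeval f ((X - 1) * P) = 0 := by
    rw [hP, b1h_geom, map_sub, map_pow, aeval_X, map_one, hfr, sub_self]
  obtain ⟨hfixnd, hMnd, hdim⟩ := fix_split ha hf hcop1 hkill hN hNi
  set M : Submodule F V := N ⊓ LinearMap.ker (aeval f P) with hM
  have hMinv : Inv f M := by
    intro v hv
    refine ⟨hNi v hv.1, ?_⟩
    show f v ∈ LinearMap.ker (aeval f P)
    rw [LinearMap.mem_ker]
    have h1 : aeval f P (f v) = f (aeval f P v) := by
      have : aeval f P * f = f * aeval f P := by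
        have := (Commute.all (X : F[X]) P)
        have h3 := congrArg (aeval f) this.eq
        rw [map_mul, map_mul, aeval_X] at h3
        exact h3.symm
      have := LinearMap.congr_fun this v
      simpa using this
    rw [h1, LinearMap.mem_ker.mp hv.2, map_zero]
  have hMP : ∀ v ∈ M, aeval f P v = 0 := fun v hv => LinearMap.mem_ker.mp hv.2
  have halt : LinearMap.BilinForm.IsAlt (B : LinearMap.BilinForm F V) := ha
  have hiso : ∀ a b, (B : LinearMap.BilinForm F V) (f a) (f b) = B a b := hf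
  have hMndω : Cfsg.Agent.Lib.Helper8.SpBlk.NonDeg (B : LinearMap.BilinForm F V) M := hMnd
  have hMfix : M ⊓ LinearMap.ker (f - 1) = ⊥ := by
    rw [eq_bot_iff]
    intro v hv
    obtain ⟨a, b, hab⟩ := hcop1
    have h1 : aeval f (a * (X - 1) + b * P) v = v := by rw [hab]; simp
    have h3 : (f - 1) v = 0 := LinearMap.mem_ker.mp hv.2
    have h4 : aeval f P v = 0 := hMP v hv.1
    rw [map_add, map_mul, map_mul, LinearMap.add_apply, Module.End.mul_apply,
      Module.End.mul_apply, h4, map_zero, add_zero, map_sub, aeval_X, map_one, h3, map_zero] at h1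
    rw [Submodule.mem_bot]
    exact h1.symm
  obtain ⟨s, hs1, hs2⟩ := Cfsg.Agent.Lib.Helper8.SpBlk.exists_blocks (p := p) halt hiso hr2 hrp hfr
    (finrank F M) M (by rfl) hMinv hMndω hMfix
  have hblk : Cfsg.Agent.Lib.Helper8.SpBlk.blk F r = c := by
    unfold Cfsg.Agent.Lib.Helper8.SpBlk.blk
    rw [hc, hi]
  rw [hblk] at hs1 hs2
  refine ⟨hfixnd, s, ?_, ?_⟩
  · rw [← hs1, hdim]
  · intro j hj
    obtain ⟨W, hWM, hWi, hWnd, hWd⟩ := hs2 j hj
    refine ⟨W, hWM.trans inf_le_left, hWi, hWnd, ?_, ?_, hWd⟩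
    · rw [eq_bot_iff]
      intro v hv
      rw [← hMfix]
      exact ⟨hWM hv.1, hv.2⟩
    · intro u hu v hv
      exact fix_orth hf hcop1 hu (hWM hv).2

end abstract

end Cfsg.Agent.Lib.Helper65.Qe
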