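import Mathlib
import Cfsg.Prelude.Def_Transfer
import Cfsg.Agent.Lib.Helper15.CycSylDefs

set_option autoImplicit false

/-!
# S4016 hive, leaf C3: `normalizer_le_of_le_cyclic`
-/

namespace Cfsg.Agent.Lib.Helper15.CycSyl

open Subgroup

variable {G : Type*} [Group G]

theorem c3_conj_mem (P Q : Subgroup G) (hcyc : IsCyclic P) (hQP : Q ≤ P) {g : G}
    (hg : g ∈ normalizer (P : Set G)) : ∀ x ∈ Q, g * x * g⁻¹ ∈ Q := by
  obtain ⟨z, hz⟩ := hcyc.exists_generator
  intro x hx
  have hzP : g * (z : G) * g⁻¹ ∈ P := (mem_normalizer_iff.mp hg _).mp z.2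
  obtain ⟨k, hk⟩ := hz ⟨_, hzP⟩
  obtain ⟨j, hj⟩ := hz ⟨x, hQP hx⟩
  have hk' : (z : G) ^ k = g * (z : G) * g⁻¹ := by
    have := congrArg Subtype.val hk
    simpa using this
  have hj' : (z : G) ^ j = x := by
    have := congrArg Subtype.val hj
    simpa using this
  have : g * x * g⁻¹ = x ^ k := by
    rw [← hj', ← zpow_mul, mul_comm, zpow_mul, hk']
    simp [conj_zpow]
  rw [this]
  exact Q.zpow_mem hx k

variable [Finite G] in
/-- [C3] Subgroups of a cyclic subgroup are normalized by its normalizer. -/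
theorem normalizer_le_of_le_cyclic (P Q : Subgroup G) (hcyc : IsCyclic P) (hQP : Q ≤ P) :
    normalizer (P : Set G) ≤ normalizer (Q : Set G) := by
  intro g hg
  rw [mem_normalizer_iff]
  intro h
  constructor
  · exact c3_conj_mem P Q hcyc hQP hg h
  · intro hh
    have := c3_conj_mem P Q hcyc hQP (inv_mem hg) _ hh
    have e : g⁻¹ * (g * h * g⁻¹) * g⁻¹⁻¹ = h := by group
    rwa [e] at this

end Cfsg.Agent.Lib.Helper15.CycSyl
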