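import Mathlib
import Cfsg.Prelude.Def_Transfer
import Cfsg.Agent.Lib.Helper15.CycSylDefs

set_option autoImplicit false

/-!
# S4016 hive, leaf C2: `comm_surj_of_fpf`
-/

namespace Cfsg.Agent.Lib.Helper15.CycSyl

open Subgroup

variable {G : Type*} [Group G] [Finite G]

/-- [C2] If `l` normalizes the abelian subgroup `Q` and fixes no nontrivial element, then every
element of `Q` is a commutator `b⁻¹ (l b l⁻¹)`. -/
theorem comm_surj_of_fpf (Q : Subgroup G) (hab : ∀ a ∈ Q, ∀ b ∈ Q, a * b = b * a) {l : G}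
    (hl : l ∈ normalizer (Q : Set G)) (hfpf : ∀ a ∈ Q, a ≠ 1 → l * a * l⁻¹ ≠ a) :
    ∀ a ∈ Q, ∃ b ∈ Q, a = b⁻¹ * (l * b * l⁻¹) := by
  have hn : ∀ b ∈ Q, l * b * l⁻¹ ∈ Q := fun b hb => (mem_normalizer_iff.mp hl b).mp hb
  let f : Q → Q := fun b => ⟨(b : G)⁻¹ * (l * b * l⁻¹), Q.mul_mem (Q.inv_mem b.2) (hn b b.2)⟩
  have hinj : Function.Injective f := by
    intro b c hbc
    have h1 : (b : G)⁻¹ * (l * b * l⁻¹) = (c : G)⁻¹ * (l * c * l⁻¹) := congrArg Subtype.val hbc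
    -- c * b⁻¹ is fixed
    have hfix : l * ((c : G) * (b : G)⁻¹) * l⁻¹ = (c : G) * (b : G)⁻¹ := by
      have e1 : l * ((c : G) * (b : G)⁻¹) * l⁻¹ = (l * c * l⁻¹) * (l * b * l⁻¹)⁻¹ := by group
      rw [e1]
      have hcomm : (b : G)⁻¹ * (l * b * l⁻¹) = (l * b * l⁻¹) * (b : G)⁻¹ :=
        hab _ (Q.inv_mem b.2) _ (hn b b.2)
      have hcomm2 : (c : G)⁻¹ * (l * c * l⁻¹) = (l * c * l⁻¹) * (c : G)⁻¹ :=
        hab _ (Q.inv_mem c.2) _ (hn c c.2)
      -- from h1: lc = c * b⁻¹ * lb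
      have h2 : (l * c * l⁻¹) = (c : G) * ((b : G)⁻¹ * (l * b * l⁻¹)) := by
        rw [h1]; group
      rw [h2]; group
    have hmem : (c : G) * (b : G)⁻¹ ∈ Q := Q.mul_mem c.2 (Q.inv_mem b.2)
    by_contra hne
    apply hfpf _ hmem _ hfix
    intro h1'
    apply hne
    have : (c : G) = b := by
      have := mul_inv_eq_one.mp h1'
      exact this
    exact Subtype.ext this.symm
  have hsurj : Function.Surjective f := Finite.injective_iff_surjective.mp hinj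
  intro a ha
  obtain ⟨b, hb⟩ := hsurj ⟨a, ha⟩
  exact ⟨b, b.2, (congrArg Subtype.val hb).symm⟩

end Cfsg.Agent.Lib.Helper15.CycSyl
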