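import Mathlib
import Cfsg.Prelude.Def_Transfer
import Cfsg.Agent.Lib.Helper15.CycSylDefs

set_option autoImplicit false

/-!
# S4016 hive, leaf B1: `good_sub`
-/

namespace Cfsg.Agent.Lib.Helper15.CycSyl

open Subgroup

variable {G : Type*} [Group G] [Finite G] {p : ℕ} [Fact p.Prime]

/-- [B1] `Good` for a subgroup, in ambient terms. -/
theorem good_sub (X : Subgroup G) (h : Good p ↥X) :
    Cfsg.HasNormalPComplement p ↥X ∨ PClosedSub p X := by
  rcases h with h | h
  · exact Or.inl h
  · right
    obtain ⟨P⟩ : Nonempty (Sylow p X) := inferInstance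
    have hPn : (P : Subgroup X).Normal := h P
    refine ⟨(P : Subgroup X).map X.subtype, map_subtype_le _, P.2.map _, ?_, ?_⟩
    · intro g hg
      rw [mem_normalizer_iff]
      intro x
      constructor
      · rintro ⟨y, hy, rfl⟩
        refine ⟨⟨g, hg⟩ * y * ⟨g, hg⟩⁻¹, hPn.conj_mem y hy ⟨g, hg⟩, ?_⟩
        simp
      · rintro ⟨y, hy, hyx⟩
        have hxX : x ∈ X := by
          have h1 : g * x * g⁻¹ ∈ X := by rw [← hyx]; exact y.2
          have : x = g⁻¹ * (g * x * g⁻¹) * g := by group
          rw [this]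
          exact X.mul_mem (X.mul_mem (X.inv_mem hg) h1) hg
        refine ⟨⟨x, hxX⟩, ?_, rfl⟩
        have h2 := hPn.conj_mem y hy (⟨g, hg⟩⁻¹ : X)
        have h3 : (⟨g, hg⟩⁻¹ : X) * y * (⟨g, hg⟩⁻¹ : X)⁻¹ = ⟨x, hxX⟩ := by
          apply Subtype.ext
          simp only [Subgroup.coe_mul, Subgroup.coe_inv, inv_inv]
          have : (y : G) = g * x * g⁻¹ := hyx
          rw [this]; group
        rwa [h3] at h2
    · rintro g hg ⟨k, hk⟩
      have hpg : IsPGroup p (zpowers (⟨g, hg⟩ : X)) := by
        apply IsPGroup.of_card (n := (Nat.card (zpowers (⟨g, hg⟩ : X))).factorization p)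
        rw [Nat.card_zpowers]
        have hdvd : orderOf (⟨g, hg⟩ : X) ∣ p ^ k := by
          apply orderOf_dvd_of_pow_eq_one
          apply Subtype.ext
          simpa using hk
        obtain ⟨j, _, hj⟩ := (Nat.dvd_prime_pow (Fact.out : p.Prime)).mp hdvd
        rw [hj, (Fact.out : p.Prime).factorization_pow]
        simp
      obtain ⟨P', hP'⟩ := hpg.exists_le_sylow
      haveI : Subsingleton (Sylow p X) := (Sylow.unique_of_normal P hPn).instSubsingleton
      have : P' = P := Subsingleton.elim _ _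
      rw [this] at hP'
      exact ⟨⟨g, hg⟩, hP' (mem_zpowers _), rfl⟩

end Cfsg.Agent.Lib.Helper15.CycSyl
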