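import Mathlib
import Cfsg.Prelude.Def_ClassicalGeometry
import Cfsg.Agent.Lib.Helper4.NdDefs
import Cfsg.Agent.Lib.Helper99.NdA6

/-! S5956 hive (helper4), leaf ND-A10 `exists_glue` (helper68): glue two isometries along an orthogonal
decomposition. -/

set_option autoImplicit false
open Matrix
open Cfsg.Agent.Lib.Helper99 (Nd dker sympB)

namespace Cfsg.Agent.Lib.Helper4.NdH

universe u v

variable {F : Type u} [Field F] {V : Type v} [AddCommGroup V] [Module F V]

theorem a10_alt_swap (B : V →ₗ[F] V →ₗ[F] F) (hB : Alt B) (v w : V) : B v w = - B w v := by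
  have h := hB (v + w)
  simp only [map_add, LinearMap.add_apply, hB v, hB w, zero_add, add_zero] at h
  rw [add_comm] at h
  exact eq_neg_of_add_eq_zero_left h

/-- the glued map -/
noncomputable def a10_glue (X X' : Submodule F V) (hc : IsCompl X X')
    (u₁ : X →ₗ[F] X) (u₂ : X' →ₗ[F] X') : V →ₗ[F] V :=
  LinearMap.ofIsCompl hc (X.subtype ∘ₗ u₁) (X'.subtype ∘ₗ u₂)

theorem a10_glue_left (X X' : Submodule F V) (hc : IsCompl X X')
    (u₁ : X →ₗ[F] X) (u₂ : X' →ₗ[F] X') (x : X) :
    a10_glue X X' hc u₁ u₂ (x : V) = (u₁ x : V) := by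
  unfold a10_glue
  rw [LinearMap.ofIsCompl_apply_left]
  rfl

theorem a10_glue_right (X X' : Submodule F V) (hc : IsCompl X X')
    (u₁ : X →ₗ[F] X) (u₂ : X' →ₗ[F] X') (x : X') :
    a10_glue X X' hc u₁ u₂ (x : V) = (u₂ x : V) := by
  unfold a10_glue
  rw [LinearMap.ofIsCompl_apply_right]
  rfl

theorem a10_decomp (X X' : Submodule F V) (hc : IsCompl X X') (v : V) :
    ∃ (x : X) (x' : X'), v = (x : V) + (x' : V) := by
  have hv : v ∈ X ⊔ X' := by rw [hc.sup_eq_top]; exact Submodule.mem_top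
  obtain ⟨x, hx, x', hx', rfl⟩ := Submodule.mem_sup.mp hv
  exact ⟨⟨x, hx⟩, ⟨x', hx'⟩, rfl⟩

theorem a10_pow_left (X X' : Submodule F V) (hc : IsCompl X X')
    (u₁ : X →ₗ[F] X) (u₂ : X' →ₗ[F] X') (k : ℕ) (x : X) :
    ((a10_glue X X' hc u₁ u₂ - 1 : Module.End F V) ^ k) (x : V)
      = (((u₁ - 1 : Module.End F X) ^ k) x : V) := by
  induction k generalizing x with
  | zero => simp
  | succ k ih =>
    rw [pow_succ, pow_succ, Module.End.mul_apply, Module.End.mul_apply]
    have : (a10_glue X X' hc u₁ u₂ - 1 : Module.End F V) (x : V)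
        = (((u₁ - 1 : Module.End F X) x : X) : V) := by
      rw [LinearMap.sub_apply, LinearMap.sub_apply, a10_glue_left]
      simp
    rw [this, ih]

theorem a10_pow_right (X X' : Submodule F V) (hc : IsCompl X X')
    (u₁ : X →ₗ[F] X) (u₂ : X' →ₗ[F] X') (k : ℕ) (x : X') :
    ((a10_glue X X' hc u₁ u₂ - 1 : Module.End F V) ^ k) (x : V)
      = (((u₂ - 1 : Module.End F X') ^ k) x : V) := by
  induction k generalizing x with
  | zero => simp
  | succ k ih =>
    rw [pow_succ, pow_succ, Module.End.mul_apply, Module.End.mul_apply]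
    have : (a10_glue X X' hc u₁ u₂ - 1 : Module.End F V) (x : V)
        = (((u₂ - 1 : Module.End F X') x : X') : V) := by
      rw [LinearMap.sub_apply, LinearMap.sub_apply, a10_glue_right]
      simp
    rw [this, ih]

/-- ND-A10 (GLUE) : `u = u₁ ⊕ u₂` (`LinearMap.ofIsCompl`). -/
theorem exists_glue [FiniteDimensional F V] (B : V →ₗ[F] V →ₗ[F] F) (hB : Alt B)
    (X X' : Submodule F V) (hc : IsCompl X X') (hperp : Perp B X X')
    (u₁ : X →ₗ[F] X) (u₂ : X' →ₗ[F] X')
    (h₁ : ∀ a b : X, B (u₁ a : V) (u₁ b : V) = B (a : V) (b : V))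
    (h₂ : ∀ a b : X', B (u₂ a : V) (u₂ b : V) = B (a : V) (b : V)) (K : ℕ)
    (hK₁ : (u₁ - 1 : Module.End F X) ^ K = 0) (hK₂ : (u₂ - 1 : Module.End F X') ^ K = 0)
    (μ₁ μ₂ : Multiset ℕ) (ht₁ : HasType (u₁ - 1 : Module.End F X) μ₁)
    (ht₂ : HasType (u₂ - 1 : Module.End F X') μ₂) :
    ∃ u : V →ₗ[F] V, Isom B u ∧ (u - 1 : Module.End F V) ^ K = 0 ∧
      HasType (u - 1 : Module.End F V) (μ₁ + μ₂) := by
  have hperp' : ∀ x' ∈ X', ∀ x ∈ X, B x' x = 0 := by
    intro x' hx' x hx
    rw [a10_alt_swap B hB, hperp x hx x' hx', neg_zero]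
  refine ⟨a10_glue X X' hc u₁ u₂, ?_, ?_, ?_⟩
  · intro v w
    obtain ⟨x, x', rfl⟩ := a10_decomp X X' hc v
    obtain ⟨y, y', rfl⟩ := a10_decomp X X' hc w
    simp only [map_add, LinearMap.add_apply, a10_glue_left, a10_glue_right]
    rw [h₁, h₂, hperp _ (u₁ x).2 _ (u₂ y').2, hperp' _ (u₂ x').2 _ (u₁ y).2,
      hperp _ x.2 _ y'.2, hperp' _ x'.2 _ y.2]
  · apply LinearMap.ext
    intro v
    obtain ⟨x, x', rfl⟩ := a10_decomp X X' hc v
    rw [map_add, a10_pow_left, a10_pow_right, hK₁, hK₂]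
    simp
  · have hW : ∀ w ∈ X, (a10_glue X X' hc u₁ u₂ - 1 : Module.End F V) w ∈ X := by
      intro w hw
      have := a10_pow_left X X' hc u₁ u₂ 1 ⟨w, hw⟩
      rw [pow_one, pow_one] at this
      rw [show w = ((⟨w, hw⟩ : X) : V) from rfl, this]
      exact Submodule.coe_mem _
    have hW' : ∀ w ∈ X', (a10_glue X X' hc u₁ u₂ - 1 : Module.End F V) w ∈ X' := by
      intro w hw
      have := a10_pow_right X X' hc u₁ u₂ 1 ⟨w, hw⟩
      rw [pow_one, pow_one] at this
      rw [show w = ((⟨w, hw⟩ : X') : V) from rfl, this]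
      exact Submodule.coe_mem _
    apply hasType_add_of_isCompl _ X X' hc hW hW' μ₁ μ₂
    · have : (a10_glue X X' hc u₁ u₂ - 1 : Module.End F V).restrict hW
          = (u₁ - 1 : Module.End F X) := by
        apply LinearMap.ext
        intro x
        apply Subtype.ext
        rw [LinearMap.coe_restrict_apply]
        have := a10_pow_left X X' hc u₁ u₂ 1 x
        rw [pow_one, pow_one] at this
        exact this
      rw [this]
      exact ht₁
    · have : (a10_glue X X' hc u₁ u₂ - 1 : Module.End F V).restrict hW'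
          = (u₂ - 1 : Module.End F X') := by
        apply LinearMap.ext
        intro x
        apply Subtype.ext
        rw [LinearMap.coe_restrict_apply]
        have := a10_pow_right X X' hc u₁ u₂ 1 x
        rw [pow_one, pow_one] at this
        exact this
      rw [this]
      exact ht₂

end Cfsg.Agent.Lib.Helper4.NdH
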