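import Cfsg.Agent.Lib.Helper37.B2O5Defs

/-! # Bo hive (S1083, helper37): leaf Bo-REL2-0 `rel2_0` (helper68): the commutator relations `[x_0(t), x_s(u)]`
in `O₅(F)`, checked in coordinates. -/

set_option autoImplicit false
set_option linter.unusedSectionVars false
set_option linter.unusedVariables false
set_option maxHeartbeats 1600000

namespace Cfsg.Agent.Lib.Helper37.B2O5

open Matrix Module QuadraticMap
open Cfsg.Agent.Lib.Helper8 Cfsg.Agent.Lib.Helper13 Cfsg.Agent.Lib.Helper37 Cfsg.Agent.Lib.Helper43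

variable {F : Type*} [Field F]

theorem rel2_0_case1 (t u : F) :
    (Xn 1 u)⁻¹ * (Xn 0 t)⁻¹ * Xn 1 u * Xn 0 t = wprod (Cfsg.Lie.chevB2.commWord F 0 1 t u) := by
  have h : Cfsg.Lie.chevB2.commTerms 0 1 = [] := by decide
  unfold wprod Cfsg.Lie.ChevalleyDatum.commWord
  rw [h]
  simp only [List.map_cons, List.map_nil, List.prod_cons, List.prod_nil, mul_one]
  rw [Xn_of_lt (by norm_num : 0 < 8), Xn_of_lt (by norm_num : 1 < 8), X_inv, X_inv]
  apply reflElt_ext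
  intro x
  simp only [act_mul, act_one]
  have e0 : ∀ (t : F) y, act (Q5 F) (X ⟨0, by norm_num⟩ t) y = act (Q5 F) (X 0 t) y := fun _ _ => rfl
  have e1 : ∀ (t : F) y, act (Q5 F) (X ⟨1, by norm_num⟩ t) y = act (Q5 F) (X 1 t) y := fun _ _ => rfl
  simp only [e0, e1, act_X0, act_X1]
  apply ext5 <;> simp <;> ring

theorem rel2_0_case2 (t u : F) :
    (Xn 2 u)⁻¹ * (Xn 0 t)⁻¹ * Xn 2 u * Xn 0 t = wprod (Cfsg.Lie.chevB2.commWord F 0 2 t u) := by
  have h : Cfsg.Lie.chevB2.commTerms 0 2 = [] := by decide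
  unfold wprod Cfsg.Lie.ChevalleyDatum.commWord
  rw [h]
  simp only [List.map_cons, List.map_nil, List.prod_cons, List.prod_nil, mul_one]
  rw [Xn_of_lt (by norm_num : 0 < 8), Xn_of_lt (by norm_num : 2 < 8), X_inv, X_inv]
  apply reflElt_ext
  intro x
  simp only [act_mul, act_one]
  have e0 : ∀ (t : F) y, act (Q5 F) (X ⟨0, by norm_num⟩ t) y = act (Q5 F) (X 0 t) y := fun _ _ => rfl
  have e2 : ∀ (t : F) y, act (Q5 F) (X ⟨2, by norm_num⟩ t) y = act (Q5 F) (X 2 t) y := fun _ _ => rfl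
  simp only [e0, e2, act_X0, act_X2]
  apply ext5 <;> simp <;> ring

theorem rel2_0_case3 (t u : F) :
    (Xn 3 u)⁻¹ * (Xn 0 t)⁻¹ * Xn 3 u * Xn 0 t = wprod (Cfsg.Lie.chevB2.commWord F 0 3 t u) := by
  have h : Cfsg.Lie.chevB2.commTerms 0 3 = [] := by decide
  unfold wprod Cfsg.Lie.ChevalleyDatum.commWord
  rw [h]
  simp only [List.map_cons, List.map_nil, List.prod_cons, List.prod_nil, mul_one]
  rw [Xn_of_lt (by norm_num : 0 < 8), Xn_of_lt (by norm_num : 3 < 8), X_inv, X_inv]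
  apply reflElt_ext
  intro x
  simp only [act_mul, act_one]
  have e0 : ∀ (t : F) y, act (Q5 F) (X ⟨0, by norm_num⟩ t) y = act (Q5 F) (X 0 t) y := fun _ _ => rfl
  have e3 : ∀ (t : F) y, act (Q5 F) (X ⟨3, by norm_num⟩ t) y = act (Q5 F) (X 3 t) y := fun _ _ => rfl
  simp only [e0, e3, act_X0, act_X3]
  apply ext5 <;> simp <;> ring

theorem rel2_0_case4 (t u : F) :
    (Xn 4 u)⁻¹ * (Xn 0 t)⁻¹ * Xn 4 u * Xn 0 t = wprod (Cfsg.Lie.chevB2.commWord F 0 4 t u) := by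
  have h : Cfsg.Lie.chevB2.commTerms 0 4 = [] := by decide
  unfold wprod Cfsg.Lie.ChevalleyDatum.commWord
  rw [h]
  simp only [List.map_cons, List.map_nil, List.prod_cons, List.prod_nil, mul_one]
  rw [Xn_of_lt (by norm_num : 0 < 8), Xn_of_lt (by norm_num : 4 < 8), X_inv, X_inv]
  apply reflElt_ext
  intro x
  simp only [act_mul, act_one]
  have e0 : ∀ (t : F) y, act (Q5 F) (X ⟨0, by norm_num⟩ t) y = act (Q5 F) (X 0 t) y := fun _ _ => rfl
  have e4 : ∀ (t : F) y, act (Q5 F) (X ⟨4, by norm_num⟩ t) y = act (Q5 F) (X 4 t) y := fun _ _ => rfl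
  simp only [e0, e4, act_X0, act_X4]
  apply ext5 <;> simp <;> ring

theorem rel2_0_case5 (t u : F) :
    (Xn 5 u)⁻¹ * (Xn 0 t)⁻¹ * Xn 5 u * Xn 0 t = wprod (Cfsg.Lie.chevB2.commWord F 0 5 t u) := by
  have h : Cfsg.Lie.chevB2.commTerms 0 5 = [(1, 1, 1, 1), (3, -1, 1, 2)] := by decide
  unfold wprod Cfsg.Lie.ChevalleyDatum.commWord
  rw [h]
  simp only [List.map_cons, List.map_nil, List.prod_cons, List.prod_nil, mul_one]
  rw [Xn_of_lt (by norm_num : 0 < 8), Xn_of_lt (by norm_num : 1 < 8), Xn_of_lt (by norm_num : 3 < 8), Xn_of_lt (by norm_num : 5 < 8), X_inv, X_inv]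
  apply reflElt_ext
  intro x
  simp only [act_mul, act_one]
  have e0 : ∀ (t : F) y, act (Q5 F) (X ⟨0, by norm_num⟩ t) y = act (Q5 F) (X 0 t) y := fun _ _ => rfl
  have e1 : ∀ (t : F) y, act (Q5 F) (X ⟨1, by norm_num⟩ t) y = act (Q5 F) (X 1 t) y := fun _ _ => rfl
  have e3 : ∀ (t : F) y, act (Q5 F) (X ⟨3, by norm_num⟩ t) y = act (Q5 F) (X 3 t) y := fun _ _ => rfl
  have e5 : ∀ (t : F) y, act (Q5 F) (X ⟨5, by norm_num⟩ t) y = act (Q5 F) (X 5 t) y := fun _ _ => rfl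
  simp only [e0, e1, e3, e5, act_X0, act_X1, act_X3, act_X5]
  apply ext5 <;> simp <;> ring

theorem rel2_0_case6 (t u : F) :
    (Xn 6 u)⁻¹ * (Xn 0 t)⁻¹ * Xn 6 u * Xn 0 t = wprod (Cfsg.Lie.chevB2.commWord F 0 6 t u) := by
  have h : Cfsg.Lie.chevB2.commTerms 0 6 = [(2, -1, 1, 1), (4, 1, 1, 2)] := by decide
  unfold wprod Cfsg.Lie.ChevalleyDatum.commWord
  rw [h]
  simp only [List.map_cons, List.map_nil, List.prod_cons, List.prod_nil, mul_one]
  rw [Xn_of_lt (by norm_num : 0 < 8), Xn_of_lt (by norm_num : 2 < 8), Xn_of_lt (by norm_num : 4 < 8), Xn_of_lt (by norm_num : 6 < 8), X_inv, X_inv]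
  apply reflElt_ext
  intro x
  simp only [act_mul, act_one]
  have e0 : ∀ (t : F) y, act (Q5 F) (X ⟨0, by norm_num⟩ t) y = act (Q5 F) (X 0 t) y := fun _ _ => rfl
  have e2 : ∀ (t : F) y, act (Q5 F) (X ⟨2, by norm_num⟩ t) y = act (Q5 F) (X 2 t) y := fun _ _ => rfl
  have e4 : ∀ (t : F) y, act (Q5 F) (X ⟨4, by norm_num⟩ t) y = act (Q5 F) (X 4 t) y := fun _ _ => rfl
  have e6 : ∀ (t : F) y, act (Q5 F) (X ⟨6, by norm_num⟩ t) y = act (Q5 F) (X 6 t) y := fun _ _ => rfl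
  simp only [e0, e2, e4, e6, act_X0, act_X2, act_X4, act_X6]
  apply ext5 <;> simp <;> ring

/-- BO-REL2-0 -/
theorem rel2_0 (s : ℕ) (hs : s < 8) (h1 : s ≠ 0) (h2 : s ≠ 7) (t u : F) :
    (Xn s u)⁻¹ * (Xn 0 t)⁻¹ * Xn s u * Xn 0 t = wprod (Cfsg.Lie.chevB2.commWord F 0 s t u) := by
  interval_cases s
  · exact absurd rfl h1
  · exact rel2_0_case1 t u
  · exact rel2_0_case2 t u
  · exact rel2_0_case3 t u
  · exact rel2_0_case4 t u
  · exact rel2_0_case5 t u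
  · exact rel2_0_case6 t u
  · exact absurd rfl h2

end Cfsg.Agent.Lib.Helper37.B2O5
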