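import Cfsg.Agent.Lib.Helper23.NStarDefs
import Cfsg.Agent.Lib.Helper68.BG147E

/-!
# Case N star structure (helper23's skeleton): leaves A3 (`mem_kappa_of_centralizer_le`) and
A9b (`base_cent`)
-/

set_option autoImplicit false
set_option linter.style.haveILetI false
set_option linter.unusedSectionVars false
set_option linter.unusedVariables false

namespace Cfsg.Agent.Lib.Helper23.NStar

open Subgroup Cfsg
open Cfsg.Agent.Lib.Helper19.BG1311

universe u

variable {G : Type u} [Group G] [Finite G] {M E X L X' L' : Subgroup G}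

/-- LEAF A3 (pure BG, no Ctx). `r := |R| ∉ σ(L)`, `C_{L_σ}(R) ≠ 1`, and `C_G(R)` lies in a maximal
subgroup `L₀ ≠ L` ⟹ `r ∈ κ(L)`. -/
theorem mem_kappa_of_centralizer_le (hG : IsMinSimpleOddOrder G) {L R L₀ : Subgroup G}
    (hL : IsCoatom L) (hRL : R ≤ L) (hR : (Nat.card R).Prime) (hRσ : Nat.card R ∉ sigma L)
    (hne : sigmaCore L ⊓ centralizer (R : Set G) ≠ ⊥) (hL₀ : IsCoatom L₀) (hne0 : L₀ ≠ L)
    (hC : centralizer (R : Set G) ≤ L₀) : Nat.card R ∈ kappa L :=
  Cfsg.Agent.Lib.Helper68.BG147.mem_kappa_of_cross hG hL₀ hL hne0 hRL hR rfl hRσ hC hne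

/-- the statement of S1430 as helper56's Prop -/
theorem base_cent_stmt1430 (hG : IsMinSimpleOddOrder G) :
    Cfsg.Agent.Lib.Helper56.BG143.Stmt1430 G :=
  fun M hM K hK hK1 => Cfsg.Agent.S1430.result hG M hM K hK hK1

/-- elements of `W ∩ Z` lie in `K*` -/
theorem base_cent_mem (c : Ctx M E) {a : G}
    (ha : a ∈ sigmaCore M ⊓ (E ⊔ (sigmaCore M ⊓ centralizer (E : Set G)))) :
    a ∈ sigmaCore M ⊓ centralizer (E : Set G) := by
  obtain ⟨haW, haZ⟩ := Subgroup.mem_inf.1 ha
  have hEn : E ≤ normalizer ((sigmaCore M ⊓ centralizer (E : Set G) : Subgroup G) : Set G) := by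
    have h1 : sigmaCore M ⊓ centralizer (E : Set G) ≤ centralizer (E : Set G) := inf_le_right
    exact (Subgroup.le_centralizer_iff.1 h1).trans (Subgroup.centralizer_le_normalizer _)
  obtain ⟨e, he, k, hk, hek⟩ :=
    Cfsg.Agent.Lib.Helper24.exists_mul_of_mem_sup_of_le_normalizer E
      (sigmaCore M ⊓ centralizer (E : Set G)) hEn a haZ
  have hkW : k ∈ sigmaCore M := (Subgroup.mem_inf.1 hk).1
  have heW : e ∈ sigmaCore M := by
    have : e = a * k⁻¹ := by rw [hek]; group
    rw [this]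
    exact (sigmaCore M).mul_mem haW ((sigmaCore M).inv_mem hkW)
  have he1 : e = 1 := by
    have : e ∈ E ⊓ sigmaCore M := Subgroup.mem_inf.2 ⟨he, heW⟩
    rw [c.hE.2.2.1, Subgroup.mem_bot] at this
    exact this
  rw [hek, he1, one_mul]; exact hk

/-- LEAF A9b. `a ∈ W ∩ Z` of prime order: `⟨a⟩ ≤ K*`, then Lemma U. -/
theorem base_cent (hG : IsMinSimpleOddOrder G) (c : Ctx M E) {a : G}
    (ha : a ∈ sigmaCore M ⊓ (E ⊔ (sigmaCore M ⊓ centralizer (E : Set G))))
    (hao : (orderOf a).Prime) : centralizer ({a} : Set G) ≤ M := by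
  have haK := base_cent_mem c ha
  have hle : zpowers a ≤ sigmaCore M ⊓ centralizer (E : Set G) := by
    rw [zpowers_le]; exact haK
  have hp : (Nat.card (zpowers a)).Prime := by rw [Nat.card_zpowers]; exact hao
  have := (Cfsg.Agent.Lib.Helper68.BG147.lemmaU hG (base_cent_stmt1430 hG) c.hM (c.hallE hG)
    c.hE1 hle hp).1
  exact (Cfsg.Agent.Lib.Helper30.BG142.centralizer_singleton_le a).trans this

end Cfsg.Agent.Lib.Helper23.NStar
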