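import Cfsg.Agent.Lib.Helper23.NStarA1
import Cfsg.Agent.Lib.Helper68.NStarA3
import Cfsg.Agent.Lib.Helper70.BG1369
import Cfsg.Agent.S1404

/-!
# Case N star structure (helper23's skeleton): leaves A2 (`par_unique`) and A4 (`par_kappa`)
-/

set_option autoImplicit false
set_option linter.style.haveILetI false
set_option linter.unusedSectionVars false
set_option linter.unusedVariables false

namespace Cfsg.Agent.Lib.Helper23.NStar

open Subgroup Cfsg Cfsg.Agent.Lib.Helper33
open Cfsg.Agent.Lib.Helper19.BG1311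

universe u

variable {G : Type u} [Group G] [Finite G] {M E X L X' L' : Subgroup G}

/-- a subgroup of prime order is nontrivial -/
theorem par_unique_ne_bot {R : Subgroup G} (hR : (Nat.card R).Prime) : R ≠ ⊥ := by
  intro h
  rw [h, Subgroup.card_bot] at hR
  exact Nat.not_prime_one hR

/-- LEAF A2. Conjugate partners are equal. -/
theorem par_unique (hG : IsMinSimpleOddOrder G) (c : Ctx M E) (d : Par E X L) (d' : Par E X' L')
    (hconj : ∃ g : G, L' = L.map (MulAut.conj g).toMonoidHom) : L' = L := by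
  obtain ⟨g, hg⟩ := hconj
  have hb := par_basic hG c d
  have hb' := par_basic hG c d'
  have hX'L : X' ≤ L := (d'.hXE.trans le_sup_left).trans hb.2.2.2.2.1
  have hX'L' : X' ≤ L' := Subgroup.le_normalizer.trans d'.hNL
  haveI : Fact (Nat.card X').Prime := ⟨d'.hX⟩
  have hXp : IsPGroup (Nat.card X') X' := IsPGroup.of_card (n := 1) (by rw [pow_one])
  have hX1 : X' ≠ ⊥ := par_unique_ne_bot d'.hX
  have hcjle : X'.map (MulAut.conj g).toMonoidHom ≤ L' := by
    rw [hg]
    exact Subgroup.map_mono hX'L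
  obtain ⟨m, hm, c', hc', hgmc⟩ :=
    (Cfsg.Agent.S1404.result hG L' d'.hL (Nat.card X') hb'.2.1 X' hXp hX1 hX'L').1 g hcjle
  have hc'L' : c' ∈ L' := d'.hNL (Subgroup.centralizer_le_normalizer _ hc')
  have hgL' : g ∈ L' := by rw [hgmc]; exact L'.mul_mem hm hc'L'
  have h1 : cj g L = L' := hg.symm
  have h2 : L = cj g⁻¹ L' := cj_eq_iff.1 h1
  rw [h2, cj_eq_self_of_mem (L'.inv_mem hgL')]

/-- `|E|` and `|K*|` are coprime -/
theorem par_kappa_coprime (hG : IsMinSimpleOddOrder G) (c : Ctx M E) :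
    (Nat.card E).Coprime (Nat.card ↥(sigmaCore M ⊓ centralizer (E : Set G))) := by
  apply Nat.coprime_of_dvd
  intro p hp hpE hpK
  have hκ := (c.hallE hG).2.1 p hp hpE
  exact hκ.2.2.1 (Cfsg.Agent.Lib.Helper60.BG139.mem_sigma_of_dvd_card_sigmaCore hG c.hM hp
    (hpK.trans (Subgroup.card_dvd_of_le inf_le_left)))

/-- two subgroups normalizing each other with trivial intersection commute -/
theorem par_kappa_comm {R X : Subgroup G} (h1 : R ≤ normalizer (X : Set G))
    (h2 : X ≤ normalizer (R : Set G)) (h3 : R ⊓ X = ⊥) : X ≤ centralizer (R : Set G) := by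
  intro x hx
  rw [mem_centralizer_iff]
  intro r hr
  have hr' : r ∈ R := hr
  have ha : r * x * r⁻¹ * x⁻¹ ∈ X := by
    have := (mem_normalizer_iff.1 (h1 hr') x).1 hx
    exact X.mul_mem this (X.inv_mem hx)
  have hb : r * x * r⁻¹ * x⁻¹ ∈ R := by
    have := (mem_normalizer_iff.1 (h2 hx) r⁻¹).1 (R.inv_mem hr')
    have h4 : r * x * r⁻¹ * x⁻¹ = r * (x * r⁻¹ * x⁻¹) := by group
    rw [h4]
    exact R.mul_mem hr' this
  have hc : r * x * r⁻¹ * x⁻¹ ∈ R ⊓ X := ⟨hb, ha⟩
  rw [h3, Subgroup.mem_bot] at hc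
  have : r * x = x * r := by
    have h5 : r * x = (r * x * r⁻¹ * x⁻¹) * (x * r) := by group
    rw [h5, hc, one_mul]
  exact this

/-- LEAF A4. Every subgroup `R ≤ Z` of prime order `r ∉ σ(L)` has `r ∈ κ(L)`. -/
theorem par_kappa (hG : IsMinSimpleOddOrder G) (c : Ctx M E) (d : Par E X L) {R : Subgroup G}
    (hRZ : R ≤ E ⊔ (sigmaCore M ⊓ centralizer (E : Set G))) (hR : (Nat.card R).Prime)
    (hRσ : Nat.card R ∉ sigma L) : Nat.card R ∈ kappa L := by
  have hb := par_basic hG c d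
  have hRL : R ≤ L := hRZ.trans hb.2.2.2.2.1
  have hX1 : X ≠ ⊥ := par_unique_ne_bot d.hX
  have hR1 : R ≠ ⊥ := par_unique_ne_bot hR
  have hcomm : ∀ a ∈ E, ∀ b ∈ sigmaCore M ⊓ centralizer (E : Set G), a * b = b * a := by
    intro a ha b hb
    exact ((mem_centralizer_iff.1 hb.2) a ha)
  -- in both cases `X ≤ C(R)`, so `C_{L_σ}(R) ≠ 1`
  have hne_of : X ≤ centralizer (R : Set G) → sigmaCore L ⊓ centralizer (R : Set G) ≠ ⊥ := by
    intro h hbot
    apply hX1
    rw [eq_bot_iff, ← hbot]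
    exact le_inf hb.1 h
  rcases Cfsg.Agent.Lib.Helper70.BG1369.le_or_le_of_card_prime hcomm (par_kappa_coprime hG c)
    hRZ hR with hRE | hRK
  · -- `R ≤ E`
    have hRnX : R ≤ normalizer (X : Set G) := hRE.trans (c.hnorm X d.hXE d.hX)
    have hXnR : X ≤ normalizer (R : Set G) := d.hXE.trans (c.hnorm R hRE hR)
    have hneq : Nat.card R ≠ Nat.card X := by
      intro h
      apply hRσ
      rw [h]; exact hb.2.1
    have hcop : (Nat.card R).Coprime (Nat.card X) := (Nat.coprime_primes hR d.hX).2 hneq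
    have hRX : R ⊓ X = ⊥ := (Subgroup.disjoint_of_coprime_natCard hcop).eq_bot
    have hXC : X ≤ centralizer (R : Set G) := par_kappa_comm hRnX hXnR hRX
    have hRtop : R ≠ ⊤ := by
      intro h
      exact d.hL.1 (top_le_iff.mp (h ▸ hRL))
    obtain ⟨L₀, hL₀, hNL₀⟩ := Cfsg.Agent.Lib.Helper56.BG10.exists_coatom_ge
      (Cfsg.Agent.Lib.Helper63.BG10.normalizer_ne_top hG hR1 hRtop)
    have d₀ : Par E R L₀ := ⟨hRE, hR, hL₀, hNL₀⟩
    have hb₀ := par_basic hG c d₀
    have hne0 : L₀ ≠ L := by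
      intro h
      apply hRσ
      rw [← h]; exact hb₀.2.1
    exact mem_kappa_of_centralizer_le hG d.hL hRL hR hRσ (hne_of hXC) hL₀ hne0
      ((Subgroup.centralizer_le_normalizer _).trans hNL₀)
  · -- `R ≤ K*`
    have hXC : X ≤ centralizer (R : Set G) := by
      intro x hx
      rw [mem_centralizer_iff]
      intro r hr
      have hrK := hRK hr
      exact ((mem_centralizer_iff.1 hrK.2) x (d.hXE hx)).symm
    have hCM := (Cfsg.Agent.Lib.Helper68.BG147.lemmaU hG (base_cent_stmt1430 hG) c.hM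
      (c.hallE hG) c.hE1 hRK hR).1
    have hne0 : M ≠ L := by
      intro h
      apply hb.2.2.2.1 1
      rw [← h]
      exact (cj_one M).symm
    exact mem_kappa_of_centralizer_le hG d.hL hRL hR hRσ (hne_of hXC) c.hM hne0 hCM

end Cfsg.Agent.Lib.Helper23.NStar
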