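import Cfsg.Agent.Lib.Helper21.Lo.Defs

/-! # Lo sub-hive (helper21) of the We hive (S2347, helper14): leaf LO-LEVI `exists_levi` (helper68).
The Levi matrix `[[g,0],[0,g⁻ᵀ]]` is symplectic and conjugates `uMat S` to `uMat (g⁻¹ S g⁻ᵀ)`. -/

set_option autoImplicit false

namespace Cfsg.Agent.Lib.Helper21.Lo

open Module Cfsg.Agent.Lib.Helper6.Ls Cfsg.Agent.Lib.Helper13 Cfsg.Agent.Lib.Helper21.Lq

section concrete

variable {F : Type*} [Field F] [Fintype F] [DecidableEq F]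

/-- `[[G,0],[0,Hᵀ]]` is symplectic when `G * H = 1`. -/
theorem levi_mem (n : ℕ) (G H : Matrix (Fin n) (Fin n) F) (hGH : G * H = 1) :
    Matrix.fromBlocks G 0 0 H.transpose ∈ Matrix.symplecticGroup (Fin n) F := by
  have hHG : H * G = 1 := mul_eq_one_comm.mp hGH
  rw [SymplecticGroup.mem_iff, Matrix.J, Matrix.fromBlocks_transpose,
    Matrix.fromBlocks_multiply, Matrix.fromBlocks_multiply]
  simp only [Matrix.transpose_zero, Matrix.transpose_transpose, Matrix.mul_zero, Matrix.zero_mul,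
    Matrix.mul_one, Matrix.mul_neg, add_zero, zero_add, Matrix.neg_mul]
  rw [hGH, ← Matrix.transpose_mul, hGH, Matrix.transpose_one, neg_zero]

/-- LO-LEVI -/
theorem exists_levi (n : ℕ) (g : GL (Fin n) F) :
    ∃ y : Spg F n, ∀ (S : Matrix (Fin n) (Fin n) F) (a : Spg F n),
      (a : Matrix (Fin n ⊕ Fin n) (Fin n ⊕ Fin n) F) = uMat S →
      ((y⁻¹ * a * y : Spg F n) : Matrix (Fin n ⊕ Fin n) (Fin n ⊕ Fin n) F) =
        uMat (((g⁻¹ : GL (Fin n) F) : Matrix (Fin n) (Fin n) F) * S *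
          ((g⁻¹ : GL (Fin n) F) : Matrix (Fin n) (Fin n) F).transpose) := by
  set G : Matrix (Fin n) (Fin n) F := (g : Matrix (Fin n) (Fin n) F) with hG
  set H : Matrix (Fin n) (Fin n) F := ((g⁻¹ : GL (Fin n) F) : Matrix (Fin n) (Fin n) F) with hH
  have hGH : G * H = 1 := by
    rw [hG, hH, ← Units.val_mul, mul_inv_cancel, Units.val_one]
  have hHG : H * G = 1 := mul_eq_one_comm.mp hGH
  refine ⟨⟨Matrix.fromBlocks G 0 0 H.transpose, levi_mem n G H hGH⟩, ?_⟩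
  intro S a ha
  set y : Spg F n := ⟨Matrix.fromBlocks G 0 0 H.transpose, levi_mem n G H hGH⟩ with hy
  have hyinv : ((y⁻¹ : Spg F n) : Matrix (Fin n ⊕ Fin n) (Fin n ⊕ Fin n) F) *
      (y : Matrix (Fin n ⊕ Fin n) (Fin n ⊕ Fin n) F) = 1 := by
    have := congrArg Subtype.val (inv_mul_cancel y)
    exact this
  have hcomm : (a : Matrix (Fin n ⊕ Fin n) (Fin n ⊕ Fin n) F) *
      (y : Matrix (Fin n ⊕ Fin n) (Fin n ⊕ Fin n) F) =
      (y : Matrix (Fin n ⊕ Fin n) (Fin n ⊕ Fin n) F) * uMat (H * S * H.transpose) := by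
    rw [ha]
    show uMat S * Matrix.fromBlocks G 0 0 H.transpose =
      Matrix.fromBlocks G 0 0 H.transpose * uMat (H * S * H.transpose)
    unfold uMat
    rw [Matrix.fromBlocks_multiply, Matrix.fromBlocks_multiply]
    simp only [Matrix.one_mul, Matrix.mul_zero, Matrix.zero_mul, Matrix.mul_one, add_zero, zero_add]
    rw [← Matrix.mul_assoc, ← Matrix.mul_assoc, hGH, Matrix.one_mul]
  show ((y⁻¹ : Spg F n) : Matrix (Fin n ⊕ Fin n) (Fin n ⊕ Fin n) F) *
      (a : Matrix (Fin n ⊕ Fin n) (Fin n ⊕ Fin n) F) *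
      (y : Matrix (Fin n ⊕ Fin n) (Fin n ⊕ Fin n) F) = uMat (H * S * H.transpose)
  rw [Matrix.mul_assoc, hcomm, ← Matrix.mul_assoc, hyinv, Matrix.one_mul]

end concrete

end Cfsg.Agent.Lib.Helper21.Lo
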