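import Mathlib
import Cfsg.Agent.Lib.Helper21.S11Defs
import Cfsg.Agent.Lib.Helper49.RankOneCyclic

/-!
# S3911 hive (S11), leaf S11-CYC: cyclic Sylow subgroups
-/

set_option autoImplicit false

namespace Cfsg.Agent.Lib.Helper21.S11

variable {G : Type*} [Group G] [Finite G]

theorem s11cyc_comm_mk (V : Subgroup G) (h : ∀ a ∈ V, ∀ b ∈ V, a * b = b * a) :
    IsMulCommutative ↥V :=
  ⟨⟨fun a b => Subtype.ext (h a.1 a.2 b.1 b.2)⟩⟩

/-- If `G` has an abelian subgroup of order `p²` and exponent `p`, and abelian subgroups of equal order are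
conjugate, then every `p`-element has order dividing `p`. -/
theorem s11cyc_pow_p
    (hB : ∀ A B : Subgroup G, IsMulCommutative ↥A → IsMulCommutative ↥B → Nat.card ↥A = Nat.card ↥B →
      ∃ g : G, B = A.map (MulAut.conj g).toMonoidHom)
    (p : ℕ) [hpf : Fact p.Prime] (V : Subgroup G) (hVc : IsMulCommutative ↥V)
    (hVcard : Nat.card ↥V = p ^ 2) (hVexp : ∀ v ∈ V, v ^ p = 1) (x : G) (k : ℕ)
    (hk : orderOf x = p ^ k) : x ^ p = 1 := by
  have hp := hpf.out
  rcases Nat.lt_or_ge k 2 with h | h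
  · have : orderOf x ∣ p := by
      rw [hk]
      interval_cases k <;> simp
    exact orderOf_dvd_iff_pow_eq_one.mp this
  · exfalso
    have hdv : p ^ (k - 2) ∣ orderOf x := by
      rw [hk]; exact pow_dvd_pow p (Nat.sub_le k 2)
    have hne : p ^ (k - 2) ≠ 0 := pow_ne_zero _ hp.ne_zero
    have hog : orderOf (x ^ (p ^ (k - 2))) = p ^ 2 := by
      rw [orderOf_pow_of_dvd hne hdv, hk, Nat.pow_div (Nat.sub_le k 2) hp.pos]
      congr 1; omega
    obtain ⟨g, hg⟩ := hB V (Subgroup.zpowers (x ^ (p ^ (k - 2)))) hVc inferInstance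
      (by rw [hVcard, Nat.card_zpowers, hog])
    have hmem : x ^ (p ^ (k - 2)) ∈ V.map (MulAut.conj g).toMonoidHom :=
      hg ▸ Subgroup.mem_zpowers _
    obtain ⟨v, hv, hvg⟩ := hmem
    have h1 : (x ^ (p ^ (k - 2))) ^ p = 1 := by
      rw [← hvg, ← map_pow, hVexp v hv, map_one]
    have h2 := orderOf_dvd_of_pow_eq_one h1
    rw [hog] at h2
    have h3 : p ^ 2 ≤ p := Nat.le_of_dvd hp.pos h2
    have h4 : 2 ≤ p := hp.two_le
    nlinarith

theorem sylow_cyclic
    (hB : ∀ A B : Subgroup G, IsMulCommutative ↥A → IsMulCommutative ↥B → Nat.card ↥A = Nat.card ↥B →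
      ∃ g : G, B = A.map (MulAut.conj g).toMonoidHom)
    (M : Subgroup G) [M.Normal] (hM : Odd (Nat.card ↥M)) (p : ℕ) [Fact p.Prime]
    (hpM : p ∣ Nat.card ↥M) (hpQ : p ∣ M.index) (P : Sylow p G) : IsCyclic ↥(P : Subgroup G) := by
  have hp : p.Prime := Fact.out
  have hp2 : p ≠ 2 := by
    rintro rfl
    exact (Nat.not_even_iff_odd.mpr hM) (even_iff_two_dvd.mpr hpM)
  apply Cfsg.Agent.Lib.Helper49.isCyclic_of_isPGroup_rankLEOne hp2 P.isPGroup'
  intro A hA hexp
  by_contra hlt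
  push_neg at hlt
  have hAp : IsPGroup p ↥A := P.isPGroup'.to_subgroup A
  obtain ⟨n, hn⟩ := IsPGroup.iff_card.mp hAp
  have hn2 : 2 ≤ n := by
    by_contra h
    push_neg at h
    have h1 : p ^ n ≤ p ^ 1 := Nat.pow_le_pow_right hp.pos (by omega)
    rw [pow_one] at h1
    omega
  have hdvd : p ^ 2 ∣ Nat.card ↥A := by rw [hn]; exact pow_dvd_pow p hn2
  obtain ⟨K, hK⟩ := Sylow.exists_subgroup_card_pow_prime p hdvd
  have hVcard : Nat.card ↥((K.map A.subtype).map (P : Subgroup G).subtype) = p ^ 2 := by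
    rw [Subgroup.card_map_of_injective (Subgroup.subtype_injective _),
      Subgroup.card_map_of_injective (Subgroup.subtype_injective _), hK]
  have hVexp : ∀ v ∈ (K.map A.subtype).map (P : Subgroup G).subtype, v ^ p = 1 := by
    rintro _ ⟨_, ⟨a, _, rfl⟩, rfl⟩
    have h1 := hexp (a : ↥(P : Subgroup G)) a.2
    have h2 := congrArg (fun z : ↥(P : Subgroup G) => (z : G)) h1
    simpa using h2
  have hVc : IsMulCommutative ↥((K.map A.subtype).map (P : Subgroup G).subtype) :=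
    s11cyc_comm_mk _ (by
      rintro _ ⟨_, ⟨a, _, rfl⟩, rfl⟩ _ ⟨_, ⟨b, _, rfl⟩, rfl⟩
      have h1 : a * b = b * a := hA.is_comm.comm a b
      have h2 := congrArg (fun z : ↥A => ((z : ↥(P : Subgroup G)) : G)) h1
      simpa using h2)
  -- every p-element has p-th power 1
  have hpow : ∀ x : G, x ∈ (P : Subgroup G) → x ^ p = 1 := by
    intro x hx
    obtain ⟨k, hk⟩ := P.isPGroup' ⟨x, hx⟩
    have h1 : x ^ (p ^ k) = 1 := by
      have := congrArg (fun z : ↥(P : Subgroup G) => (z : G)) hk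
      simpa using this
    obtain ⟨j, _, hj⟩ := (Nat.dvd_prime_pow hp).mp (orderOf_dvd_of_pow_eq_one h1)
    exact s11cyc_pow_p hB p _ hVc hVcard hVexp x j hj
  -- an element of order p in M
  obtain ⟨m, hm⟩ := exists_prime_orderOf_dvd_card' p hpM
  have hmG : orderOf (m : G) = p := by rw [Subgroup.orderOf_coe, hm]
  have hPM : (P : Subgroup G) ≤ M := by
    intro x hx
    by_cases hx1 : x = 1
    · rw [hx1]; exact M.one_mem
    have hox : orderOf x = p := orderOf_eq_prime (hpow x hx) hx1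
    obtain ⟨g, hg⟩ := hB (Subgroup.zpowers (m : G)) (Subgroup.zpowers x) inferInstance inferInstance
      (by rw [Nat.card_zpowers, Nat.card_zpowers, hmG, hox])
    have hmem : x ∈ (Subgroup.zpowers (m : G)).map (MulAut.conj g).toMonoidHom :=
      hg ▸ Subgroup.mem_zpowers x
    obtain ⟨y, hy, hyx⟩ := hmem
    have hyM : y ∈ M := (Subgroup.zpowers_le.mpr m.2) hy
    rw [← hyx]
    simpa [MulAut.conj_apply] using ‹M.Normal›.conj_mem y hyM g
  have h1 : Nat.card ↥(P : Subgroup G) ∣ Nat.card ↥M := Subgroup.card_dvd_of_le hPM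
  have h2 : Nat.card ↥(P : Subgroup G) * p ∣ Nat.card G := by
    rw [← Subgroup.card_mul_index M]
    exact Nat.mul_dvd_mul h1 hpQ
  rw [P.card_eq_multiplicity, ← pow_succ] at h2
  exact Nat.pow_succ_factorization_not_dvd Nat.card_pos.ne' hp h2

end Cfsg.Agent.Lib.Helper21.S11
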