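import Cfsg.Agent.Lib.Helper68.BG1215c
import Cfsg.Agent.Lib.Helper1.Hall

set_option autoImplicit false
set_option linter.style.haveILetI false
set_option linter.unusedSectionVars false

/-!
# BG 12.15: every `σ(M)`-subgroup of `G` is conjugate into `M_σ`
-/

namespace Cfsg.Agent.Lib.Helper68.BG1215

open Subgroup Cfsg Cfsg.Agent.Lib.Helper33 Cfsg.Agent.Lib.Helper23 Cfsg.Agent.Lib.Helper63
open Cfsg.Agent.Lib.Helper24.BG
open scoped Pointwise

universe u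

variable {G : Type u} [Group G] [Finite G]

/-- **B&G Theorem 12.15**, from the statements of 9.6, 10.1, 10.5, 10.8, 12.4, 12.5 and 12.14. -/
theorem bg1215 (hG : IsMinSimpleOddOrder G) (hU : BG10.UniqStmt G) (h4 : Stmt1404 G) (h8 : H8 G)
    (h14 : H14 G) (h16 : H16 G) (h17 : H17 G) (h24 : H24 G)
    (M : Subgroup G) (hM : IsCoatom M) (Y : Subgroup G) (hY1 : Y ≠ ⊥)
    (hY : ∀ p : ℕ, p.Prime → p ∣ Nat.card Y → p ∈ sigma M) :
    ∃ g : G, Y.map (MulAut.conj g).toMonoidHom ≤ sigmaCore M := by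
  show ∃ g : G, cj g Y ≤ sigmaCore M
  have hF : ∀ M : Subgroup G, IsCoatom M → SigmaFusion M :=
    fun M hM p _ hp X hXp hX1 hXM => (h4 M hM p hp X hXp hX1 hXM).1
  obtain ⟨hHallM, hHallMG, -⟩ := Cfsg.Agent.Lib.Helper62.sigmaCore_hall hG hU hM (hF M hM)
  have hYtop : Y ≠ ⊤ := by
    intro h
    have hidx : (sigmaCore M).index ≠ 1 := by
      intro h1
      have := Subgroup.index_eq_one.mp h1
      exact hM.1 (top_le_iff.mp (this ▸ hHallM.1))
    obtain ⟨p, hp, hpd⟩ := Nat.exists_prime_and_dvd hidx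
    have hpG : p ∣ Nat.card G := hpd.trans (Subgroup.index_dvd_card _)
    have hpY : p ∣ Nat.card Y := by rw [h, Subgroup.card_top]; exact hpG
    exact hHallMG.2 p hp (hY p hp hpY) hpd
  haveI : Group.IsSolvable ↥Y := isSolvable_of_ne_top hG hYtop
  have hcard : Nat.card Y ≠ 1 := fun h => hY1 (Subgroup.card_eq_one.mp h)
  obtain ⟨q, X', hqp, hX'n, hX'1, -, hX'q⟩ :=
    Cfsg.Agent.Lib.Helper1.exists_normal_pgroup (G := ↥Y) inferInstance hcard
  haveI : Fact q.Prime := ⟨hqp⟩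
  obtain ⟨X₀, hX₀def⟩ : ∃ X₀, X₀ = X'.map Y.subtype := ⟨_, rfl⟩
  have hX₀Y : X₀ ≤ Y := by rw [hX₀def]; exact map_subtype_le _
  have hX₀q : IsPGroup q X₀ := by rw [hX₀def]; exact hX'q.map _
  have hX₀1 : X₀ ≠ ⊥ := by
    rw [hX₀def]
    intro h; apply hX'1
    exact (Subgroup.map_eq_bot_iff_of_injective _ Y.subtype_injective).mp h
  have hYN : Y ≤ normalizer (X₀ : Set G) := by
    have hsub : X₀.subgroupOf Y = X' := by
      rw [hX₀def, subgroupOf, comap_map_eq_self_of_injective Y.subtype_injective]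
    have : (X₀.subgroupOf Y).Normal := by rw [hsub]; exact hX'n
    exact (normal_subgroupOf_iff_le_normalizer hX₀Y).mp this
  have hqσ : q ∈ sigma M := by
    apply hY q hqp
    obtain ⟨k, hk⟩ := IsPGroup.iff_card.mp hX₀q
    have hk0 : k ≠ 0 := by
      rintro rfl
      rw [pow_zero] at hk
      exact hX₀1 (Subgroup.card_eq_one.mp hk)
    have : q ∣ Nat.card X₀ := by rw [hk]; exact dvd_pow_self q hk0
    exact this.trans (Subgroup.card_dvd_of_le hX₀Y)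
  obtain ⟨g₁, hg₁⟩ := exists_cj_le_sigmaCore hHallMG hqσ hX₀q
  obtain ⟨Y₁, hY₁def⟩ : ∃ Y₁, Y₁ = cj g₁ Y := ⟨_, rfl⟩
  obtain ⟨X, hXdef⟩ : ∃ X, X = cj g₁ X₀ := ⟨_, rfl⟩
  have hXY₁ : X ≤ Y₁ := by rw [hXdef, hY₁def]; exact cj_mono hX₀Y
  have hXq : IsPGroup q X := by rw [hXdef]; exact isPGroup_cj hX₀q
  have hX1 : X ≠ ⊥ := by rw [hXdef]; intro h; exact hX₀1 (cj_eq_bot_iff.mp h)
  have hXσ : X ≤ sigmaCore M := by rw [hXdef]; exact hg₁
  have hXM : X ≤ M := hXσ.trans hHallM.1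
  have hY₁N : Y₁ ≤ normalizer (X : Set G) := by
    rw [hXdef, hY₁def, normalizer_cj]; exact cj_mono hYN
  have hY₁π : ∀ p : ℕ, p.Prime → p ∣ Nat.card Y₁ → p ∈ sigma M := by
    rw [hY₁def, card_cj]; exact hY
  suffices h : ∃ g : G, cj g Y₁ ≤ sigmaCore M by
    obtain ⟨g, hg⟩ := h
    refine ⟨g * g₁, ?_⟩
    rw [hY₁def, ← cj_mul] at hg
    exact hg
  have hXtop : X ≠ ⊤ := fun h => hM.1 (top_le_iff.mp (h ▸ hXM))
  obtain ⟨Ms, hMs, hNMs⟩ : ∃ Ms : Subgroup G, IsCoatom Ms ∧ normalizer (X : Set G) ≤ Ms := by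
    rcases eq_top_or_exists_le_coatom (normalizer (X : Set G)) with h | h
    · exact absurd h (BG10.normalizer_ne_top hG hX1 hXtop)
    · exact h
  have hY₁Ms : Y₁ ≤ Ms := hY₁N.trans hNMs
  by_cases hne : Ms = M
  · refine ⟨1, ?_⟩
    rw [cj_one]
    exact le_sigmaCore_of_pi hHallM (hne ▸ hY₁Ms) hY₁π
  · have hXI : X ≤ M ⊓ Ms := le_inf hXM (le_normalizer.trans hNMs)
    have hXq' : IsPGroup q (X.subgroupOf (M ⊓ Ms)) := hXq.comap_subtype
    obtain ⟨S', hS'⟩ := hXq'.exists_le_sylow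
    have hXS : X ≤ (S' : Subgroup ↥(M ⊓ Ms)).map (M ⊓ Ms).subtype := by
      intro x hx
      exact ⟨⟨x, hXI hx⟩, hS' (mem_subgroupOf.mpr hx), rfl⟩
    obtain ⟨hnc, hNS, hSi⟩ := h24 M hM q hqσ X hXq hX1 hXM Ms hMs hne hNMs S' hXS
    obtain ⟨S, hSdef⟩ : ∃ S, S = (S' : Subgroup ↥(M ⊓ Ms)).map (M ⊓ Ms).subtype := ⟨_, rfl⟩
    rw [← hSdef] at hXS hNS hSi
    have hSI : S ≤ M ⊓ Ms := by rw [hSdef]; exact map_subtype_le _
    have hSq : IsPGroup q S := by rw [hSdef]; exact S'.2.map _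
    by_cases hqMs : q ∈ sigma Ms
    · exact case_d hG hU hF h14 hM hMs hnc hqσ hqMs (hSI.trans inf_le_left)
        (hSI.trans inf_le_right) hSq hSi hNS hY₁Ms hY₁π
    · exact case_e hG hU hF h4 h8 h14 h16 h17 hM hMs hne hnc hqσ hqMs (hSI.trans inf_le_left)
        (hSI.trans inf_le_right) hSq hSi hXS hX1 hNMs hY₁Ms hY₁π

end Cfsg.Agent.Lib.Helper68.BG1215
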