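import Cfsg.Agent.Lib.Helper68.BG134A
import Cfsg.Agent.Lib.Helper63.BG13a

set_option autoImplicit false
set_option linter.style.haveILetI false
set_option linter.unusedSectionVars false

/-!
# BG 13.4 (S1428), Case A2, part 2: the case `q ∉ σ(M*)`
-/

namespace Cfsg.Agent.Lib.Helper68.BG134

open Subgroup Cfsg Cfsg.Agent.Lib.Helper33 Cfsg.Agent.Lib.Helper23 Cfsg.Agent.Lib.Helper63
open Cfsg.Agent.Lib.Helper68.BG1215
open scoped Pointwise commutatorElement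

universe u

variable {G : Type u} [Group G] [Finite G]

/-- the part of B&G 12.1 (statement S1415) on Hall `τ₃`-subgroups -/
def H15 (G : Type u) [Group G] : Prop :=
  ∀ M : Subgroup G, IsCoatom M → ∀ E : Subgroup G, IsComplIn E (sigmaCore M) M →
    ∀ E₃ : Subgroup G, IsPiHallOf (tau3 M) E₃ E → E ≤ normalizer (E₃ : Set G)

/-- the part of B&G 12.6 (statement S1418) that is used -/
def H18 (G : Type u) [Group G] : Prop :=
  ∀ M : Subgroup G, IsCoatom M → ∀ E : Subgroup G, IsComplIn E (sigmaCore M) M →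
    ∀ (p : ℕ) [Fact p.Prime], p ∈ tau2 M → ∀ A : Subgroup G,
    (A ≤ E ∧ IsElementaryAbelian p A ∧ Nat.card A = p ^ 2) →
    E ≤ normalizer (A : Set G) ∧ ∀ X : Subgroup G, X ≤ E → Nat.card X = p → X ≤ A

/-- two subgroups normalizing each other and meeting trivially commute -/
theorem le_centralizer_of_inf_eq_bot {A B : Subgroup G} (hAB : A ≤ normalizer (B : Set G))
    (hBA : B ≤ normalizer (A : Set G)) (h : A ⊓ B = ⊥) : A ≤ centralizer (B : Set G) := by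
  apply le_centralizer_of_comm_mem (C := B) hBA _ h
  intro x hx s hs
  exact B.mul_mem ((mem_normalizer_iff.mp (hAB hx) s).mp hs) (B.inv_mem hs)

/-- **Case `q ∉ σ(M*)`**: either `p ∈ τ₁(M*)` or some `E_{q²} ≤ M ∩ M*` centralizes `P` -/
theorem tau1_or_centralizer_of_not_sigma (hG : IsMinSimpleOddOrder G) (hU : BG10.UniqStmt G)
    (hF : ∀ M : Subgroup G, IsCoatom M → SigmaFusion M)
    (h15 : H15 G) (h17 : H17 G) (h18 : H18 G)
    {M Ms : Subgroup G} (hM : IsCoatom M) (hMs : IsCoatom Ms) (hne : Ms ≠ M)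
    {p q : ℕ} [hp : Fact p.Prime] [hq : Fact q.Prime] (hpq : p ≠ q) (hqMs : q ∉ sigma Ms)
    {Sq X P : Subgroup G} (hSM : Sq ≤ M) (hSMs : Sq ≤ Ms) (hSq : IsPGroup q Sq)
    (hSi : ¬ q ∣ Sq.relIndex Ms) (hXS : X ≤ Sq) (hX1 : X ≠ ⊥)
    (hNX : normalizer (X : Set G) ≤ Ms)
    (hP : Nat.card P = p) (hPM : P ≤ M) (hPMs : P ≤ Ms) :
    p ∈ tau1 Ms ∨ ∃ A : Subgroup G, A ≤ M ⊓ Ms ∧ IsElementaryAbelian q A ∧ Nat.card A = q ^ 2 ∧
      A ≤ centralizer (P : Set G) := by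
  obtain ⟨hHallMs, hHallMsG, -⟩ := Cfsg.Agent.Lib.Helper62.sigmaCore_hall hG hU hMs (hF Ms hMs)
  -- `q ∈ τ₂(M*)`
  have hqdMs : q ∣ Nat.card Ms := by
    have hXq : IsPGroup q X := hSq.to_le hXS
    obtain ⟨k, hk⟩ := IsPGroup.iff_card.mp hXq
    have hk0 : k ≠ 0 := by
      rintro rfl
      rw [pow_zero] at hk
      exact hX1 (Subgroup.card_eq_one.mp hk)
    have : q ∣ Nat.card X := by rw [hk]; exact dvd_pow_self q hk0
    exact this.trans (Subgroup.card_dvd_of_le (hXS.trans hSMs))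
  have hr2 : PRankLE q 2 ↥Ms := by
    by_contra h
    exact hqMs (alpha_subset_sigma hG hU hMs ⟨hq.out, h⟩)
  have hr1 : ¬ PRankLE q 1 ↥Ms := by
    intro h1
    have hq2 : q ≠ 2 := ne_two_of_dvd_card_subgroup hG hqdMs
    have hrS : PRankLE q 1 ↥Sq := BG10.pRankLE_of_injective (Subgroup.inclusion hSMs)
      (Subgroup.inclusion_injective hSMs) h1
    haveI hcyc : IsCyclic ↥Sq := by
      apply Cfsg.Agent.Lib.Helper49.isCyclic_of_isPGroup_rankLEOne hq2 hSq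
      intro A hA hAe
      have := hrS A hA hAe
      rwa [pow_one] at this
    have hNSX : normalizer (Sq : Set G) ≤ normalizer (X : Set G) := by
      intro g hg
      have h1 : cj g X ≤ Sq := by
        have := cj_mono (g := g) hXS
        rwa [cj_eq_self_iff.mpr hg] at this
      have h2 : cj g X = X :=
        Cfsg.Agent.Lib.Helper67.eq_of_le_isCyclic_of_card_eq Sq _ _ h1 hXS (card_cj g X)
      exact cj_eq_self_iff.mp h2
    obtain ⟨P', hP'⟩ := Cfsg.Agent.Lib.Helper24.exists_sylow_map_eq Ms Sq hSMs hSq hSi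
    exact hqMs ⟨hq.out, hqdMs, P', by rw [hP']; exact hNSX.trans hNX⟩
  have hτ : q ∈ tau2 Ms := ⟨hq.out, hqMs, hr2, hr1⟩
  -- an `E_{q²}` inside `S_q`
  obtain ⟨A₀, hA₀Ms, hA₀e, hA₀c⟩ := BG10.exists_elemAb_sq_le hr1
  obtain ⟨c, hc, hcle⟩ := sylow_sub (K := Ms) hSMs hSq hSi hA₀Ms (BG10.isPGroup_of_elemAb hA₀e)
  obtain ⟨A, hAdef⟩ : ∃ A, A = cj c A₀ := ⟨_, rfl⟩
  have hAe : IsElementaryAbelian q A := by rw [hAdef]; exact BG10.map_elemAb _ hA₀e
  have hAc : Nat.card A = q ^ 2 := by rw [hAdef, card_cj, hA₀c]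
  have hAS : A ≤ Sq := by rw [hAdef]; exact hcle
  have hAMs : A ≤ Ms := hAS.trans hSMs
  have hAM : A ≤ M := hAS.trans hSM
  have hAq : IsPGroup q A := BG10.isPGroup_of_elemAb hAe
  obtain ⟨-, hTI⟩ := h17 Ms hMs q hτ A ⟨hAMs, hAe, hAc⟩
  have hMI : sigmaCore Ms ⊓ M = ⊥ := hTI M hM hne.symm hAM
  -- `M ∩ M*` lies in a complement `E*` of `M*_σ`
  set D := M ⊓ Ms with hDdef
  have hDI : D ⊓ sigmaCore Ms = ⊥ := by
    rw [eq_bot_iff, ← hMI]
    exact le_inf inf_le_right (inf_le_left.trans inf_le_left)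
  have hcop : (Nat.card D).Coprime (Nat.card (sigmaCore Ms)) := by
    apply Nat.coprime_of_dvd
    intro k hk hkD hkS
    have hkσ : k ∈ sigma Ms := hHallMs.2.1 k hk hkS
    haveI : Fact k.Prime := ⟨hk⟩
    obtain ⟨x, hx⟩ := exists_prime_orderOf_dvd_card' (G := ↥D) k hkD
    have hxD : (x : G) ∈ D := x.2
    have hxo : orderOf (x : G) = k := by rw [← hx]; exact Subgroup.orderOf_coe x
    have hzp : IsPGroup k (Subgroup.zpowers (x : G)) := by
      apply IsPGroup.of_card (n := 1)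
      rw [Nat.card_zpowers, hxo, pow_one]
    have hzMs : Subgroup.zpowers (x : G) ≤ Ms := by
      rw [Subgroup.zpowers_le]; exact hxD.2
    have h1 : Subgroup.zpowers (x : G) ≤ sigmaCore Ms :=
      le_sigmaCore_of_isPGroup hHallMs hkσ hzMs hzp
    have h2 : (x : G) ∈ D ⊓ sigmaCore Ms := ⟨hxD, h1 (Subgroup.mem_zpowers _)⟩
    rw [hDI, Subgroup.mem_bot] at h2
    rw [h2, orderOf_one] at hxo
    exact hk.one_lt.ne hxo
  obtain ⟨Es, hEs, hDEs⟩ := Cfsg.Agent.Lib.Helper63.BG13.exists_compl_ge hG hMs.1 hHallMs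
    (inf_le_right : D ≤ Ms) hcop
  have hAD : A ≤ D := le_inf hAM hAMs
  have hPD : P ≤ D := le_inf hPM hPMs
  have hAEs : A ≤ Es := hAD.trans hDEs
  have hPEs : P ≤ Es := hPD.trans hDEs
  have hEsMs : Es ≤ Ms := hEs.1
  obtain ⟨hEsNA, -⟩ := h18 Ms hMs Es hEs q hτ A ⟨hAEs, hAe, hAc⟩
  have hPp : IsPGroup p P := IsPGroup.of_card (n := 1) (by rw [hP, pow_one])
  have hP1 : P ≠ ⊥ := by
    intro h
    rw [h, Subgroup.card_bot] at hP
    exact hp.out.one_lt.ne hP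
  -- `p ∉ σ(M*)`
  have hpσ : p ∉ sigma Ms := by
    intro hpσ
    have h1 : P ≤ sigmaCore Ms := le_sigmaCore_of_isPGroup hHallMs hpσ hPMs hPp
    apply hP1
    rw [eq_bot_iff, ← hMI]
    exact le_inf h1 hPM
  have hpdMs : p ∣ Nat.card Ms := by
    rw [← hP]; exact Subgroup.card_dvd_of_le hPMs
  have hp2 : PRankLE p 2 ↥Ms := by
    by_contra h
    exact hpσ (alpha_subset_sigma hG hU hMs ⟨hp.out, h⟩)
  by_cases hp1 : PRankLE p 1 ↥Ms
  · by_cases hpd : p ∣ Nat.card ↥⁅Ms, Ms⁆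
    · -- `p ∈ τ₃(M*)`
      right
      refine ⟨A, hAD, hAe, hAc, ?_⟩
      have hτ3 : p ∈ tau3 Ms := ⟨hp.out, hpσ, hpd, hp1⟩
      have hEstop : Es ≠ ⊤ := fun h => hMs.1 (top_le_iff.mp (h ▸ hEsMs))
      haveI : Group.IsSolvable ↥Es := isSolvable_of_ne_top hG hEstop
      obtain ⟨m, n, hmn, hcopmn, hmπ, hnπ⟩ :=
        Cfsg.Agent.Lib.Helper19.HallRel.pi_factorization (tau3 Ms) (Nat.card Es) Nat.card_pos
      have hPn : (Nat.card P).Coprime n := by
        rw [hP, Nat.Prime.coprime_iff_not_dvd hp.out]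
        intro hd; exact hnπ p hp.out hd hτ3
      obtain ⟨E₃, hE₃Es, hE₃c, hPE₃⟩ := hall_exists_ge m n hmn hcopmn hPEs hPn
      have hE₃hall : IsPiHallOf (tau3 Ms) E₃ Es := by
        refine ⟨hE₃Es, fun r hr hrd => hmπ r hr (hE₃c ▸ hrd), fun r hr hrτ hrd => ?_⟩
        have h1 : Nat.card E₃ * E₃.relIndex Es = Nat.card Es := card_mul_relIndex_eq' hE₃Es
        rw [hE₃c, hmn] at h1
        have hm0 : 0 < m := by
          rcases Nat.eq_zero_or_pos m with h0 | h0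
          · rw [h0, zero_mul] at hmn
            exact absurd hmn (Nat.card_pos (α := ↥Es)).ne'
          · exact h0
        have h2 : E₃.relIndex Es = n := Nat.eq_of_mul_eq_mul_left hm0 h1
        exact hnπ r hr (h2 ▸ hrd) hrτ
      have hEsN3 : Es ≤ normalizer (E₃ : Set G) := h15 Ms hMs Es hEs E₃ hE₃hall
      have hAE₃ : A ⊓ E₃ = ⊥ := by
        have hI : IsPGroup q ↥(A ⊓ E₃) := hAq.to_le inf_le_left
        obtain ⟨j, hj⟩ := IsPGroup.iff_card.mp hI
        rcases Nat.eq_zero_or_pos j with rfl | hj0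
        · rw [pow_zero] at hj
          exact Subgroup.card_eq_one.mp hj
        · exfalso
          have h1 : q ∣ Nat.card ↥(A ⊓ E₃) := by rw [hj]; exact dvd_pow_self q hj0.ne'
          have h2 : q ∣ Nat.card E₃ := h1.trans (Subgroup.card_dvd_of_le inf_le_right)
          exact hr1 (hE₃hall.2.1 q hq.out h2).2.2.2
      have hcent : A ≤ centralizer (E₃ : Set G) :=
        le_centralizer_of_inf_eq_bot (hAEs.trans hEsN3) (hE₃Es.trans hEsNA) hAE₃
      exact hcent.trans (Subgroup.centralizer_le hPE₃)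
    · -- `p ∈ τ₁(M*)`
      left
      exact ⟨hp.out, hpσ, hpdMs, hpd, hp1⟩
  · -- `p ∈ τ₂(M*)`
    right
    refine ⟨A, hAD, hAe, hAc, ?_⟩
    have hτ2 : p ∈ tau2 Ms := ⟨hp.out, hpσ, hp2, hp1⟩
    obtain ⟨Ap, hApEs, hApe, hApc⟩ :=
      Cfsg.Agent.Lib.Helper96.BG127.exists_elemAb_sq_le_compl hEs hτ2
    obtain ⟨hEsNAp, hPAp⟩ := h18 Ms hMs Es hEs p hτ2 Ap ⟨hApEs, hApe, hApc⟩
    have hPAp' : P ≤ Ap := hPAp P hPEs hP
    have hAAp : A ⊓ Ap = ⊥ := by
      apply inf_eq_bot_of_isPGroup_of_coprime hAq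
      rw [hApc]
      apply Nat.Coprime.pow_left
      exact (Nat.coprime_primes hp.out hq.out).mpr hpq
    have hcent : A ≤ centralizer (Ap : Set G) :=
      le_centralizer_of_inf_eq_bot (hAEs.trans hEsNAp) (hApEs.trans hEsNA) hAAp
    exact hcent.trans (Subgroup.centralizer_le hPAp')

end Cfsg.Agent.Lib.Helper68.BG134
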