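import Mathlib
import Cfsg.Prelude.Def_ClassicalGeometry
import Cfsg.Agent.Lib.Helper4.NdDefs

/-! S5956 hive (helper4), leaves ND-A4 `exists_subfamily` and ND-A4b `adm_sum_pc` (helper68):
pure multiset combinatorics. -/

set_option autoImplicit false
open Matrix

namespace Cfsg.Agent.Lib.Helper4.NdH

theorem a4_count_pc_odd (e a : ℕ) (ha : Odd a) :
    (pc e).count a = if e = a then 2 else 0 := by
  unfold pc
  by_cases he : Even e
  · have hne : e ≠ a := by
      rintro rfl
      exact (Nat.not_even_iff_odd.mpr ha) he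
    rw [if_pos he, if_neg hne]
    exact Multiset.count_eq_zero.mpr (by simp [Ne.symm hne])
  · rw [if_neg he]
    by_cases hea : e = a
    · subst hea
      simp
    · rw [if_neg hea]
      exact Multiset.count_eq_zero.mpr (by simp [Ne.symm hea])

theorem a4_count_pc_ne (e a : ℕ) (hne : e ≠ a) : (pc e).count a = 0 := by
  unfold pc
  split_ifs <;> exact Multiset.count_eq_zero.mpr (by simp [Ne.symm hne])

theorem a4_count_pc_self_pos (e : ℕ) : 0 < (pc e).count e := by
  unfold pc
  split_ifs <;> simp

theorem a4_sum_pc (e : ℕ) : (pc e).sum = pdim e := by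
  unfold pc pdim
  split_ifs
  · simp
  · simp [two_mul]

theorem a4_mem_pc (e a : ℕ) (h : a ∈ pc e) : e = a := by
  unfold pc at h
  split_ifs at h <;> simp at h <;> exact h.symm

/-- if `pc a ≰ ν` and `ν` is admissible then `a ∉ ν` -/
theorem a4_count_zero_of_not_le (a : ℕ) (ν : Multiset ℕ) (hadm : Adm ν) (h : ¬ pc a ≤ ν) :
    ν.count a = 0 := by
  by_contra hne
  apply h
  rw [Multiset.le_iff_count]
  intro x
  by_cases hx : a = x
  · subst hx
    unfold pc
    by_cases he : Even a
    · rw [if_pos he]
      simp only [Multiset.count_singleton_self]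
      omega
    · rw [if_neg he]
      have hodd : Odd a := Nat.not_even_iff_odd.mp he
      have hev := hadm a hodd
      have : Multiset.count a ({a, a} : Multiset ℕ) = 2 := by simp
      rw [this]
      obtain ⟨k, hk⟩ := hev
      omega
  · rw [a4_count_pc_ne a x hx]
    exact Nat.zero_le _

theorem a4_adm_sub (a : ℕ) (ν : Multiset ℕ) (hadm : Adm ν) : Adm (ν - pc a) := by
  intro x hx
  rw [Multiset.count_sub, a4_count_pc_odd a x hx]
  have hev := hadm x hx
  split_ifs
  · obtain ⟨k, hk⟩ := hev
    rw [hk]
    rcases k with _ | k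
    · simp
    · exact ⟨k, by omega⟩
  · simpa using hev

/-- ND-A4 (SELECT) : pure combinatorics; induction on `t`. -/
theorem exists_subfamily {t : ℕ} (e : Fin t → ℕ) (ν : Multiset ℕ) (hν : ν ≤ ∑ j, pc (e j))
    (hadm : Adm ν) : ∃ J : Finset (Fin t), ν = ∑ j ∈ J, pc (e j) := by
  classical
  induction t generalizing ν with
  | zero =>
    refine ⟨∅, ?_⟩
    simp only [Finset.univ_eq_empty, Finset.sum_empty] at hν
    simpa using hν
  | succ t ih =>
    rw [Fin.sum_univ_castSucc] at hν
    set a := e (Fin.last t) with ha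
    by_cases hle : pc a ≤ ν
    · -- include the last index
      have hν' : ν - pc a ≤ ∑ j : Fin t, pc (e (Fin.castSucc j)) := by
        rw [tsub_le_iff_right]
        exact hν
      obtain ⟨J', hJ'⟩ := ih (fun j => e (Fin.castSucc j)) (ν - pc a) hν' (a4_adm_sub a ν hadm)
      refine ⟨insert (Fin.last t) (J'.map Fin.castSuccEmb), ?_⟩
      rw [Finset.sum_insert, Finset.sum_map]
      · simp only [Fin.castSuccEmb_apply]
        rw [← hJ', ← ha, add_comm]
        exact (tsub_add_cancel_of_le hle).symm
      · simp only [Finset.mem_map, Fin.castSuccEmb_apply, not_exists, not_and]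
        intro j _ hj
        exact (Fin.castSucc_lt_last j).ne hj
    · -- exclude the last index
      have h0 := a4_count_zero_of_not_le a ν hadm hle
      have hν' : ν ≤ ∑ j : Fin t, pc (e (Fin.castSucc j)) := by
        rw [Multiset.le_iff_count] at hν ⊢
        intro x
        have := hν x
        rw [Multiset.count_add] at this
        by_cases hx : a = x
        · subst hx
          rw [h0]
          exact Nat.zero_le _
        · rw [a4_count_pc_ne a x hx, add_zero] at this
          exact this
      obtain ⟨J', hJ'⟩ := ih (fun j => e (Fin.castSucc j)) ν hν' hadm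
      refine ⟨J'.map Fin.castSuccEmb, ?_⟩
      rw [Finset.sum_map]
      simpa using hJ'

/-- ND-A4b : `Adm (∑ j, pc (e j))`, `(pc e).sum = pdim e`, membership bounds. -/
theorem adm_sum_pc {t : ℕ} (e : Fin t → ℕ) :
    Adm (∑ j, pc (e j)) ∧ (∀ J : Finset (Fin t), (∑ j ∈ J, pc (e j)).sum = ∑ j ∈ J, pdim (e j)) ∧
      ∀ a ∈ ∑ j, pc (e j), ∃ j, e j = a := by
  classical
  refine ⟨?_, ?_, ?_⟩
  · intro a ha
    rw [Multiset.count_sum']
    apply Finset.even_sum
    intro j _
    rw [a4_count_pc_odd _ _ ha]
    split_ifs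
    · exact even_two
    · exact Even.zero
  · intro J
    have h := map_sum (Multiset.sumAddMonoidHom (M := ℕ)) (fun j => pc (e j)) J
    simp only [Multiset.coe_sumAddMonoidHom] at h
    rw [h]
    apply Finset.sum_congr rfl
    intro j _
    exact a4_sum_pc (e j)
  · intro a ha
    rw [Multiset.mem_sum] at ha
    obtain ⟨j, _, hj⟩ := ha
    exact ⟨j, a4_mem_pc _ _ hj⟩

end Cfsg.Agent.Lib.Helper4.NdH
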