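import Mathlib
import Cfsg.Prelude.Def_ClassicalGeometry
import Cfsg.Agent.Lib.Helper4.NdDefs
import Cfsg.Agent.Lib.Helper43.NdG1
import Cfsg.Agent.Lib.Helper68.NdA4
import Cfsg.Agent.Lib.Helper68.NdA10
import Cfsg.Agent.Lib.Helper10.NdA9
import Cfsg.Agent.Lib.Helper9.NdB1

/-! S5956 hive (helper4), leaf ND-A11 `exists_isom_of_type` (helper68): existence of a unipotent isometry with
prescribed admissible Jordan type, by induction on the number of parts. -/

set_option autoImplicit false
open Matrix
open Cfsg.Agent.Lib.Helper99 (Nd dker sympB)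

namespace Cfsg.Agent.Lib.Helper4.NdH

universe u v

variable {F : Type u} [Field F]

theorem a11_even_pdim (a : ℕ) : Even (pdim a) := by
  unfold pdim
  split_ifs with h
  · exact h
  · exact even_two_mul a

theorem a11_card_pc_pos (a : ℕ) : 0 < Multiset.card (pc a) := by
  unfold pc
  split_ifs <;> simp

/-- nondegenerate subspaces of every even dimension (own copy of ND-G4, via helper9's `b1_` lemmas) -/
theorem a11_exists_nd_le {V : Type v} [AddCommGroup V] [Module F V] [FiniteDimensional F V]
    (B : V →ₗ[F] V →ₗ[F] F) (hB : Alt B) :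
    ∀ (k : ℕ) (X : Submodule F V), Nd B X → 2 * k ≤ Module.finrank F X →
      ∃ W : Submodule F V, W ≤ X ∧ Module.finrank F W = 2 * k ∧ Nd B W := by
  intro k
  induction k with
  | zero =>
    intro X _ _
    exact ⟨⊥, bot_le, by simp, b1_nd_bot B⟩
  | succ k ih =>
    intro X hX hk
    have hXne : X ≠ ⊥ := by
      rintro rfl
      rw [finrank_bot] at hk
      omega
    obtain ⟨v, hvX, hv0⟩ := Submodule.exists_mem_ne_zero_of_ne_bot hXne
    have hex : ∃ w ∈ X, B v w ≠ 0 := by
      by_contra hcon
      push Not at hcon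
      exact hv0 (hX v hvX hcon)
    obtain ⟨w, hwX, hvw⟩ := hex
    obtain ⟨hPnd, hPdim⟩ := b1_plane B hB v w hvw
    set P := Submodule.span F {v, w} with hP
    have hPX : P ≤ X := by
      rw [hP, Submodule.span_le]
      intro x hx
      rcases hx with rfl | rfl
      · exact hvX
      · exact hwX
    have hX'nd : Nd B (X ⊓ orth B P) := b1_nd_inf_orth B hB P X hPX hPnd hX
    have hsup : P ⊔ (X ⊓ orth B P) = X := b1_sup_inf_orth B hB P X hPX hPnd
    have hdisj : Disjoint P (X ⊓ orth B P) :=
      (b1_isCompl B hB P hPnd).disjoint.mono_right inf_le_right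
    have hdim : Module.finrank F X = 2 + Module.finrank F ↥(X ⊓ orth B P) := by
      have := b1_finrank_sup P (X ⊓ orth B P) hdisj
      rw [hsup, hPdim] at this
      exact this
    obtain ⟨W', hW'le, hW'dim, hW'nd⟩ := ih (X ⊓ orth B P) hX'nd (by omega)
    have hperp : Perp B P W' := fun p hp y hy => (hW'le hy).2 p hp
    obtain ⟨hWnd, hWdisj⟩ := b1_nd_sup B hB P W' hPnd hW'nd hperp
    refine ⟨P ⊔ W', sup_le hPX (hW'le.trans inf_le_left), ?_, hWnd⟩
    rw [b1_finrank_sup P W' hWdisj, hPdim, hW'dim]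
    ring

theorem a11_aux (h2 : (2 : F) ≠ 0) (n : ℕ) :
    ∀ (V : Type v) [AddCommGroup V] [Module F V] [FiniteDimensional F V]
      (B : V →ₗ[F] V →ₗ[F] F) (_hB : Alt B) (_hV : Nd B ⊤) (K : ℕ) (μ : Multiset ℕ)
      (_hcard : Multiset.card μ = n) (_hμ : ∀ a ∈ μ, 0 < a ∧ a ≤ K)
      (_hadm : Adm μ) (_hsum : μ.sum = Module.finrank F V),
      ∃ u : V →ₗ[F] V, Isom B u ∧ (u - 1 : Module.End F V) ^ K = 0 ∧
        HasType (u - 1 : Module.End F V) μ := by
  induction n using Nat.strong_induction_on with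
  | _ n ih =>
  intro V _ _ _ B hB hV K μ hcard hμ hadm hsum
  by_cases hμ0 : μ = 0
  · -- trivial space
    subst hμ0
    have hfin : Module.finrank F V = 0 := by rw [← hsum]; simp
    haveI : Subsingleton V := Module.finrank_zero_iff.mp hfin
    refine ⟨1, fun u v => rfl, Subsingleton.elim _ _, ?_⟩
    intro k
    simp only [Multiset.map_zero, Multiset.sum_zero]
    unfold Cfsg.Agent.Lib.Helper99.dker
    exact Nat.le_zero.mp ((Submodule.finrank_le _).trans_eq hfin)
  · obtain ⟨a, ha⟩ := Multiset.exists_mem_of_ne_zero hμ0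
    have hle : pc a ≤ μ := by
      by_contra hnle
      have := a4_count_zero_of_not_le a μ hadm hnle
      exact (Multiset.count_ne_zero.mpr ha) this
    set μ' := μ - pc a with hμ'
    have hμeq : μ = pc a + μ' := by
      rw [hμ', add_comm]
      exact (tsub_add_cancel_of_le hle).symm
    have hadm' : Adm μ' := a4_adm_sub a μ hadm
    have hsum' : pdim a + μ'.sum = Module.finrank F V := by
      rw [← hsum, hμeq, Multiset.sum_add, a4_sum_pc]
    have hcard' : Multiset.card μ' < n := by
      rw [← hcard]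
      have : Multiset.card μ = Multiset.card (pc a) + Multiset.card μ' := by
        conv_lhs => rw [hμeq]
        exact Multiset.card_add _ _
      have := a11_card_pc_pos a
      omega
    have hμ'mem : ∀ b ∈ μ', 0 < b ∧ b ≤ K := fun b hb =>
      hμ b (Multiset.mem_of_le (tsub_le_self) hb)
    obtain ⟨ha0, haK⟩ := hμ a ha
    -- the nondegenerate subspace
    have hdimle : pdim a ≤ Module.finrank F (⊤ : Submodule F V) := by
      rw [finrank_top]; omega
    obtain ⟨kk, hkk⟩ := a11_even_pdim a
    obtain ⟨W, -, hWdim', hWnd⟩ := a11_exists_nd_le B hB kk ⊤ hV (by omega)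
    have hWdim : Module.finrank F W = pdim a := by rw [hWdim', hkk]; ring
    have hc : IsCompl W (orth B W) := isCompl_orth B hB W hWnd
    have hnd' : Nd B (orth B W) := nd_orth B hB hV W hWnd
    have hperp : Perp B W (orth B W) := fun x hx y hy => hy x hx
    -- the model on W
    have hBW : Alt (B.domRestrict₁₂ W W) := fun x => by
      rw [LinearMap.domRestrict₁₂_apply]; exact hB _
    have hWtop : Nd (B.domRestrict₁₂ W W) ⊤ := by
      intro x _ hx
      apply Subtype.ext
      apply hWnd (x : V) x.2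
      intro v hv
      have := hx ⟨v, hv⟩ Submodule.mem_top
      rwa [LinearMap.domRestrict₁₂_apply] at this
    obtain ⟨u₁, hu₁, hK₁, ht₁⟩ := exists_model h2 (B.domRestrict₁₂ W W) hBW hWtop a ha0 hWdim
    have hK₁' : (u₁ - 1 : Module.End F W) ^ K = 0 := pow_eq_zero_of_le haK hK₁
    -- the induction hypothesis on orth B W
    have hBW' : Alt (B.domRestrict₁₂ (orth B W) (orth B W)) := fun x => by
      rw [LinearMap.domRestrict₁₂_apply]; exact hB _
    have hWtop' : Nd (B.domRestrict₁₂ (orth B W) (orth B W)) ⊤ := by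
      intro x _ hx
      apply Subtype.ext
      apply hnd' (x : V) x.2
      intro v hv
      have := hx ⟨v, hv⟩ Submodule.mem_top
      rwa [LinearMap.domRestrict₁₂_apply] at this
    have hdim' : μ'.sum = Module.finrank F (orth B W) := by
      have := Submodule.finrank_add_eq_of_isCompl hc
      omega
    obtain ⟨u₂, hu₂, hK₂, ht₂⟩ := ih (Multiset.card μ') hcard' (orth B W)
      (B.domRestrict₁₂ (orth B W) (orth B W)) hBW' hWtop' K μ' rfl hμ'mem hadm' hdim'
    -- glue
    obtain ⟨u, hu, hK, ht⟩ := exists_glue B hB W (orth B W) hc hperp u₁ u₂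
      (fun x y => by have := hu₁ x y; rwa [LinearMap.domRestrict₁₂_apply,
        LinearMap.domRestrict₁₂_apply] at this)
      (fun x y => by have := hu₂ x y; rwa [LinearMap.domRestrict₁₂_apply,
        LinearMap.domRestrict₁₂_apply] at this) K hK₁' hK₂ (pc a) μ' ht₁ ht₂
    refine ⟨u, hu, hK, ?_⟩
    rw [hμeq]
    exact ht

variable {V : Type v} [AddCommGroup V] [Module F V]

/-- ND-A11 (EXIST, from A9, A10, G4, G1) : induction on `Multiset.card μ` over all `V`: remove one even part `e`
or two equal odd parts `e, e`; `X` nondegenerate of dimension `pdim e`, `X' = orth B X`. -/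
theorem exists_isom_of_type [FiniteDimensional F V] (h2 : (2 : F) ≠ 0) (B : V →ₗ[F] V →ₗ[F] F)
    (hB : Alt B) (hV : Nd B ⊤) (K : ℕ) (μ : Multiset ℕ) (hμ : ∀ a ∈ μ, 0 < a ∧ a ≤ K)
    (hadm : Adm μ) (hsum : μ.sum = Module.finrank F V) :
    ∃ u : V →ₗ[F] V, Isom B u ∧ (u - 1 : Module.End F V) ^ K = 0 ∧
      HasType (u - 1 : Module.End F V) μ :=
  a11_aux h2 (Multiset.card μ) V B hB hV K μ rfl hμ hadm hsum

end Cfsg.Agent.Lib.Helper4.NdH
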