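import Mathlib
import Cfsg.Agent.Lib.Helper47.G42Defs

/-! # G42 hive (S2553, helper47): leaf G42-ISO7 `equiv_alt7_of_fix` (helper68).
A subgroup of `A₈` of order `2520` fixing a point is isomorphic to `A₇` (restriction to the other 7 points). -/

set_option autoImplicit false

namespace Cfsg.Agent.Lib.Helper47.G42

open Equiv

/-- a permutation fixing `c` preserves the complement of `c` -/
theorem iso7_pres {c : Fin 8} {k : Perm (Fin 8)} (hk : k c = c) (x : Fin 8) : k x ≠ c ↔ x ≠ c := by
  constructor
  · intro h hx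
    exact h (hx ▸ hk)
  · intro h hx
    apply h
    apply k.injective
    rw [hx, hk]

/-- the restriction to the complement of the fixed point, into the alternating group -/
noncomputable def iso7_res (K : Subgroup (Perm (Fin 8))) (hA : K ≤ alternatingGroup (Fin 8)) (c : Fin 8)
    (hfix : ∀ k ∈ K, k c = c) : K →* alternatingGroup {x : Fin 8 // x ≠ c} where
  toFun k := ⟨Perm.subtypePerm k.1 (iso7_pres (hfix k.1 k.2)), by
    rw [Perm.mem_alternatingGroup, Perm.sign_subtypePerm]
    · exact Perm.mem_alternatingGroup.mp (hA k.2)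
    · intro x hx hxc
      exact hx (hxc ▸ hfix k.1 k.2)⟩
  map_one' := by
    apply Subtype.ext
    ext x
    simp
  map_mul' := by
    intro a b
    apply Subtype.ext
    ext x
    rfl

theorem iso7_res_injective (K : Subgroup (Perm (Fin 8))) (hA : K ≤ alternatingGroup (Fin 8)) (c : Fin 8)
    (hfix : ∀ k ∈ K, k c = c) : Function.Injective (iso7_res K hA c hfix) := by
  rw [injective_iff_map_eq_one]
  intro k hk
  apply Subtype.ext
  ext x
  by_cases hx : x = c
  · rw [hx]
    have := hfix k.1 k.2
    simp [this]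
  · have h1 : ((iso7_res K hA c hfix k : alternatingGroup {x : Fin 8 // x ≠ c}) :
        Perm {x : Fin 8 // x ≠ c}) ⟨x, hx⟩ = ⟨x, hx⟩ := by
      rw [hk]
      rfl
    have h2 : (k.1 x : Fin 8) = x := congrArg Subtype.val h1
    simp [h2]

/-- LEAF G42-ISO7. -/
theorem equiv_alt7_of_fix (K : Subgroup (Perm (Fin 8))) (hA : K ≤ alternatingGroup (Fin 8))
    (c : Fin 8) (hfix : ∀ k ∈ K, k c = c) (hcard : Nat.card K = 2520) :
    Nonempty (K ≃* alternatingGroup (Fin 7)) := by
  classical
  have hc7 : Fintype.card {x : Fin 8 // x ≠ c} = 7 := by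
    rw [Fintype.card_subtype_compl (fun x : Fin 8 => x = c), Fintype.card_subtype_eq,
      Fintype.card_fin]
  haveI : Nontrivial {x : Fin 8 // x ≠ c} := by
    rw [← Fintype.one_lt_card_iff_nontrivial, hc7]
    norm_num
  have hcardA : Nat.card (alternatingGroup {x : Fin 8 // x ≠ c}) = 2520 := by
    rw [nat_card_alternatingGroup, Nat.card_eq_fintype_card, hc7]
    decide
  have hbij : Function.Bijective (iso7_res K hA c hfix) := by
    haveI : Finite ↥K := Nat.finite_of_card_ne_zero (by rw [hcard]; norm_num)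
    rw [Nat.bijective_iff_injective_and_card]
    exact ⟨iso7_res_injective K hA c hfix, by rw [hcard, hcardA]⟩
  have e1 : K ≃* alternatingGroup {x : Fin 8 // x ≠ c} :=
    MulEquiv.ofBijective (iso7_res K hA c hfix) hbij
  have e2 : {x : Fin 8 // x ≠ c} ≃ Fin 7 := Fintype.equivFinOfCardEq hc7
  exact ⟨e1.trans (Equiv.altCongrHom e2)⟩

end Cfsg.Agent.Lib.Helper47.G42
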