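import Mathlib
import Cfsg.Agent.Lib.Helper37.TwoGenDefs
import Cfsg.Agent.Lib.Helper40.SpGen3

/-! # Tg hive (helper37, S2414): leaf TG-CFG `exists_plusCfg` -/

set_option autoImplicit false

namespace Cfsg.Agent.Lib.Helper37.TwoGen

open Matrix Module QuadraticMap
open Cfsg.Agent.Lib.Helper8 Cfsg.Agent.Lib.Helper13 Cfsg.Agent.Lib.Helper37

section leaves
variable {F : Type*} [Field F]

theorem tgcfg_pM_inl (n : ℕ) (v : Fin n → F) (i : Fin (n + 2)) :
    pM F n v (Sum.inl i) = (Fin.cons 0 (Fin.cons 0 v) : Fin (n + 2) → F) i := rfl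

theorem tgcfg_pM_inr (n : ℕ) (v : Fin n → F) (i : Fin (n + 2)) :
    pM F n v (Sum.inr i) = 0 := rfl

theorem tgcfg_pM'_inl (n : ℕ) (v : Fin n → F) (i : Fin (n + 2)) :
    pM' F n v (Sum.inl i) = 0 := rfl

theorem tgcfg_pM'_inr (n : ℕ) (v : Fin n → F) (i : Fin (n + 2)) :
    pM' F n v (Sum.inr i) = (Fin.cons 0 (Fin.cons 0 v) : Fin (n + 2) → F) i := rfl

theorem tgcfg_plusForm_apply (m : ℕ) (z : Fin m ⊕ Fin m → F) :
    plusForm m F z = ∑ i : Fin m, z (Sum.inl i) * z (Sum.inr i) := by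
  rw [← plusForm_coe]; rfl

theorem tgcfg_one_ne (n : ℕ) : (1 : Fin (n + 2)) ≠ 0 := by
  intro h
  have := congrArg Fin.val h
  simp at this

/-- TG-CFG -/
theorem exists_plusCfg (n : ℕ) : ∃ C : Cfg (plusForm (n + 2) F) n,
    C.e1 = pe1 F n ∧ C.f1 = pf1 F n ∧ C.e2 = pe2 F n ∧ C.f2 = pf2 F n ∧
    C.iM = pM F n ∧ C.iM' = pM' F n := by
  have h10 : (1 : Fin (n + 2)) ≠ 0 := tgcfg_one_ne n
  have h01 : (0 : Fin (n + 2)) ≠ 1 := fun h => h10 h.symm
  refine ⟨{ e1 := pe1 F n, f1 := pf1 F n, e2 := pe2 F n, f2 := pf2 F n, iM := pM F n, iM' := pM' F n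
            qe1 := ?_, qf1 := ?_, qe2 := ?_, qf2 := ?_, qM := ?_, qM' := ?_
            e1f1 := ?_, e2f2 := ?_, e1e2 := ?_, e1f2 := ?_, f1e2 := ?_, f1f2 := ?_
            e1M := ?_, f1M := ?_, e2M := ?_, f2M := ?_
            e1M' := ?_, f1M' := ?_, e2M' := ?_, f2M' := ?_
            MM := ?_, M'M' := ?_, MM' := ?_, span := ?_ }, rfl, rfl, rfl, rfl, rfl, rfl⟩
  · rw [tgcfg_plusForm_apply]; simp [pe1]
  · rw [tgcfg_plusForm_apply]; simp [pf1]
  · rw [tgcfg_plusForm_apply]; simp [pe2]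
  · rw [tgcfg_plusForm_apply]; simp [pf2]
  · intro v; rw [tgcfg_plusForm_apply]; simp [tgcfg_pM_inr]
  · intro v; rw [tgcfg_plusForm_apply]; simp [tgcfg_pM'_inl]
  · rw [polar_plusForm]; simp [pe1, pf1, Pi.single_apply]
  · rw [polar_plusForm]; simp [pe2, pf2, Pi.single_apply]
  · rw [polar_plusForm]; simp [pe1, pe2, Pi.single_apply]
  · rw [polar_plusForm]; simp [pe1, pf2, Pi.single_apply, h10, h01]
  · rw [polar_plusForm]; simp [pf1, pe2, Pi.single_apply, h10, h01]
  · rw [polar_plusForm]; simp [pf1, pf2, Pi.single_apply]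
  · intro v; rw [polar_plusForm]; simp [pe1, tgcfg_pM_inr, Pi.single_apply]
  · intro v; rw [polar_plusForm]
    simp only [tgcfg_pM_inr, tgcfg_pM_inl, pf1, mul_zero, zero_add]
    rw [Finset.sum_eq_single 0]
    · simp
    · intro b _ hb; simp [Pi.single_apply, hb]
    · simp
  · intro v; rw [polar_plusForm]; simp [pe2, tgcfg_pM_inr, Pi.single_apply]
  · intro v; rw [polar_plusForm]
    simp only [tgcfg_pM_inr, tgcfg_pM_inl, pf2, mul_zero, zero_add]
    rw [Finset.sum_eq_single 1]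
    · have : (1 : Fin (n + 2)) = Fin.succ 0 := rfl
      rw [this]; simp
    · intro b _ hb; simp [Pi.single_apply, hb]
    · simp
  · intro v; rw [polar_plusForm]
    simp only [tgcfg_pM'_inr, tgcfg_pM'_inl, pe1, zero_mul, add_zero]
    rw [Finset.sum_eq_single 0]
    · simp
    · intro b _ hb; simp [Pi.single_apply, hb]
    · simp
  · intro v; rw [polar_plusForm]; simp [pf1, tgcfg_pM'_inl, Pi.single_apply]
  · intro v; rw [polar_plusForm]
    simp only [tgcfg_pM'_inr, tgcfg_pM'_inl, pe2, zero_mul, add_zero]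
    rw [Finset.sum_eq_single 1]
    · have : (1 : Fin (n + 2)) = Fin.succ 0 := rfl
      rw [this]; simp
    · intro b _ hb; simp [Pi.single_apply, hb]
    · simp
  · intro v; rw [polar_plusForm]; simp [pf2, tgcfg_pM'_inl, Pi.single_apply]
  · intro v w; rw [polar_plusForm]; simp [tgcfg_pM_inr]
  · intro v w; rw [polar_plusForm]; simp [tgcfg_pM'_inl]
  · intro v w; rw [polar_plusForm]
    simp only [tgcfg_pM_inr, tgcfg_pM_inl, tgcfg_pM'_inr, tgcfg_pM'_inl, zero_mul, add_zero]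
    rw [Fin.sum_univ_succ, Fin.sum_univ_succ]
    simp [dotProduct]
  · intro x
    refine ⟨x (Sum.inl 0), x (Sum.inr 0), x (Sum.inl 1), x (Sum.inr 1),
      fun j => x (Sum.inl j.succ.succ), fun j => x (Sum.inr j.succ.succ), ?_⟩
    funext s
    rcases s with i | i
    · refine Fin.cases ?_ (fun i => ?_) i
      · simp [pe1, pf1, pe2, pf2, tgcfg_pM_inl, tgcfg_pM'_inl, Pi.single_apply, h10, h01]
      · refine Fin.cases ?_ (fun j => ?_) i
        · have : (Fin.succ 0 : Fin (n + 2)) = 1 := rfl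
          simp [pe1, pf1, pe2, pf2, tgcfg_pM_inl, tgcfg_pM'_inl, Pi.single_apply, h10, h01, this]
        · have h1 : (Fin.succ (Fin.succ j) : Fin (n + 2)) ≠ 0 := Fin.succ_ne_zero _
          have h2 : (Fin.succ (Fin.succ j) : Fin (n + 2)) ≠ 1 := by
            intro h
            have := congrArg Fin.val h
            simp at this
          simp [pe1, pf1, pe2, pf2, tgcfg_pM_inl, tgcfg_pM'_inl, Pi.single_apply, h1, h2]
    · refine Fin.cases ?_ (fun i => ?_) i
      · simp [pe1, pf1, pe2, pf2, tgcfg_pM_inr, tgcfg_pM'_inr, Pi.single_apply, h10, h01]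
      · refine Fin.cases ?_ (fun j => ?_) i
        · have : (Fin.succ 0 : Fin (n + 2)) = 1 := rfl
          simp [pe1, pf1, pe2, pf2, tgcfg_pM_inr, tgcfg_pM'_inr, Pi.single_apply, h10, h01, this]
        · have h1 : (Fin.succ (Fin.succ j) : Fin (n + 2)) ≠ 0 := Fin.succ_ne_zero _
          have h2 : (Fin.succ (Fin.succ j) : Fin (n + 2)) ≠ 1 := by
            intro h
            have := congrArg Fin.val h
            simp at this
          simp [pe1, pf1, pe2, pf2, tgcfg_pM_inr, tgcfg_pM'_inr, Pi.single_apply, h1, h2]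

end leaves

end Cfsg.Agent.Lib.Helper37.TwoGen
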