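import Mathlib
import Cfsg.Prelude.Def_ClassicalGeometry
import Cfsg.Prelude.Def_GeometricClasses
import Cfsg.Agent.Lib.Helper39.EqDefs
import Cfsg.Agent.Lib.Helper68.HyB1
import Cfsg.Agent.Lib.Helper68.QeB1

/-! Eq generic layer (helper39; Hq S5974 / Qe S5988 / Qm S5990), leaf EQ-B1 `blocksQ` (helper68):
block theory for an isometry of odd prime order of a quadratic form, any characteristic:
`2 ≠ 0` via `Hy.sym_blocks`, `2 = 0` via `Qe.alt_blocks` (the polar form is alternating). -/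

set_option autoImplicit false

namespace Cfsg.Agent.Lib.Helper39.Eq

open Module
open Cfsg.Agent.Lib.Helper2.BG Cfsg.Agent.Lib.Helper99 Cfsg.Agent.Lib.Helper48.Ti
open Cfsg.Agent.Lib.Helper5.Hy

section abstract

variable {F V : Type*} [Field F] [Fintype F] [AddCommGroup V] [Module F V] [FiniteDimensional F V]
variable {Q : QuadraticForm F V}

/-- EQ-B1 -/
theorem blocksQ {f : Module.End F V} (hf : IsoQ Q f) (r : ℕ) [Fact r.Prime] (hr2 : r ≠ 2)
    (hrq : ¬ r ∣ Fintype.card F) (hfr : f ^ r = 1) (i c : ℕ)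
    (hi : i = orderOf ((Fintype.card F : ℕ) : ZMod r)) (hc : c = if Even i then i else 2 * i)
    {N : Submodule F V} (hNi : Inv f N) (hN : NdQ Q N) :
    NdQ Q (N ⊓ Fix f) ∧ ∃ s : ℕ, finrank F N = finrank F ↥(N ⊓ Fix f) + s * c ∧
      ∀ j ≤ s, ∃ W₁ : Submodule F V, W₁ ≤ N ∧ Inv f W₁ ∧ NdQ Q W₁ ∧ W₁ ⊓ Fix f = ⊥ ∧
        OrthQ Q (Fix f) W₁ ∧ finrank F W₁ = j * c := by
  by_cases h2 : (2 : F) = 0
  · have ha : ∀ v, pol Q v v = 0 := by
      intro v
      rw [pol_self, h2, zero_mul]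
    exact Cfsg.Agent.Lib.Helper65.Qe.alt_blocks ha hf.isom r hr2 hrq hfr i c hi hc hNi hN
  · exact sym_blocks h2 (pol_symm Q) hf.isom r hr2 hrq hfr i c hi hc hNi hN

end abstract

end Cfsg.Agent.Lib.Helper39.Eq
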