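import Mathlib
import Cfsg.Prelude.Def_ClassicalGeometry
import Cfsg.Prelude.Def_GeometricClasses
import Cfsg.Agent.Lib.Helper39.EqDefs

/-! Eq generic layer (helper39), leaf EQ-TPL `tpl_iff` (helper68): pure `ZMod r` arithmetic. -/

set_option autoImplicit false

namespace Cfsg.Agent.Lib.Helper39.Eq

open Module
open Cfsg.Agent.Lib.Helper2.BG Cfsg.Agent.Lib.Helper99 Cfsg.Agent.Lib.Helper48.Ti
open Cfsg.Agent.Lib.Helper5.Hy

section arith

theorem tpl_neg_one_pow (r : ℕ) [Fact r.Prime] (hr2 : r ≠ 2) (j : ℕ) :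
    (-1 : ZMod r) ^ j = 1 ↔ Even j := by
  have hr : r.Prime := Fact.out
  have hne : (-1 : ZMod r) ≠ 1 := by
    intro h
    have h2 : (2 : ZMod r) = 0 := by
      have : (1 : ZMod r) + 1 = 0 := by
        nth_rewrite 1 [← h]
        ring
      rw [← this]; norm_num
    have h3 : ((2 : ℕ) : ZMod r) = 0 := by exact_mod_cast h2
    rw [ZMod.natCast_eq_zero_iff] at h3
    exact hr2 ((Nat.prime_dvd_prime_iff_eq hr Nat.prime_two).mp h3)
  constructor
  · intro h
    by_contra hodd
    rw [Nat.not_even_iff_odd] at hodd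
    rw [hodd.neg_one_pow] at h
    exact hne h
  · intro h
    exact h.neg_one_pow

/-- EQ-TPL -/
theorem tpl_iff (q r : ℕ) [Fact r.Prime] (hr2 : r ≠ 2) (hrq : ¬ r ∣ q) (i c : ℕ)
    (hi : i = orderOf ((q : ℕ) : ZMod r)) (hc : c = if Even i then i else 2 * i) (j : ℕ) :
    ((q : ℕ) : ZMod r) ^ (j * c / 2) = 1 ↔ tpl i j := by
  have hr : r.Prime := Fact.out
  set x : ZMod r := ((q : ℕ) : ZMod r) with hx
  have hx0 : x ≠ 0 := by
    intro h
    rw [hx, ZMod.natCast_eq_zero_iff] at h
    exact hrq h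
  have hipos : 0 < i := by
    rw [hi]
    exact orderOf_pos_iff.mpr (isOfFinOrder_iff_pow_eq_one.mpr
      ⟨r - 1, by have := hr.two_le; omega, ZMod.pow_card_sub_one_eq_one hx0⟩)
  have hxi : x ^ i = 1 := by rw [hi]; exact pow_orderOf_eq_one x
  unfold tpl
  by_cases hev : Even i
  · rw [if_pos hev] at hc
    obtain ⟨k, hk⟩ := hev
    have hkpos : 0 < k := by omega
    have hexp : j * c / 2 = j * k := by
      rw [hc, hk]
      have : j * (k + k) = 2 * (j * k) := by ring
      rw [this, Nat.mul_div_cancel_left _ (by norm_num : 0 < 2)]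
    have hxk2 : (x ^ k) * (x ^ k) = 1 := by rw [← pow_add, ← hk, hxi]
    have hxk1 : x ^ k ≠ 1 := by
      intro h
      have := orderOf_dvd_of_pow_eq_one h
      rw [← hi] at this
      have := Nat.le_of_dvd hkpos this
      omega
    have hxk : x ^ k = -1 := by
      rcases mul_self_eq_one_iff.mp hxk2 with h | h
      · exact absurd h hxk1
      · exact h
    rw [hexp, mul_comm, pow_mul, hxk, tpl_neg_one_pow r hr2]
    constructor
    · intro h; exact Or.inr h
    · rintro (h | h)
      · exfalso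
        rw [hk] at h
        exact (Nat.not_odd_iff_even.mpr ⟨k, rfl⟩) h
      · exact h
  · rw [if_neg hev] at hc
    have hexp : j * c / 2 = j * i := by
      rw [hc]
      have : j * (2 * i) = 2 * (j * i) := by ring
      rw [this, Nat.mul_div_cancel_left _ (by norm_num : 0 < 2)]
    rw [hexp, mul_comm, pow_mul, hxi, one_pow]
    exact iff_of_true rfl (Or.inl (Nat.not_even_iff_odd.mp hev))

end arith

end Cfsg.Agent.Lib.Helper39.Eq
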