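import Mathlib

/-!
# Feit–Higman (helper6's hive): leaf FH-B6 — compression of `End V` to matrices on the range of an
idempotent (Mathlib only)
-/

set_option autoImplicit false

namespace Cfsg.Agent.Lib.Helper6.FH

open Matrix

/-- compression of an endomorphism of `V` to the range of `e` -/
noncomputable def b6_comp {V : Type*} [AddCommGroup V] [Module ℂ V] (e : Module.End ℂ V) :
    Module.End ℂ V →ₗ[ℂ] Module.End ℂ (LinearMap.range e) where
  toFun T := e.rangeRestrict ∘ₗ T ∘ₗ (LinearMap.range e).subtype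
  map_add' T T' := by
    ext x
    simp
  map_smul' z T := by
    ext x
    simp

theorem b6_comp_apply {V : Type*} [AddCommGroup V] [Module ℂ V] (e T : Module.End ℂ V)
    (x : LinearMap.range e) : ((b6_comp e T x : LinearMap.range e) : V) = e (T (x : V)) := rfl

theorem b6_fix {V : Type*} [AddCommGroup V] [Module ℂ V] {e : Module.End ℂ V} (he : e * e = e)
    (x : LinearMap.range e) : e (x : V) = x := by
  obtain ⟨x, y, rfl⟩ := x
  show e (e y) = e y
  rw [← Module.End.mul_apply, he]

theorem b6_apply_of_mul {V : Type*} [AddCommGroup V] [Module ℂ V] {e T : Module.End ℂ V}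
    (h : e * T = T) (x : V) : e (T x) = T x := by
  rw [← Module.End.mul_apply, h]

theorem b6_apply_mul_of {V : Type*} [AddCommGroup V] [Module ℂ V] {e T : Module.End ℂ V}
    (h : T * e = T) (x : V) : T (e x) = T x := by
  rw [← Module.End.mul_apply, h]

theorem exists_compress {V : Type*} [AddCommGroup V] [Module ℂ V] [FiniteDimensional ℂ V]
    (e : Module.End ℂ V) (he : e * e = e) :
    ∃ (m : ℕ) (φ : Module.End ℂ V →ₗ[ℂ] Matrix (Fin m) (Fin m) ℂ), φ e = 1 ∧ (m : ℂ) = LinearMap.trace ℂ V e ∧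
      (∀ T T' : Module.End ℂ V, e * T = T → T * e = T → e * T' = T' → T' * e = T' → φ (T * T') = φ T * φ T') ∧
      (∀ T : Module.End ℂ V, e * T = T → T * e = T → (φ T).trace = LinearMap.trace ℂ V T) ∧
      (∀ 𝒯 : Set (Module.End ℂ V), (∀ T ∈ 𝒯, e * T = T ∧ T * e = T) →
        (∀ U : Submodule ℂ V, U ≤ LinearMap.range e → (∀ T ∈ 𝒯, ∀ x ∈ U, T x ∈ U) → U = ⊥ ∨ U = LinearMap.range e) →
        ∀ U' : Submodule ℂ (Fin m → ℂ), (∀ T ∈ 𝒯, ∀ x ∈ U', φ T *ᵥ x ∈ U') → U' = ⊥ ∨ U' = ⊤) := by
  classical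
  let bE := Module.finBasis ℂ (LinearMap.range e)
  have hφ : ∀ T : Module.End ℂ V,
      ((LinearMap.toMatrix bE bE).toLinearMap ∘ₗ b6_comp e) T = LinearMap.toMatrix bE bE (b6_comp e T) :=
    fun T => rfl
  refine ⟨Module.finrank ℂ (LinearMap.range e), (LinearMap.toMatrix bE bE).toLinearMap ∘ₗ b6_comp e,
    ?_, ?_, ?_, ?_, ?_⟩
  · -- φ e = 1
    rw [hφ]
    have : b6_comp e e = LinearMap.id := by
      ext x
      rw [b6_comp_apply, b6_fix he, b6_fix he]
      rfl
    rw [this, LinearMap.toMatrix_id]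
  · -- m = trace e
    have hproj : LinearMap.IsProj (LinearMap.range e) e :=
      ⟨fun x => LinearMap.mem_range_self e x, fun x hx => b6_fix he ⟨x, hx⟩⟩
    rw [hproj.trace]
  · -- multiplicativity
    intro T T' h1 h2 h3 h4
    rw [hφ, hφ, hφ, ← LinearMap.toMatrix_mul]
    congr 1
    ext x
    rw [Module.End.mul_apply, b6_comp_apply, b6_comp_apply, b6_comp_apply, Module.End.mul_apply,
      b6_apply_mul_of h2]
  · -- traces
    intro T h1 h2
    rw [hφ, ← LinearMap.trace_eq_matrix_trace ℂ bE]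
    have h5 : b6_comp e T = e.rangeRestrict ∘ₗ (T ∘ₗ (LinearMap.range e).subtype) := rfl
    have h6 : (LinearMap.range e).subtype ∘ₗ e.rangeRestrict = e := by
      ext x
      rfl
    rw [h5, LinearMap.trace_comp_comm', LinearMap.comp_assoc, h6]
    rw [← Module.End.mul_eq_comp, h2]
  · -- invariant subspaces
    intro 𝒯 h𝒯 hirr U' hU'
    have hrepr : ∀ (T : Module.End ℂ V) (y : LinearMap.range e),
        (LinearMap.toMatrix bE bE (b6_comp e T)) *ᵥ (bE.repr y : Fin _ → ℂ) =
          (bE.repr (b6_comp e T y) : Fin _ → ℂ) :=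
      fun T y => LinearMap.toMatrix_mulVec_repr bE bE (b6_comp e T) y
    let U : Submodule ℂ V := (U'.comap bE.equivFun.toLinearMap).map (LinearMap.range e).subtype
    have hU_le : U ≤ LinearMap.range e := by
      rintro x ⟨y, -, rfl⟩
      exact y.2
    have hU_inv : ∀ T ∈ 𝒯, ∀ x ∈ U, T x ∈ U := by
      rintro T hT x ⟨y, hy, rfl⟩
      refine ⟨b6_comp e T y, ?_, ?_⟩
      · show bE.equivFun (b6_comp e T y) ∈ U'
        have h6 := hU' T hT _ hy
        rw [hφ] at h6
        have h7 := hrepr T y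
        rw [show (bE.equivFun.toLinearMap y) = (bE.repr y : Fin _ → ℂ) from rfl] at h6
        rw [h7] at h6
        exact h6
      · show ((b6_comp e T y : LinearMap.range e) : V) = T (y : V)
        rw [b6_comp_apply, b6_apply_of_mul (h𝒯 T hT).1]
    rcases hirr U hU_le hU_inv with h | h
    · left
      rw [eq_bot_iff]
      intro z hz
      obtain ⟨y, rfl⟩ := bE.equivFun.surjective z
      have hyU : (y : V) ∈ U := ⟨y, hz, rfl⟩
      rw [h, Submodule.mem_bot] at hyU
      have hy0 : y = 0 := Subtype.ext hyU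
      rw [hy0, map_zero]
      exact Submodule.zero_mem _
    · right
      rw [eq_top_iff]
      intro z _
      obtain ⟨y, rfl⟩ := bE.equivFun.surjective z
      have hyU : (y : V) ∈ U := by rw [h]; exact y.2
      obtain ⟨y', hy', hyy⟩ := hyU
      have : y' = y := Subtype.ext hyy
      rw [← this]
      exact hy'

end Cfsg.Agent.Lib.Helper6.FH
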