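import Cfsg.Agent.Lib.Helper4.LcDefs

/-! # Lc hive (S0406, helper4): leaf LC-LIFT, core (helper68): `2a ∈ Λ ⟹ 2 (a mod 2) ∈ Λ`, given a vector
`u ∈ Λ` with all coordinates `≡ 1 (mod 4)`; the base lemma `fr_M` enters as a hypothesis. -/

set_option autoImplicit false
open Matrix

namespace Cfsg.Agent.Lib.Helper4.Lc

open Cfsg.Agent.Lib.Golay.Cross48 (Hyp Qf bf)

variable {Λ : AddSubgroup V}

/-- LC-LIFT with `fr_M` as hypothesis -/
theorem lclift_core (h : Fr Λ)
    (hM : ∀ y : V, (2 : ℤ) ∣ ∑ i, y i → (fun i => 4 * y i : V) ∈ Λ)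
    (u : V) (hu : u ∈ Λ) (hu4 : ∀ i, u i % 4 = 1) (a : V)
    (ha : dbl a ∈ Λ) : dbl (fun i => a i % 2) ∈ Λ := by
  set b : V := fun i => a i % 2 with hb
  set c : V := fun i => a i / 2 with hc
  set d : V := fun i => u i / 4 with hd
  have hab : ∀ i, a i = 2 * c i + b i := fun i => by
    show a i = 2 * (a i / 2) + a i % 2
    omega
  have hud : ∀ i, u i = 4 * d i + 1 := fun i => by
    have := hu4 i
    show u i = 4 * (u i / 4) + 1
    omega
  have hb01 : ∀ i, b i * b i = b i := fun i => by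
    rcases Int.emod_two_eq_zero_or_one (a i) with h0 | h0
    · show a i % 2 * (a i % 2) = a i % 2
      rw [h0]; norm_num
    · show a i % 2 * (a i % 2) = a i % 2
      rw [h0]; norm_num
  -- the two congruences
  have h1 : sq (dbl a) = 4 * (4 * (∑ i, (c i ^ 2 + c i * b i)) + ∑ i, b i) := by
    unfold sq
    rw [Finset.mul_sum, ← Finset.sum_add_distrib, Finset.mul_sum]
    refine Finset.sum_congr rfl fun i _ => ?_
    rw [dbl_apply, hab i]
    have := hb01 i
    nlinarith [this]
  have h2 : dot (dbl a) u =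
      2 * (4 * (∑ i, (2 * c i * d i + b i * d i)) + 2 * (∑ i, c i) + ∑ i, b i) := by
    unfold dot
    rw [Finset.mul_sum (s := Finset.univ) (f := fun i => 2 * c i * d i + b i * d i),
      Finset.mul_sum (s := Finset.univ) (f := fun i => c i), ← Finset.sum_add_distrib,
      ← Finset.sum_add_distrib, Finset.mul_sum]
    refine Finset.sum_congr rfl fun i _ => ?_
    rw [dbl_apply, hab i, hud i]
    ring
  have h16 := h.sq16 _ ha
  have h8 := h.dot8 _ ha _ hu
  rw [h1] at h16
  rw [h2] at h8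
  have hc2 : (2 : ℤ) ∣ ∑ i, c i := by omega
  -- `2 b = 2 a - 4 c`
  have h4c := hM c hc2
  have heq : dbl b = dbl a - (fun i => 4 * c i : V) := by
    funext i
    simp only [dbl_apply, Pi.sub_apply]
    rw [hab i]
    ring
  rw [heq]
  exact Λ.sub_mem ha h4c

end Cfsg.Agent.Lib.Helper4.Lc
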