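import Cfsg.Agent.Lib.Helper4.LcBase
import Cfsg.Agent.Lib.Helper68.LcLIFTcore

/-! # Lc hive (S0406, helper4): leaf LC-LIFT `two_lift` (helper68). -/

set_option autoImplicit false
open Matrix

namespace Cfsg.Agent.Lib.Helper4.Lc

open Cfsg.Agent.Lib.Golay.Cross48 (Hyp Qf bf)

variable {Λ : AddSubgroup V}

/-- LC-LIFT -/
theorem two_lift (h : Fr Λ) (u : V) (hu : u ∈ Λ) (hu4 : ∀ i, u i % 4 = 1) (a : V)
    (ha : dbl a ∈ Λ) : dbl (fun i => a i % 2) ∈ Λ :=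
  lclift_core h (fun y hy => fr_M h y hy) u hu hu4 a ha

end Cfsg.Agent.Lib.Helper4.Lc
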