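import Mathlib

/-! # Lc hive (S0406, helper4): leaf LC-OCT `card_weight8_le` (helper68).
A binary linear code of length 24 and minimum weight `≥ 8` has at most `759` words of weight `8`
(two of them share at most 4 points, so `56 · A₈ ≤ C(24,5)`). -/

set_option autoImplicit false
open Matrix

namespace Cfsg.Agent.Lib.Helper4.Lc

/-- the support of a binary word -/
def lcoct_supp (w : Fin 24 → ZMod 2) : Finset (Fin 24) := Finset.univ.filter fun i => w i ≠ 0

theorem lcoct_card_supp (w : Fin 24 → ZMod 2) : (lcoct_supp w).card = hammingNorm w := rfl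

theorem lcoct_z2 : ∀ x y : ZMod 2, (x + y ≠ 0) ↔ ((x ≠ 0 ∧ ¬ y ≠ 0) ∨ (y ≠ 0 ∧ ¬ x ≠ 0)) := by decide

/-- weight of a sum -/
theorem lcoct_weight_add (w w' : Fin 24 → ZMod 2) :
    hammingNorm (w + w') + 2 * (lcoct_supp w ∩ lcoct_supp w').card = hammingNorm w + hammingNorm w' := by
  classical
  have h1 : lcoct_supp (w + w') = (lcoct_supp w \ lcoct_supp w') ∪ (lcoct_supp w' \ lcoct_supp w) := by
    ext i
    simp only [lcoct_supp, Finset.mem_filter, Finset.mem_univ, true_and, Finset.mem_union,
      Finset.mem_sdiff, Pi.add_apply]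
    exact lcoct_z2 (w i) (w' i)
  have h2 : Disjoint (lcoct_supp w \ lcoct_supp w') (lcoct_supp w' \ lcoct_supp w) := by
    rw [Finset.disjoint_left]
    intro i hi hi'
    exact (Finset.mem_sdiff.mp hi).2 (Finset.mem_sdiff.mp hi').1
  have h3 := Finset.card_sdiff_add_card_inter (lcoct_supp w) (lcoct_supp w')
  have h4 := Finset.card_sdiff_add_card_inter (lcoct_supp w') (lcoct_supp w)
  rw [Finset.inter_comm] at h4
  rw [← lcoct_card_supp (w + w'), h1, Finset.card_union_of_disjoint h2, ← lcoct_card_supp w,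
    ← lcoct_card_supp w']
  omega

/-- LC-OCT (generic) -/
theorem card_weight8_le (C : Submodule (ZMod 2) (Fin 24 → ZMod 2))
    (hmin : ∀ w ∈ C, w ≠ 0 → 8 ≤ hammingNorm w) :
    {w : Fin 24 → ZMod 2 | w ∈ C ∧ hammingNorm w = 8}.ncard ≤ 759 := by
  classical
  set T : Finset (Fin 24 → ZMod 2) := Finset.univ.filter fun w => w ∈ C ∧ hammingNorm w = 8 with hT
  have hST : {w : Fin 24 → ZMod 2 | w ∈ C ∧ hammingNorm w = 8} = (T : Set (Fin 24 → ZMod 2)) := by
    ext w
    simp [hT]
  rw [hST, Set.ncard_coe_finset]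
  -- the 5-subsets of the supports
  set P : (Fin 24 → ZMod 2) → Finset (Finset (Fin 24)) := fun w => (lcoct_supp w).powersetCard 5 with hP
  have hPcard : ∀ w ∈ T, (P w).card = 56 := by
    intro w hw
    have h8 : (lcoct_supp w).card = 8 := by
      rw [lcoct_card_supp]
      exact (Finset.mem_filter.mp hw).2.2
    rw [hP]
    simp only
    rw [Finset.card_powersetCard, h8]
    decide
  have hdisj : (T : Set (Fin 24 → ZMod 2)).PairwiseDisjoint P := by
    intro w hw w' hw' hne
    rw [Function.onFun, Finset.disjoint_left]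
    intro X hX hX'
    have hw1 := (Finset.mem_filter.mp hw).2
    have hw1' := (Finset.mem_filter.mp hw').2
    rw [hP] at hX hX'
    simp only [Finset.mem_powersetCard] at hX hX'
    have h5 : 5 ≤ (lcoct_supp w ∩ lcoct_supp w').card := by
      rw [← hX.2]
      exact Finset.card_le_card (Finset.subset_inter hX.1 hX'.1)
    have hsum := lcoct_weight_add w w'
    rw [hw1.2, hw1'.2] at hsum
    have hne0 : w + w' ≠ 0 := by
      intro h0
      apply hne
      have : w = -w' := eq_neg_of_add_eq_zero_left h0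
      rw [this]
      funext i
      simp only [Pi.neg_apply]
      exact (by decide : ∀ x : ZMod 2, -x = x) (w' i)
    have h8 := hmin (w + w') (C.add_mem hw1.1 hw1'.1) hne0
    omega
  have hsub : T.biUnion P ⊆ (Finset.univ : Finset (Fin 24)).powersetCard 5 := by
    intro X hX
    rw [Finset.mem_biUnion] at hX
    obtain ⟨w, _, hXw⟩ := hX
    rw [hP] at hXw
    simp only [Finset.mem_powersetCard] at hXw ⊢
    exact ⟨Finset.subset_univ _, hXw.2⟩
  have hcard := Finset.card_le_card hsub
  rw [Finset.card_biUnion hdisj, Finset.sum_congr rfl hPcard, Finset.sum_const, smul_eq_mul,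
    Finset.card_powersetCard, Finset.card_univ, Fintype.card_fin] at hcard
  have hch : Nat.choose 24 5 = 42504 := by decide
  rw [hch] at hcard
  omega

end Cfsg.Agent.Lib.Helper4.Lc
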