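import Cfsg.Agent.Lib.Helper41.StnDefs
import Cfsg.Agent.Lib.Helper73.StnBINJDefs
import Cfsg.Agent.Lib.Helper13.Stn_HONE

/-! # Stn hive (S2401), sub-hive BINJ: core of leaf BINJ-STARMEM (`mem_HH_star`), with the
not-yet-landed leaves `hh_swap`, `hh_rel`, `starElt_mul` taken as hypotheses. -/

set_option autoImplicit false

namespace Cfsg.Agent.Lib.Helper41.Stn

open Matrix

variable {K : Type*} [Field K] {n : ℕ}

/-- a list product with at most one non-trivial factor -/
theorem binjstarmem_prod_single {G : Type*} [Monoid G] {ι : Type*} [DecidableEq ι] (L : List ι)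
    (hL : L.Nodup) (i : ι) (hi : i ∈ L) (f : ι → G) (hf : ∀ k, k ≠ i → f k = 1) :
    (L.map f).prod = f i := by
  induction L with
  | nil => simp at hi
  | cons a L ih =>
    rw [List.map_cons, List.prod_cons]
    rw [List.nodup_cons] at hL
    by_cases hai : a = i
    · subst hai
      have : (L.map f).prod = 1 := by
        apply List.prod_eq_one
        intro x hx
        obtain ⟨k, hk, rfl⟩ := List.mem_map.1 hx
        exact hf k (fun h => hL.1 (h ▸ hk))
      rw [this, mul_one]
    · rw [hf a hai, one_mul]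
      apply ih hL.2
      rcases List.mem_cons.1 hi with h | h
      · exact absurd h.symm hai
      · exact h

theorem binjstarmem_starElt_one (l : Fin n) : starElt l (1 : Fin n → K) = 1 := by
  unfold starElt
  apply List.prod_eq_one
  intro x hx
  obtain ⟨k, -, rfl⟩ := List.mem_map.1 hx
  by_cases hk : k ≠ l
  · rw [if_pos hk, Pi.one_apply, hh_one]
  · rw [if_neg hk]

theorem binjstarmem_starElt_update (l i : Fin n) (hil : i ≠ l) (s : K) :
    starElt l (Function.update (1 : Fin n → K) i s) = hh i l s := by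
  unfold starElt
  rw [binjstarmem_prod_single (List.finRange n) (List.nodup_finRange n) i (List.mem_finRange i)]
  · rw [if_pos hil, Function.update_self]
  · intro k hk
    by_cases hkl : k ≠ l
    · rw [if_pos hkl, Function.update_of_ne hk, Pi.one_apply, hh_one]
    · rw [if_neg hkl]

/-- the core of BINJ-STARMEM -/
theorem binjstarmem_core (l : Fin n)
    (h_swap : ∀ {i j : Fin n}, i ≠ j → ∀ {t : K}, t ≠ 0 → hh j i t = hh i j t⁻¹)
    (h_rel : ∀ {i j l : Fin n}, i ≠ j → j ≠ l → i ≠ l → ∀ {t : K}, t ≠ 0 →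
      hh i l t = hh j l t * hh i j t)
    (h_mul : ∀ {t t' : Fin n → K}, (∀ i, t i ≠ 0) → (∀ i, t' i ≠ 0) →
      starElt l t * starElt l t' = starElt l (t * t'))
    {g : St K n} (hg : g ∈ HH K n) :
    ∃ t : Fin n → K, (∀ i, t i ≠ 0) ∧ g = starElt l t := by
  classical
  -- closure properties of the set of star elements
  have hS_one : ∃ t : Fin n → K, (∀ i, t i ≠ 0) ∧ (1 : St K n) = starElt l t :=
    ⟨1, fun _ => one_ne_zero, (binjstarmem_starElt_one l).symm⟩
  have hS_mul : ∀ a b : St K n, (∃ t : Fin n → K, (∀ i, t i ≠ 0) ∧ a = starElt l t) →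
      (∃ t : Fin n → K, (∀ i, t i ≠ 0) ∧ b = starElt l t) →
      ∃ t : Fin n → K, (∀ i, t i ≠ 0) ∧ a * b = starElt l t := by
    rintro a b ⟨t, ht, rfl⟩ ⟨t', ht', rfl⟩
    exact ⟨t * t', fun i => mul_ne_zero (ht i) (ht' i), h_mul ht ht'⟩
  have hS_inv : ∀ a : St K n, (∃ t : Fin n → K, (∀ i, t i ≠ 0) ∧ a = starElt l t) →
      ∃ t : Fin n → K, (∀ i, t i ≠ 0) ∧ a⁻¹ = starElt l t := by
    rintro a ⟨t, ht, rfl⟩
    refine ⟨t⁻¹, fun i => inv_ne_zero (ht i), ?_⟩
    have h1 : starElt l t * starElt l t⁻¹ = 1 := by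
      rw [h_mul (t := t) (t' := t⁻¹) ht (fun i => inv_ne_zero (ht i))]
      have : t * t⁻¹ = 1 := by
        funext i
        simp [ht i]
      rw [this, binjstarmem_starElt_one]
    exact inv_eq_of_mul_eq_one_right h1
  have hS_gen : ∀ (i : Fin n) (s : K), i ≠ l → s ≠ 0 →
      ∃ t : Fin n → K, (∀ k, t k ≠ 0) ∧ hh i l s = starElt l t := by
    intro i s hil hs
    refine ⟨Function.update (1 : Fin n → K) i s, fun k => ?_,
      (binjstarmem_starElt_update l i hil s).symm⟩
    by_cases hk : k = i
    · subst hk; rw [Function.update_self]; exact hs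
    · rw [Function.update_of_ne hk]; exact one_ne_zero
  unfold HH at hg
  induction hg using Subgroup.closure_induction with
  | mem x hx =>
    obtain ⟨i, j, s, hij, hs, rfl⟩ := hx
    by_cases hjl : j = l
    · subst hjl
      exact hS_gen i s hij hs
    · by_cases hil : i = l
      · subst hil
        rw [h_swap (i := j) (j := i) (Ne.symm hij) hs]
        exact hS_gen j s⁻¹ hjl (inv_ne_zero hs)
      · have hrel := h_rel hij hjl hil hs
        have : hh i j s = (hh j l s)⁻¹ * hh i l s := by
          rw [hrel, inv_mul_cancel_left]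
        rw [this]
        exact hS_mul _ _ (hS_inv _ (hS_gen j s hjl hs)) (hS_gen i s hil hs)
  | one => exact hS_one
  | mul a b _ _ ha hb => exact hS_mul a b ha hb
  | inv a _ ha => exact hS_inv a ha

end Cfsg.Agent.Lib.Helper41.Stn
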