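import Cfsg.Agent.Lib.Helper76.SlDefs
import Cfsg.Agent.Lib.Helper43.SlK2Defs
import Cfsg.Agent.Lib.Helper3.CharOps
import Cfsg.Agent.Lib.Helper3.Degree
import Cfsg.Agent.Lib.Helper69.SLVec

/-! # Sl hive (S2332, helper76), sub-hive SL-K2 (helper43): leaf SL-K2-TRANS `k2_trans` (helper68).
Every transvection matrix `1 + v fᵀ` of `F^(m+2)`, `m ≥ 1`, is an `SL`-conjugate of `tv F m`. -/

set_option autoImplicit false

namespace Cfsg.Agent.Lib.Helper76.Sl

open Matrix Cfsg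

section aux

variable {F : Type*} [Field F]

/-- the determinant of `1 + u vᵀ` -/
theorem k2trans_det {ι : Type*} [Fintype ι] [DecidableEq ι] (u v : ι → F) :
    (1 + Matrix.vecMulVec u v).det = 1 + v ⬝ᵥ u := by
  rw [Matrix.vecMulVec_eq Unit, Matrix.det_one_add_replicateCol_mul_replicateRow]

/-- step 1, with the second index `1`: `g e_0 = v`, `fᵀ g = e_1ᵀ` -/
theorem k2trans_step1 (k : ℕ) (v f : Fin (k + 3) → F) (hv : v ≠ 0) (hf : f ≠ 0) (hfv : f ⬝ᵥ v = 0) :
    ∃ g : Matrix.SpecialLinearGroup (Fin (k + 3)) F,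
      g.1 *ᵥ Pi.single 0 1 = v ∧ f ᵥ* g.1 = Pi.single 1 1 := by
  classical
  -- a vector `w` with `f w = 1`
  obtain ⟨j, hj⟩ : ∃ j, f j ≠ 0 := by
    by_contra h
    push_neg at h
    exact hf (funext h)
  set w : Fin (k + 3) → F := Pi.single j (f j)⁻¹ with hw
  have hfw : f ⬝ᵥ w = 1 := by
    rw [hw, dotProduct_single, mul_inv_cancel₀ hj]
  have hw0 : w ≠ 0 := by
    intro h
    rw [h, dotProduct_zero] at hfw
    exact zero_ne_one hfw
  have hind : ∀ a : F, a • w ≠ v := by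
    intro a h
    have h1 : f ⬝ᵥ (a • w) = 0 := by rw [h, hfv]
    rw [dotProduct_smul, hfw, smul_eq_mul, mul_one] at h1
    rw [h1, zero_smul] at h
    exact hv h.symm
  obtain ⟨g0, hg0, hg1⟩ := Cfsg.Agent.Lib.Helper69.SLVec.exists_sl_pair k v w hw0 hind
  -- the row vector `φ = fᵀ g0`
  set φ : Fin (k + 3) → F := f ᵥ* g0.1 with hφ
  have hφ0 : φ ⬝ᵥ Pi.single 0 1 = 0 := by
    rw [hφ, ← Matrix.dotProduct_mulVec, hg0, hfv]
  have hφ1 : φ ⬝ᵥ Pi.single 1 1 = 1 := by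
    rw [hφ, ← Matrix.dotProduct_mulVec, hg1, hfw]
  set c : Fin (k + 3) → F := Pi.single 1 1 - φ with hc
  have hdet : (1 + Matrix.vecMulVec (Pi.single 1 1) c).det = 1 := by
    rw [k2trans_det, hc, sub_dotProduct, hφ1, single_dotProduct]
    simp
  refine ⟨g0 * ⟨1 + Matrix.vecMulVec (Pi.single 1 1) c, hdet⟩, ?_, ?_⟩
  · show (g0.1 * (1 + Matrix.vecMulVec (Pi.single 1 1) c)) *ᵥ Pi.single 0 1 = v
    rw [← Matrix.mulVec_mulVec, Matrix.add_mulVec, Matrix.one_mulVec, Matrix.vecMulVec_mulVec]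
    have : c ⬝ᵥ Pi.single 0 1 = 0 := by
      rw [hc, sub_dotProduct, hφ0, single_dotProduct]
      simp
    rw [this]
    simp [hg0]
  · show f ᵥ* (g0.1 * (1 + Matrix.vecMulVec (Pi.single 1 1) c)) = Pi.single 1 1
    rw [← Matrix.vecMul_vecMul, ← hφ, Matrix.vecMul_add, Matrix.vecMul_one, Matrix.vecMul_vecMulVec,
      hφ1, one_smul, hc]
    abel

/-- step 2, with the second index `Fin.last`: reindex along `swap 1 last` -/
theorem k2trans_step2 (k : ℕ) (v f : Fin (k + 3) → F) (hv : v ≠ 0) (hf : f ≠ 0) (hfv : f ⬝ᵥ v = 0) :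
    ∃ g : Matrix.SpecialLinearGroup (Fin (k + 3)) F,
      g.1 *ᵥ Pi.single 0 1 = v ∧ f ᵥ* g.1 = Pi.single (Fin.last (k + 2)) 1 := by
  classical
  set σ : Equiv.Perm (Fin (k + 3)) := Equiv.swap 1 (Fin.last (k + 2)) with hσ
  have hσ0 : σ 0 = 0 := by
    rw [hσ]
    apply Equiv.swap_apply_of_ne_of_ne
    · intro h; have := congrArg Fin.val h; simp at this
    · intro h; have := congrArg Fin.val h; simp at this
  have hσ1 : σ (Fin.last (k + 2)) = 1 := Equiv.swap_apply_right _ _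
  have hσσ : ∀ i, σ (σ i) = i := fun i => Equiv.swap_apply_self _ _ i
  have hsymm : σ.symm = σ := Equiv.symm_swap _ _
  have hv' : v ∘ σ ≠ 0 := by
    intro h
    apply hv
    funext i
    have := congrFun h (σ i)
    simpa [hσσ] using this
  have hf' : f ∘ σ ≠ 0 := by
    intro h
    apply hf
    funext i
    have := congrFun h (σ i)
    simpa [hσσ] using this
  have hfv' : (f ∘ σ) ⬝ᵥ (v ∘ σ) = 0 := by
    rw [← hfv]
    exact Equiv.sum_comp σ (fun i => f i * v i)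
  obtain ⟨g', hg0, hg1⟩ := k2trans_step1 k (v ∘ σ) (f ∘ σ) hv' hf' hfv'
  refine ⟨⟨g'.1.submatrix σ σ, ?_⟩, ?_, ?_⟩
  · rw [Matrix.det_submatrix_equiv_self]
    exact g'.2
  · show g'.1.submatrix σ σ *ᵥ Pi.single 0 1 = v
    rw [Matrix.submatrix_mulVec_equiv, hsymm]
    have h1 : (Pi.single 0 1 : Fin (k + 3) → F) ∘ σ = Pi.single 0 1 := by
      funext i
      by_cases hi : i = 0
      · subst hi; simp [hσ0]
      · have : σ i ≠ 0 := by
          intro h
          apply hi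
          rw [← hσσ i, h, hσ0]
        simp [hi, this]
    rw [h1, hg0]
    funext i
    simp [hσσ]
  · show f ᵥ* g'.1.submatrix σ σ = Pi.single (Fin.last (k + 2)) 1
    rw [Matrix.submatrix_vecMul_equiv, hsymm, hg1]
    funext i
    by_cases hi : i = Fin.last (k + 2)
    · subst hi; simp [hσ1]
    · have : σ i ≠ 1 := by
        intro h
        apply hi
        rw [← hσσ i, h, hσ]
        exact Equiv.swap_apply_left _ _
      simp [hi, this]

end aux

section main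

variable {F : Type*} [Field F] [Fintype F] [DecidableEq F]

/-- SL-K2-TRANS: every transvection matrix is an `SL`-conjugate of `tv F m`. -/
theorem k2_trans (m : ℕ) (hm : 1 ≤ m) (p : TvPair F m) :
    ∃ g : Gm F m, (g * tv F m * g⁻¹).1 = tvMat p := by
  obtain ⟨k, rfl⟩ : ∃ k, m = k + 1 := ⟨m - 1, by omega⟩
  obtain ⟨⟨v, f⟩, hv, hf, hfv⟩ := p
  obtain ⟨g, hg0, hg1⟩ := k2trans_step2 k v f hv hf hfv
  refine ⟨g, ?_⟩
  have htv : (tv F (k + 1)).1 = 1 + Matrix.vecMulVec (Pi.single 0 1) (Pi.single (Fin.last (k + 2)) 1) := by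
    rw [← Matrix.single_eq_single_vecMulVec_single]
    rfl
  have hinv : g.1 * (g⁻¹ : Matrix.SpecialLinearGroup (Fin (k + 3)) F).1 = 1 := by
    rw [← Matrix.SpecialLinearGroup.coe_mul, mul_inv_cancel, Matrix.SpecialLinearGroup.coe_one]
  show g.1 * (tv F (k + 1)).1 * (g⁻¹ : Matrix.SpecialLinearGroup (Fin (k + 3)) F).1 = 1 + Matrix.vecMulVec v f
  rw [htv, Matrix.mul_add, Matrix.add_mul, Matrix.mul_one, hinv, Matrix.mul_vecMulVec, Matrix.vecMulVec_mul, hg0]
  congr 2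
  rw [← hg1, Matrix.vecMul_vecMul, hinv, Matrix.vecMul_one]

end main

end Cfsg.Agent.Lib.Helper76.Sl
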