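import Mathlib
import Cfsg.Prelude.Def_GeometricClasses
import Cfsg.Agent.Lib.Helper40.PSLnIrr

/-! OC-IDX sub-hive (helper8; Oc hive of helper44, S5977/S5978), leaf IDX-Z `idx_zsig` (helper68). -/

set_option autoImplicit false

namespace Cfsg.Agent.Lib.Helper44.Oc

theorem z_pow_eq_one (q s k : ℕ) (hq : 1 ≤ q) (h : s ∣ q ^ k - 1) : ((q : ℕ) : ZMod s) ^ k = 1 := by
  have h1 : 1 ≤ q ^ k := Nat.one_le_pow _ _ hq
  have h2 : ((q ^ k - 1 : ℕ) : ZMod s) = 0 := (ZMod.natCast_eq_zero_iff _ _).mpr h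
  rw [Nat.cast_sub h1] at h2
  have h3 := sub_eq_zero.mp h2
  simpa using h3

/-- IDX-Z -/
theorem idx_zsig (q e d : ℕ) (hd : d = 2 * e) (hq : 3 ≤ q) (he : 2 ≤ e) :
    ¬ (2 * (q ^ 2) ^ (e * (e - 1)) * ((q ^ 2) ^ e + 1) *
          (∏ i ∈ Finset.range (e - 1), ((q ^ 2) ^ (2 * (i + 1)) - 1)) ∣
        2 * q ^ (d * (d - 1)) * (q ^ d - 1) * ∏ i ∈ Finset.range (d - 1), (q ^ (2 * (i + 1)) - 1)) := by
  intro hdvd
  have hd2 : 2 ≤ d := by omega
  obtain ⟨s, hs, hsd, hord, -⟩ := Cfsg.Agent.Lib.Helper40.PSLn.exists_zsig q d hq hd2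
  haveI : Fact s.Prime := ⟨hs⟩
  have hq1 : 1 ≤ q := by omega
  -- s divides the left-hand side
  have hL : s ∣ 2 * (q ^ 2) ^ (e * (e - 1)) * ((q ^ 2) ^ e + 1) *
      (∏ i ∈ Finset.range (e - 1), ((q ^ 2) ^ (2 * (i + 1)) - 1)) := by
    have : (q ^ 2) ^ e + 1 = q ^ d + 1 := by rw [← pow_mul, hd]
    rw [this]
    exact Dvd.dvd.mul_right (Dvd.dvd.mul_left hsd _) _
  have hR := hL.trans hdvd
  -- order facts
  have hordk : ∀ k : ℕ, s ∣ q ^ k - 1 → d + d ∣ k := by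
    intro k hk
    rw [← hord]
    exact orderOf_dvd_of_pow_eq_one (z_pow_eq_one q s k hq1 hk)
  have hpow : ((q : ℕ) : ZMod s) ^ (d + d) = 1 := by rw [← hord]; exact pow_orderOf_eq_one _
  rcases (Nat.Prime.dvd_mul hs).1 hR with h | h
  · rcases (Nat.Prime.dvd_mul hs).1 h with h | h
    · rcases (Nat.Prime.dvd_mul hs).1 h with h | h
      · -- s ∣ 2
        have hs2 : s = 2 := (Nat.prime_dvd_prime_iff_eq hs Nat.prime_two).mp h
        subst hs2
        have hle : orderOf ((q : ℕ) : ZMod 2) ≤ Fintype.card (ZMod 2) := orderOf_le_card_univ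
        rw [hord, ZMod.card] at hle
        omega
      · -- s ∣ q ^ _
        have hsq : s ∣ q := hs.dvd_of_dvd_pow h
        have h0 : ((q : ℕ) : ZMod s) = 0 := (ZMod.natCast_eq_zero_iff _ _).mpr hsq
        rw [h0, zero_pow (by omega)] at hpow
        exact zero_ne_one hpow
    · -- s ∣ q ^ d - 1
      have := hordk d h
      have := Nat.le_of_dvd (by omega) this
      omega
  · -- s ∣ ∏
    obtain ⟨i, hi, hsi⟩ := (Prime.dvd_finsetProd_iff hs.prime _).1 h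
    rw [Finset.mem_range] at hi
    have := hordk _ hsi
    have := Nat.le_of_dvd (by omega) this
    omega

end Cfsg.Agent.Lib.Helper44.Oc
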