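import Mathlib

/-!
# Of hive (S5981), numeric leaves OF-ARCP, OF-ARCM
-/

set_option autoImplicit false

namespace Cfsg.Agent.Lib.Helper44.Of

theorem arc_cast_sub_one (q r k : ℕ) (hq : 1 ≤ q) :
    ((q ^ k - 1 : ℕ) : ZMod r) = (q : ZMod r) ^ k - 1 := by
  have h1 : 1 ≤ q ^ k := Nat.one_le_pow _ _ hq
  rw [Nat.cast_sub h1]; simp

theorem arc_two_ne_zero (r : ℕ) [Fact r.Prime] (hr2 : r ≠ 2) : (2 : ZMod r) ≠ 0 := by
  intro h
  have h2 : ((2 : ℕ) : ZMod r) = 0 := by exact_mod_cast h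
  rw [ZMod.natCast_eq_zero_iff] at h2
  have := (Nat.prime_dvd_prime_iff_eq (Fact.out : r.Prime) Nat.prime_two).mp h2
  exact hr2 this

theorem arc_not_one (q r : ℕ) (hq : 1 ≤ q) (hr1 : ¬ r ∣ q - 1) : (q : ZMod r) ≠ 1 := by
  intro h
  apply hr1
  rw [← ZMod.natCast_eq_zero_iff, Nat.cast_sub hq, h]; simp

/-- OF-ARCP : numeric -/
theorem arith_contra_plus (q r m : ℕ) (hq : 2 ≤ q) [Fact r.Prime] (hr2 : r ≠ 2) (hr1 : ¬ r ∣ q - 1)
    (hm : 1 ≤ m) (h1 : r ∣ q ^ m + 1) (h2 : r ∣ (q ^ m - 1) * (q ^ (m - 1) + 1)) : False := by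
  have hq1 : 1 ≤ q := by omega
  have hx1 := arc_not_one q r hq1 hr1
  have h2ne := arc_two_ne_zero r hr2
  rw [← ZMod.natCast_eq_zero_iff] at h1 h2
  rw [Nat.cast_mul, arc_cast_sub_one q r m hq1] at h2
  push_cast at h1 h2
  set x : ZMod r := (q : ZMod r) with hx
  obtain ⟨k, rfl⟩ : ∃ k, m = k + 1 := ⟨m - 1, by omega⟩
  simp only [Nat.add_sub_cancel] at h2
  rcases mul_eq_zero.mp h2 with h | h
  · have e : x ^ (k + 1) = 1 := by linear_combination h
    rw [e] at h1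
    apply h2ne
    linear_combination h1
  · have e : x ^ k = -1 := by linear_combination h
    rw [pow_succ, e] at h1
    apply hx1
    linear_combination -h1

/-- OF-ARCM : numeric -/
theorem arith_contra_minus (q r m : ℕ) (hq : 2 ≤ q) [Fact r.Prime] (hr2 : r ≠ 2) (hr1 : ¬ r ∣ q - 1)
    (hm : 1 ≤ m) (h1 : r ∣ q ^ m - 1) (h2 : r ∣ (q ^ m + 1) * (q ^ (m - 1) - 1)) : False := by
  have hq1 : 1 ≤ q := by omega
  have hx1 := arc_not_one q r hq1 hr1
  have h2ne := arc_two_ne_zero r hr2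
  rw [← ZMod.natCast_eq_zero_iff] at h1 h2
  rw [arc_cast_sub_one q r m hq1] at h1
  rw [Nat.cast_mul, arc_cast_sub_one q r (m - 1) hq1] at h2
  push_cast at h1 h2
  set x : ZMod r := (q : ZMod r) with hx
  obtain ⟨k, rfl⟩ : ∃ k, m = k + 1 := ⟨m - 1, by omega⟩
  simp only [Nat.add_sub_cancel] at h2
  have e1 : x ^ (k + 1) = 1 := by linear_combination h1
  rcases mul_eq_zero.mp h2 with h | h
  · rw [e1] at h
    apply h2ne
    linear_combination h
  · have e : x ^ k = 1 := by linear_combination h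
    rw [pow_succ, e] at e1
    apply hx1
    linear_combination e1

end Cfsg.Agent.Lib.Helper44.Of
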