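import Mathlib

/-!
# Of hive (S5981), numeric leaves OF-ARO, OF-AREP, OF-AREM
-/

set_option autoImplicit false

namespace Cfsg.Agent.Lib.Helper44.Of

open Finset

/-- `|GL_n(q)| = (∏ q^i) * ∏ (q^(j+1) - 1)` -/
theorem aro_prod_split (q n : ℕ) (hq : 1 ≤ q) :
    ∏ i ∈ range n, (q ^ n - q ^ i) = (∏ i ∈ range n, q ^ i) * ∏ j ∈ range n, (q ^ (j + 1) - 1) := by
  have h1 : ∏ i ∈ range n, (q ^ n - q ^ i) = ∏ i ∈ range n, (q ^ i * (q ^ (n - 1 - i + 1) - 1)) := by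
    apply prod_congr rfl
    intro i hi
    rw [mem_range] at hi
    have e : n - 1 - i + 1 = n - i := by omega
    rw [e, Nat.mul_sub, mul_one, ← pow_add]
    congr 2
    omega
  rw [h1, prod_mul_distrib]
  congr 1
  exact prod_range_reflect (fun j => q ^ (j + 1) - 1) n

theorem aro_prod_odd (q k : ℕ) :
    ∏ j ∈ range (2 * k + 1), (q ^ (j + 1) - 1) =
      (q - 1) * ((∏ i ∈ range k, (q ^ (2 * (i + 1)) - 1)) * ∏ i ∈ range k, (q ^ (2 * i + 3) - 1)) := by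
  induction k with
  | zero => simp
  | succ k ih =>
    have e : 2 * (k + 1) + 1 = (2 * k + 1) + 1 + 1 := by ring
    rw [e, prod_range_succ, prod_range_succ, ih, prod_range_succ, prod_range_succ]
    have e1 : 2 * k + 1 + 1 = 2 * (k + 1) := by ring
    have e2 : 2 * k + 1 + 1 + 1 = 2 * k + 3 := by ring
    rw [e2, e1]
    ring

theorem aro_not_dvd_prod_pow (q r n : ℕ) [Fact r.Prime] (hrq : ¬ r ∣ q) :
    ¬ r ∣ ∏ i ∈ range n, q ^ i := by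
  intro h
  rw [Prime.dvd_finsetProd_iff (Nat.prime_iff.mp (Fact.out : r.Prime))] at h
  obtain ⟨i, _, hi⟩ := h
  exact hrq ((Fact.out : r.Prime).dvd_of_dvd_pow hi)

theorem aro_pos_even (q k : ℕ) (hq : 2 ≤ q) : 0 < ∏ i ∈ range k, (q ^ (2 * (i + 1)) - 1) := by
  apply prod_pos
  intro i _
  have : 2 ≤ q ^ (2 * (i + 1)) := by
    calc 2 ≤ q := hq
      _ = q ^ 1 := (pow_one q).symm
      _ ≤ q ^ (2 * (i + 1)) := Nat.pow_le_pow_right (by omega) (by omega)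
  omega

theorem aro_exists_odd (q r k : ℕ) [Fact r.Prime] (h : r ∣ ∏ i ∈ range k, (q ^ (2 * i + 3) - 1)) :
    ∃ i < k, r ∣ q ^ (2 * i + 3) - 1 := by
  rw [Prime.dvd_finsetProd_iff (Nat.prime_iff.mp (Fact.out : r.Prime))] at h
  obtain ⟨i, hi, hd⟩ := h
  exact ⟨i, mem_range.mp hi, hd⟩

/-- core cancellation: from `r * (2 * A * E) ∣ 2 * S` and `S * (q-1) = Qp * ((q-1) * (E * X))`
get `r ∣ X` when `r ∤ Qp`. -/
theorem aro_cancel (r A E S Qp X c : ℕ) [Fact r.Prime] (hc : 0 < c) (hE : 0 < E)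
    (hS : S * c = Qp * (c * (E * X))) (h : r * (2 * A * E) ∣ 2 * S) (hQp : ¬ r ∣ Qp) : r ∣ X := by
  have h1 : r * (2 * A * E) * c ∣ 2 * S * c := Nat.mul_dvd_mul_right h c
  have e : 2 * S * c = (Qp * X) * (2 * E * c) := by
    calc 2 * S * c = 2 * (S * c) := by ring
      _ = 2 * (Qp * (c * (E * X))) := by rw [hS]
      _ = (Qp * X) * (2 * E * c) := by ring
  have e' : r * (2 * A * E) * c = (r * A) * (2 * E * c) := by ring
  rw [e, e'] at h1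
  have hpos : 0 < 2 * E * c := by positivity
  have h2 : r * A ∣ Qp * X := Nat.dvd_of_mul_dvd_mul_right hpos h1
  have h3 : r ∣ Qp * X := (dvd_mul_right r A).trans h2
  rcases ((Fact.out : r.Prime).dvd_mul).mp h3 with h4 | h4
  · exact absurd h4 hQp
  · exact h4

/-- OF-ARO : numeric -/
theorem arith_odd (q r m S : ℕ) (hq : 2 ≤ q) [Fact r.Prime] (hr2 : r ≠ 2) (hrq : ¬ r ∣ q) (hm : 1 ≤ m)
    (hS : S * (q - 1) = ∏ i ∈ Finset.range (2 * m + 1), (q ^ (2 * m + 1) - q ^ i))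
    (h : r * (2 * q ^ (m ^ 2) * ∏ i ∈ Finset.range m, (q ^ (2 * (i + 1)) - 1)) ∣ 2 * S) :
    ∃ j, Odd j ∧ 3 ≤ j ∧ j ≤ 2 * m + 1 ∧ r ∣ q ^ j - 1 := by
  rw [aro_prod_split q (2 * m + 1) (by omega), aro_prod_odd] at hS
  have hX := aro_cancel r (q ^ (m ^ 2)) _ S _ _ (q - 1) (by omega) (aro_pos_even q m hq) hS h
    (aro_not_dvd_prod_pow q r _ hrq)
  obtain ⟨i, hi, hd⟩ := aro_exists_odd q r m hX
  exact ⟨2 * i + 3, ⟨i + 1, by ring⟩, by omega, by omega, hd⟩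

theorem aro_prod_even (q k : ℕ) (hk : 1 ≤ k) :
    ∏ j ∈ range (2 * k), (q ^ (j + 1) - 1) =
      (q - 1) * ((∏ i ∈ range (k - 1), (q ^ (2 * (i + 1)) - 1)) *
        ((∏ i ∈ range (k - 1), (q ^ (2 * i + 3) - 1)) * (q ^ (2 * k) - 1))) := by
  obtain ⟨k', rfl⟩ : ∃ k', k = k' + 1 := ⟨k - 1, by omega⟩
  have e : 2 * (k' + 1) = (2 * k' + 1) + 1 := by ring
  rw [e, prod_range_succ, aro_prod_odd]
  simp only [Nat.add_sub_cancel]
  ring

theorem aro_sq_sub_one (q m : ℕ) (hq : 1 ≤ q) : q ^ (2 * m) - 1 = (q ^ m - 1) * (q ^ m + 1) := by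
  have h1 : 1 ≤ q ^ m := Nat.one_le_pow _ _ hq
  have e : q ^ (2 * m) = q ^ m * q ^ m := by rw [two_mul, pow_add]
  rw [e]
  zify [h1, Nat.one_le_iff_ne_zero.mpr (Nat.mul_ne_zero (by omega : q ^ m ≠ 0) (by omega : q ^ m ≠ 0))]
  ring

theorem aro_pos_pow_sub (q m : ℕ) (hq : 2 ≤ q) (hm : 1 ≤ m) : 0 < q ^ m - 1 := by
  have : 2 ≤ q ^ m := by
    calc 2 ≤ q := hq
      _ = q ^ 1 := (pow_one q).symm
      _ ≤ q ^ m := Nat.pow_le_pow_right (by omega) hm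
  omega

/-- OF-AREP : numeric -/
theorem arith_even_plus (q r m S : ℕ) (hq : 2 ≤ q) [Fact r.Prime] (hr2 : r ≠ 2) (hrq : ¬ r ∣ q) (hm : 2 ≤ m)
    (hS : S * (q - 1) = ∏ i ∈ Finset.range (2 * m), (q ^ (2 * m) - q ^ i))
    (h : r * (2 * q ^ (m * (m - 1)) * (q ^ m - 1) * ∏ i ∈ Finset.range (m - 1), (q ^ (2 * (i + 1)) - 1))
      ∣ 2 * S) :
    (∃ j, Odd j ∧ 3 ≤ j ∧ j < 2 * m ∧ r ∣ q ^ j - 1) ∨ r ∣ q ^ m + 1 := by
  rw [aro_prod_split q (2 * m) (by omega), aro_prod_even q m (by omega), aro_sq_sub_one q m (by omega)] at hS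
  set E := ∏ i ∈ Finset.range (m - 1), (q ^ (2 * (i + 1)) - 1) with hE
  set O := ∏ i ∈ range (m - 1), (q ^ (2 * i + 3) - 1) with hO
  have hS' : S * (q - 1) = (∏ i ∈ range (2 * m), q ^ i) * ((q - 1) * (((q ^ m - 1) * E) * (O * (q ^ m + 1)))) := by
    rw [hS]; ring
  have h' : r * (2 * q ^ (m * (m - 1)) * ((q ^ m - 1) * E)) ∣ 2 * S := by
    have e : r * (2 * q ^ (m * (m - 1)) * ((q ^ m - 1) * E)) =
        r * (2 * q ^ (m * (m - 1)) * (q ^ m - 1) * E) := by ring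
    rw [e]; exact h
  have hpos : 0 < (q ^ m - 1) * E :=
    Nat.mul_pos (aro_pos_pow_sub q m hq (by omega)) (aro_pos_even q (m - 1) hq)
  have hX := aro_cancel r (q ^ (m * (m - 1))) _ S _ _ (q - 1) (by omega) hpos hS' h'
    (aro_not_dvd_prod_pow q r _ hrq)
  rcases ((Fact.out : r.Prime).dvd_mul).mp hX with h4 | h4
  · left
    obtain ⟨i, hi, hd⟩ := aro_exists_odd q r (m - 1) h4
    exact ⟨2 * i + 3, ⟨i + 1, by ring⟩, by omega, by omega, hd⟩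
  · right; exact h4

/-- OF-AREM : numeric -/
theorem arith_even_minus (q r m S : ℕ) (hq : 2 ≤ q) [Fact r.Prime] (hr2 : r ≠ 2) (hrq : ¬ r ∣ q) (hm : 2 ≤ m)
    (hS : S * (q - 1) = ∏ i ∈ Finset.range (2 * m), (q ^ (2 * m) - q ^ i))
    (h : r * (2 * q ^ (m * (m - 1)) * (q ^ m + 1) * ∏ i ∈ Finset.range (m - 1), (q ^ (2 * (i + 1)) - 1))
      ∣ 2 * S) :
    (∃ j, Odd j ∧ 3 ≤ j ∧ j < 2 * m ∧ r ∣ q ^ j - 1) ∨ r ∣ q ^ m - 1 := by
  rw [aro_prod_split q (2 * m) (by omega), aro_prod_even q m (by omega), aro_sq_sub_one q m (by omega)] at hS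
  set E := ∏ i ∈ Finset.range (m - 1), (q ^ (2 * (i + 1)) - 1) with hE
  set O := ∏ i ∈ range (m - 1), (q ^ (2 * i + 3) - 1) with hO
  have hS' : S * (q - 1) = (∏ i ∈ range (2 * m), q ^ i) * ((q - 1) * (((q ^ m + 1) * E) * (O * (q ^ m - 1)))) := by
    rw [hS]; ring
  have h' : r * (2 * q ^ (m * (m - 1)) * ((q ^ m + 1) * E)) ∣ 2 * S := by
    have e : r * (2 * q ^ (m * (m - 1)) * ((q ^ m + 1) * E)) =
        r * (2 * q ^ (m * (m - 1)) * (q ^ m + 1) * E) := by ring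
    rw [e]; exact h
  have hpos : 0 < (q ^ m + 1) * E :=
    Nat.mul_pos (by omega) (aro_pos_even q (m - 1) hq)
  have hX := aro_cancel r (q ^ (m * (m - 1))) _ S _ _ (q - 1) (by omega) hpos hS' h'
    (aro_not_dvd_prod_pow q r _ hrq)
  rcases ((Fact.out : r.Prime).dvd_mul).mp hX with h4 | h4
  · left
    obtain ⟨i, hi, hd⟩ := aro_exists_odd q r (m - 1) h4
    exact ⟨2 * i + 3, ⟨i + 1, by ring⟩, by omega, by omega, hd⟩
  · right; exact h4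

end Cfsg.Agent.Lib.Helper44.Of
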