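import Mathlib
import Cfsg.Prelude.Def_GeometricClasses
import Cfsg.Agent.Lib.Helper44.UfDefs
import Cfsg.Agent.Lib.Helper82.UfBADB

/-! S5981 hive (helper44), leaf OF-BADB (helper68): adaptation of UF-BADB (helper82) to `q₀ = 1`:
`x = diag(1, …, 1, ζ, ζ, ζ⁻²)` is not spectrally symmetric. -/

set_option autoImplicit false
open scoped MatrixGroups
open Matrix Polynomial

namespace Cfsg.Agent.Lib.Helper44.Of

universe v

variable {F : Type v} [Field F]

open Cfsg.Agent.Lib.Helper44.Uf

/-- OF-BADB : `x = diag(1, …, 1, ζ, ζ, ζ⁻²)`, `ζ` of order `r` (adapt `Lib/Helper82/UfBADB.lean`) -/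
theorem exists_bad_B [Fintype F] {n : ℕ} (hn : 7 ≤ n) (r : ℕ) [Fact r.Prime] (hr2 : r ≠ 2)
    (hr1 : r ∣ Fintype.card F - 1) :
    ∃ x : GL (Fin n) F, x ∈ Cfsg.Geo.specialLinear (Fin n) F ∧
      (∃ z : F, ((x ^ r : GL (Fin n) F) : Matrix (Fin n) (Fin n) F) = z • (1 : Matrix (Fin n) (Fin n) F)) ∧
      (∀ z : F, (x : Matrix (Fin n) (Fin n) F) ≠ z • (1 : Matrix (Fin n) (Fin n) F)) ∧
      ¬ SpecSym 1 (x : Matrix (Fin n) (Fin n) F) := by
  classical
  have hr : r.Prime := Fact.out
  have hdvd : r ∣ Fintype.card F - 1 := hr1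
  obtain ⟨ζ, hζr, hζ1⟩ := badb_exists_root r hr hdvd
  have hζ0 : ζ ≠ 0 := by
    intro h
    rw [h, zero_pow hr.ne_zero] at hζr
    exact zero_ne_one hζr
  have hζq : ζ ^ 1 = ζ := pow_one ζ
  -- ζ² ≠ 1
  have hζ2 : ζ ^ 2 ≠ 1 := by
    intro h
    have hord : orderOf ζ = r := orderOf_eq_prime hζr hζ1
    have h2 : orderOf ζ ∣ 2 := orderOf_dvd_of_pow_eq_one h
    rw [hord] at h2
    have := (Nat.prime_dvd_prime_iff_eq hr Nat.prime_two).mp h2
    exact hr2 this
  -- indices
  let p1 : Fin n := ⟨n - 1, by omega⟩
  let p2 : Fin n := ⟨n - 2, by omega⟩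
  let p3 : Fin n := ⟨n - 3, by omega⟩
  let i0 : Fin n := ⟨0, by omega⟩
  have h12 : p1 ≠ p2 := by intro h; have := congrArg Fin.val h; simp [p1, p2] at this; omega
  have h13 : p1 ≠ p3 := by intro h; have := congrArg Fin.val h; simp [p1, p3] at this; omega
  have h23 : p2 ≠ p3 := by intro h; have := congrArg Fin.val h; simp [p2, p3] at this; omega
  have h01 : i0 ≠ p1 := by intro h; have := congrArg Fin.val h; simp [i0, p1] at this; omega
  have h02 : i0 ≠ p2 := by intro h; have := congrArg Fin.val h; simp [i0, p2] at this; omega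
  have h03 : i0 ≠ p3 := by intro h; have := congrArg Fin.val h; simp [i0, p3] at this; omega
  let d : Fin n → F := fun i =>
    (if i = p1 then (ζ⁻¹) ^ 2 else 1) * (if i = p2 then ζ else 1) * (if i = p3 then ζ else 1)
  have hd1 : d p1 = (ζ⁻¹) ^ 2 := by
    simp only [d, if_true, if_neg h12, if_neg h13, mul_one]
  have hd2 : d p2 = ζ := by
    simp only [d, if_true, if_neg h12.symm, if_neg h23, mul_one, one_mul]
  have hd3 : d p3 = ζ := by
    simp only [d, if_true, if_neg h13.symm, if_neg h23.symm, mul_one, one_mul]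
  have hdo : ∀ i, i ≠ p1 → i ≠ p2 → i ≠ p3 → d i = 1 := by
    intro i a b c
    simp only [d, if_neg a, if_neg b, if_neg c, mul_one]
  have hdcases : ∀ i, d i = 1 ∨ d i = ζ ∨ d i = (ζ⁻¹) ^ 2 := by
    intro i
    by_cases a : i = p1
    · right; right; rw [a, hd1]
    · by_cases b : i = p2
      · right; left; rw [b, hd2]
      · by_cases c : i = p3
        · right; left; rw [c, hd3]
        · left; exact hdo i a b c
  have hdne : ∀ i, d i ≠ 0 := by
    intro i
    rcases hdcases i with h | h | h
    · rw [h]; exact one_ne_zero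
    · rw [h]; exact hζ0
    · rw [h]; exact pow_ne_zero 2 (inv_ne_zero hζ0)
  have hdr : ∀ i, d i ^ r = 1 := by
    intro i
    rcases hdcases i with h | h | h
    · rw [h, one_pow]
    · rw [h, hζr]
    · rw [h, ← pow_mul, mul_comm, pow_mul, inv_pow, hζr, inv_one, one_pow]
  have hprod : ∏ i, d i = 1 := by
    simp only [d, Finset.prod_mul_distrib, Finset.prod_ite_eq', Finset.mem_univ, if_true]
    field_simp
  -- the element
  let x : GL (Fin n) F :=
    ⟨Matrix.diagonal d, Matrix.diagonal (fun i => (d i)⁻¹),
      by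
        rw [Matrix.diagonal_mul_diagonal]
        have : (fun i => d i * (d i)⁻¹) = fun _ => (1 : F) := by
          funext i; exact mul_inv_cancel₀ (hdne i)
        rw [this, Matrix.diagonal_one],
      by
        rw [Matrix.diagonal_mul_diagonal]
        have : (fun i => (d i)⁻¹ * d i) = fun _ => (1 : F) := by
          funext i; exact inv_mul_cancel₀ (hdne i)
        rw [this, Matrix.diagonal_one]⟩
  have hxv : (x : Matrix (Fin n) (Fin n) F) = Matrix.diagonal d := rfl
  refine ⟨x, ?_, ⟨1, ?_⟩, ?_, ?_⟩
  · -- det = 1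
    show x ∈ (Matrix.GeneralLinearGroup.det : GL (Fin n) F →* Fˣ).ker
    rw [MonoidHom.mem_ker]
    apply Units.ext
    rw [Matrix.GeneralLinearGroup.val_det_apply, hxv, Matrix.det_diagonal, hprod, Units.val_one]
  · rw [Units.val_pow_eq_pow_val, hxv, Matrix.diagonal_pow, one_smul]
    have : (d ^ r) = fun _ => (1 : F) := by
      funext i; exact hdr i
    rw [this, Matrix.diagonal_one]
  · intro z hz
    rw [hxv] at hz
    have ha := congrFun (congrFun hz i0) i0
    have hb := congrFun (congrFun hz p2) p2
    rw [Matrix.diagonal_apply_eq, Matrix.smul_apply, Matrix.one_apply_eq, smul_eq_mul, mul_one] at ha hb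
    rw [hdo i0 h01 h02 h03] at ha
    rw [hd2] at hb
    exact hζ1 (hb.trans ha.symm)
  · rintro ⟨c, hc0, hcq, hsym⟩
    rw [hxv] at hsym
    -- step 1 : c = 1
    have hc1 : c = 1 := by
      by_contra hcne
      have h := hsym 1 one_ne_zero
      rw [one_pow, div_one, badb_rank_sub, badb_rank_sub] at h
      have hle : (Finset.univ.filter (fun i => d i ≠ 1)).card ≤ 3 := by
        have hsub : Finset.univ.filter (fun i => d i ≠ 1) ⊆ {p1, p2, p3} := by
          intro i hi
          rw [Finset.mem_filter] at hi
          by_contra hcon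
          simp only [Finset.mem_insert, Finset.mem_singleton, not_or] at hcon
          exact hi.2 (hdo i hcon.1 hcon.2.1 hcon.2.2)
        exact (Finset.card_le_card hsub).trans Finset.card_le_three
      have hge : n - 3 ≤ (Finset.univ.filter (fun i => d i ≠ c)).card := by
        have hsub : Finset.univ \ {p1, p2, p3} ⊆ Finset.univ.filter (fun i => d i ≠ c) := by
          intro i hi
          rw [Finset.mem_sdiff] at hi
          simp only [Finset.mem_insert, Finset.mem_singleton, not_or] at hi
          rw [Finset.mem_filter]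
          refine ⟨Finset.mem_univ _, ?_⟩
          rw [hdo i hi.2.1 hi.2.2.1 hi.2.2.2]
          exact fun h => hcne h.symm
        have h1 := Finset.card_le_card hsub
        have h2 := Finset.le_card_sdiff ({p1, p2, p3} : Finset (Fin n)) Finset.univ
        have h3 : ({p1, p2, p3} : Finset (Fin n)).card ≤ 3 := Finset.card_le_three
        rw [Finset.card_univ, Fintype.card_fin] at h2
        omega
      omega
    -- step 2
    have h := hsym ζ hζ0
    rw [hζq, hc1, one_div, badb_rank_sub, badb_rank_sub] at h
    have hle : (Finset.univ.filter (fun i => d i ≠ ζ)).card ≤ n - 2 := by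
      have hsub : Finset.univ.filter (fun i => d i ≠ ζ) ⊆ Finset.univ \ {p2, p3} := by
        intro i hi
        rw [Finset.mem_filter] at hi
        rw [Finset.mem_sdiff]
        refine ⟨Finset.mem_univ _, ?_⟩
        simp only [Finset.mem_insert, Finset.mem_singleton, not_or]
        constructor
        · intro h; exact hi.2 (by rw [h, hd2])
        · intro h; exact hi.2 (by rw [h, hd3])
      have h1 := Finset.card_le_card hsub
      have h2 : (Finset.univ \ ({p2, p3} : Finset (Fin n))).card = n - 2 := by
        rw [Finset.card_univ_sdiff, Fintype.card_fin, Finset.card_pair h23]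
      omega
    have hall : (Finset.univ.filter (fun i => d i ≠ ζ⁻¹)).card = n := by
      have : Finset.univ.filter (fun i => d i ≠ ζ⁻¹) = Finset.univ := by
        apply Finset.filter_true_of_mem
        intro i _
        rcases hdcases i with h | h | h
        · rw [h]
          intro h1
          apply hζ1
          rw [← inv_inv ζ, ← h1, inv_one]
        · rw [h]
          intro h1
          apply hζ2
          rw [pow_two]
          nth_rewrite 2 [h1]
          exact mul_inv_cancel₀ hζ0
        · rw [h]
          intro h1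
          apply hζ1
          have h3 : ζ⁻¹ = 1 := by
            have h4 : ζ⁻¹ * ζ⁻¹ = ζ⁻¹ := by rw [← pow_two]; exact h1
            have h5 : ζ⁻¹ ≠ 0 := inv_ne_zero hζ0
            exact mul_left_cancel₀ h5 (by rw [h4, mul_one])
          rw [← inv_inv ζ, h3, inv_one]
      rw [this, Finset.card_univ, Fintype.card_fin]
    omega

end Cfsg.Agent.Lib.Helper44.Of
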