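import Mathlib
import Cfsg.Agent.Lib.Helper45.RsDefs

/-! # Rs hive (helper45, S2361): leaf RS-PROD `prod_cent_invol` -/

set_option autoImplicit false

namespace Cfsg.Agent.Lib.Helper45.Rs

theorem prod_z2_sq (c : Multiplicative (ZMod 2)) : c * c = 1 := by
  revert c; decide

theorem prod_z2_eq (c d : Multiplicative (ZMod 2)) (hc : c ≠ 1) (hd : d ≠ 1) : c = d := by
  revert c d; decide

theorem prod_z2_pow_odd (c : Multiplicative (ZMod 2)) (l : ℕ) (hl : Odd l) (h : c ^ l = 1) : c = 1 := by
  obtain ⟨k, rfl⟩ := hl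
  rw [pow_succ, pow_mul, pow_two, prod_z2_sq, one_pow, one_mul] at h
  exact h

/-- RS-PROD -/
theorem prod_cent_invol {C L : Type*} [Group C] [Group L] (e : C ≃* Multiplicative (ZMod 2) × L)
    (hZ : Subgroup.center L = ⊥) (l : ℕ) (hl : l.Prime) (hl2 : l ≠ 2)
    (hL : ∀ v₀ : L, v₀ ≠ 1 → v₀ * v₀ = 1 → ∃ X : Subgroup L, Nat.card X = l ∧ X ≤ Subgroup.centralizer ({v₀} : Set L) ∧
      ∀ x ∈ Subgroup.centralizer ({v₀} : Set L), orderOf x = l → x ∈ X)
    (t v : C) (ht : t ∈ Subgroup.center C) (ht1 : t ≠ 1) (ht2 : t * t = 1) (hv1 : v ≠ 1) (hvt : v ≠ t) (hv2 : v * v = 1) :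
    ∃ X : Subgroup C, Nat.card X = l ∧ X ≤ Subgroup.centralizer ({v} : Set C) ∧
      ∀ x ∈ Subgroup.centralizer ({v} : Set C), orderOf x = l → x ∈ X := by
  have hlodd : Odd l := hl.odd_of_ne_two hl2
  -- the image of `t` is `(a, 1)` with `a ≠ 1`
  have htz : (e t).2 = 1 := by
    have hmem : (e t).2 ∈ Subgroup.center L := by
      rw [Subgroup.mem_center_iff]
      intro y
      have h1 := (Subgroup.mem_center_iff.1 ht) (e.symm (1, y))
      have h2 := congrArg (fun z => (e z).2) h1
      simpa using h2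
    rw [hZ, Subgroup.mem_bot] at hmem
    exact hmem
  have hta : (e t).1 ≠ 1 := by
    intro h
    apply ht1
    apply e.injective
    rw [map_one]
    exact Prod.ext h htz
  -- the image of `v` is `(b, v₀)` with `v₀ ≠ 1`, `v₀² = 1`
  have hv0 : (e v).2 ≠ 1 := by
    intro h
    by_cases hb : (e v).1 = 1
    · apply hv1
      apply e.injective
      rw [map_one]
      exact Prod.ext hb h
    · apply hvt
      apply e.injective
      exact Prod.ext (prod_z2_eq _ _ hb hta) (h.trans htz.symm)
  have hv0sq : (e v).2 * (e v).2 = 1 := by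
    have := congrArg (fun z => (e z).2) hv2
    simpa using this
  obtain ⟨X₀, hX₀card, hX₀le, hX₀uniq⟩ := hL (e v).2 hv0 hv0sq
  -- the subgroup
  let ψ : L →* C := e.symm.toMonoidHom.comp (MonoidHom.inr (Multiplicative (ZMod 2)) L)
  have hψinj : Function.Injective ψ := by
    intro x y hxy
    have := e.symm.injective hxy
    simpa using this
  have heψ : ∀ x : L, e (ψ x) = (1, x) := by
    intro x
    simp [ψ]
  refine ⟨X₀.map ψ, ?_, ?_, ?_⟩
  · rw [Subgroup.card_map_of_injective hψinj, hX₀card]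
  · rintro _ ⟨x₀, hx₀, rfl⟩
    rw [Subgroup.mem_centralizer_iff]
    intro h hh
    rw [Set.mem_singleton_iff] at hh
    subst hh
    apply e.injective
    rw [map_mul, map_mul, heψ]
    have hc := (Subgroup.mem_centralizer_iff.1 (hX₀le hx₀)) (e h).2 rfl
    exact Prod.ext (by simp) (by simpa using hc)
  · intro x hx hxl
    have hxc := (Subgroup.mem_centralizer_iff.1 hx) v rfl
    have hpow : (e x) ^ l = 1 := by
      rw [← map_pow, ← hxl, pow_orderOf_eq_one, map_one]
    have hc1 : (e x).1 = 1 := by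
      apply prod_z2_pow_odd _ l hlodd
      have := congrArg Prod.fst hpow
      simpa using this
    have hx0c : (e x).2 ∈ Subgroup.centralizer ({(e v).2} : Set L) := by
      rw [Subgroup.mem_centralizer_iff]
      intro h hh
      rw [Set.mem_singleton_iff] at hh
      subst hh
      have := congrArg (fun z => (e z).2) hxc
      simpa using this
    have hex : e x = (1, (e x).2) := Prod.ext hc1 rfl
    have hord : orderOf (e x).2 = l := by
      have h1 : orderOf (e x) = l := by
        rw [← hxl]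
        exact e.orderOf_eq x
      rw [hex, Prod.orderOf_mk, orderOf_one] at h1
      simpa using h1
    refine ⟨(e x).2, hX₀uniq _ hx0c hord, ?_⟩
    apply e.injective
    rw [heψ]
    exact hex.symm

end Cfsg.Agent.Lib.Helper45.Rs
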