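import Cfsg.Agent.Lib.Helper46.AhDefs
import Cfsg.Agent.Lib.Helper46.AhCYC

/-! # Ah hive (helper46, S2538): leaf AH-THREE `alt_le_of_three` -/

set_option autoImplicit false

namespace Cfsg.Agent.Lib.Helper46.Ah

open Cfsg Equiv
open Cfsg.Agent.Lib.Helper15.Hs (resSub mem_resSub)

section leaves

variable {α : Type*} [Fintype α] [DecidableEq α] {π : Set ℕ} (M : Subgroup (Perm α)) (B : Set α)

theorem three_core (hprim : MulAction.IsPreprimitive M α)
    (hc : ∃ g ∈ M, g.IsCycle ∧ g.support.card = 3) : alternatingGroup α ≤ M := by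
  obtain ⟨g, hg, -, hs⟩ := hc
  exact Equiv.Perm.alternatingGroup_le_of_isPreprimitive_of_isThreeCycle_mem hprim
    (card_support_eq_three_iff.1 hs) hg

theorem alt_le_of_three (hM : AltHall π M) (hprim : MulAction.IsPreprimitive M α) (h3π : 3 ∈ π)
    (h3 : 3 ≤ Fintype.card α) : alternatingGroup α ≤ M :=
  three_core M hprim (exists_cycle_mem_alt M hM 3 Nat.prime_three (by norm_num) h3π h3)

end leaves

end Cfsg.Agent.Lib.Helper46.Ah
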