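import Cfsg.Agent.Lib.Helper46.AhDefs

/-! # Ah hive (helper46, S2538): leaf AH-TOP `oddExt_of_alt_le` -/

set_option autoImplicit false

namespace Cfsg.Agent.Lib.Helper46.Ah

open Cfsg Equiv
open Cfsg.Agent.Lib.Helper15.Hs (resSub mem_resSub)

section leaves

variable {α : Type*} [Fintype α] [DecidableEq α] {π : Set ℕ} (M : Subgroup (Perm α)) (B : Set α)

theorem oddExt_of_alt_le (hM : AltHall π M) (h2 : 2 ∈ π) (hcard : 2 ≤ Fintype.card α)
    (h : alternatingGroup α ≤ M) : OddExt π M := by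
  haveI : Nontrivial α := Fintype.one_lt_card_iff_nontrivial.1 (by omega)
  obtain ⟨a, b, hab⟩ := exists_pair_ne α
  refine ⟨⊤, le_top, ?_, Equiv.swap a b, Subgroup.mem_top _, Equiv.Perm.sign_swap hab⟩
  intro p hp hpd
  by_cases hp2 : p = 2
  · rw [hp2]; exact h2
  · rw [Subgroup.card_top, ← two_mul_nat_card_alternatingGroup] at hpd
    have hpA : p ∣ Nat.card (alternatingGroup α) := by
      rcases (Nat.Prime.dvd_mul hp).1 hpd with h' | h'
      · exact absurd ((Nat.prime_dvd_prime_iff_eq hp Nat.prime_two).1 h') hp2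
      · exact h'
    have htop : M.subgroupOf (alternatingGroup α) = ⊤ := Subgroup.subgroupOf_eq_top.2 h
    apply hM.2.1 p hp
    rw [htop, Subgroup.card_top]
    exact hpA

end leaves

end Cfsg.Agent.Lib.Helper46.Ah
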