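import Mathlib
import Cfsg.Agent.Lib.Helper47.G42Defs

/-! # G42 hive (S2553, helper47): leaf G42-ISO8 `equiv_alt8_of_card` (helper68). -/

set_option autoImplicit false

namespace Cfsg.Agent.Lib.Helper47.G42

open Equiv

/-- `|A₈| = 20160` -/
theorem iso8_card_alt8 : Nat.card (alternatingGroup (Fin 8)) = 20160 := by
  rw [nat_card_alternatingGroup, Nat.card_eq_fintype_card, Fintype.card_fin]
  decide

/-- LEAF G42-ISO8. -/
theorem equiv_alt8_of_card (H : Subgroup (Perm (Fin 8))) (hA : H ≤ alternatingGroup (Fin 8))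
    (hcard : Nat.card H = 20160) : Nonempty (H ≃* alternatingGroup (Fin 8)) := by
  have h : H = alternatingGroup (Fin 8) := by
    apply Subgroup.eq_of_le_of_card_ge hA
    rw [hcard, iso8_card_alt8]
  exact ⟨MulEquiv.subgroupCongr h⟩

end Cfsg.Agent.Lib.Helper47.G42
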