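import Mathlib
import Cfsg.Agent.Lib.Helper37.FusDefs
import Cfsg.Agent.Lib.Helper54.FusCDefs

/-! FUS-C sub-hive (helper54), leaf FUSC-EXN `exists_norm_nonsquare` (helper68). -/

set_option autoImplicit false

namespace Cfsg.Agent.Lib.Helper37.Fus

open Polynomial

variable {F : Type*} [Field F]

variable {L : Type*} [Field L] [Algebra F L]

theorem exn_ringChar_ne_two {K : Type*} [Field K] (h2 : (2 : K) ≠ 0) : ringChar K ≠ 2 := by
  intro h
  apply h2
  have := ringChar.Nat.cast_ringChar (R := K)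
  rw [h] at this
  exact_mod_cast this

/-- FUSC-EXN (medium, Mathlib only). -/
theorem exists_norm_nonsquare [Fintype F] [Fintype L] (h2 : (2 : F) ≠ 0) (σ : L) (hσ : σ ^ 2 - 4 ≠ 0) :
    ∃ n u v : L, ¬ IsSquare (Algebra.norm F n) ∧ n = u ^ 2 + σ * u * v + v ^ 2 := by
  classical
  obtain ⟨r, hr⟩ := FiniteField.exists_nonsquare (exn_ringChar_ne_two h2)
  obtain ⟨n, hn⟩ := FiniteField.norm_surjective F L r
  have h2L : (2 : L) ≠ 0 := by
    have h := (algebraMap F L).injective.ne (a₁ := (2 : F)) (a₂ := 0) h2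
    rwa [map_ofNat, map_zero] at h
  have h4L : (4 : L) ≠ 0 := by
    have : (4 : L) = 2 * 2 := by norm_num
    rw [this]
    exact mul_ne_zero h2L h2L
  have hcard : Fintype.card L % 2 = 1 := FiniteField.odd_card_of_char_ne_two (exn_ringChar_ne_two h2L)
  set κ : L := 1 - σ ^ 2 / 4 with hκ
  have hκ0 : κ ≠ 0 := by
    intro h0
    apply hσ
    have : σ ^ 2 / 4 = 1 := by
      have := sub_eq_zero.mp h0
      exact this.symm
    rw [div_eq_iff h4L] at this
    rw [this]; ring
  have hf2 : degree (X ^ 2 - C n : L[X]) = 2 := degree_X_pow_sub_C (by norm_num) n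
  have hg2 : degree (C κ * X ^ 2 : L[X]) = 2 := by
    rw [degree_C_mul hκ0, degree_X_pow]
    rfl
  obtain ⟨a, b, hab⟩ := FiniteField.exists_root_sum_quadratic hf2 hg2 hcard
  simp only [eval_sub, eval_pow, eval_X, eval_C, eval_mul] at hab
  refine ⟨n, a - σ * b / 2, b, ?_, ?_⟩
  · rw [hn]; exact hr
  · have hn' : n = a ^ 2 + κ * b ^ 2 := by
      have := hab
      linear_combination -this
    rw [hn', hκ]
    field_simp
    ring

end Cfsg.Agent.Lib.Helper37.Fus
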