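import Mathlib
import Cfsg.Agent.Lib.Helper37.FusDefs
import Cfsg.Agent.Lib.Helper54.FusCDefs

/-! FUS-C sub-hive (helper54), leaf FUSC-NSUP `N_sup` (helper68). -/

set_option autoImplicit false

namespace Cfsg.Agent.Lib.Helper37.Fus

open Polynomial

variable {F : Type*} [Field F] {V : Type*} [AddCommGroup V] [Module F V]

section Min

variable {B : LinearMap.BilinForm F V} {a a' : V →ₗ[F] V}

variable {L : Type*} [Field L] [Algebra F L] {ρ : L →ₐ[F] Module.End F V} {σ : L}

theorem nsup_half (c : MinCtx B a a') (p : V) :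
    a p = (2⁻¹ : F) • ((a + a') p + (a - a') p) := by
  have h : (a + a') p + (a - a') p = (2 : F) • a p := by
    rw [LinearMap.add_apply, LinearMap.sub_apply, two_smul]
    abel
  rw [h, smul_smul, inv_mul_cancel₀ c.h2, one_smul]

theorem nsup_eps_sq (c : MinCtx B a a') (p : V) :
    (a - a') ((a - a') p) = (a + a') ((a + a') p) - (4 : F) • p := by
  have e1 : a (a' p) = p := by
    have := LinearMap.congr_fun c.haa' p
    simpa using this
  have e2 : a' (a p) = p := by
    have := LinearMap.congr_fun c.ha'a p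
    simpa using this
  simp only [LinearMap.add_apply, LinearMap.sub_apply, map_add, map_sub, e1, e2]
  have : (4 : F) • p = p + p + p + p := by
    have h4 : (4 : F) = 1 + 1 + 1 + 1 := by norm_num
    rw [h4]
    simp only [add_smul, one_smul]
  rw [this]
  abel

theorem nsup_comm (c : MinCtx B a a') (p : V) :
    (a + a') ((a - a') p) = (a - a') ((a + a') p) := by
  have e1 : a (a' p) = p := by
    have := LinearMap.congr_fun c.haa' p
    simpa using this
  have e2 : a' (a p) = p := by
    have := LinearMap.congr_fun c.ha'a p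
    simpa using this
  simp only [LinearMap.add_apply, LinearMap.sub_apply, map_add, map_sub, e1, e2]
  abel

/-- FUSC-NSUP -/
theorem N_sup (c : MinCtx B a a') (k : FieldCtx a a' ρ σ) (w : V)
    (hcyc : Submodule.span F (Set.range fun i : ℕ => (a ^ i) w) = ⊤) :
    N0 ρ w ⊔ N1 a a' ρ w = ⊤ := by
  have hN0 : ∀ x : L, ρ x w ∈ N0 ρ w := fun x => (mem_N0 ρ w _).2 ⟨x, by rfl⟩
  have hN1 : ∀ x : L, (a - a') (ρ x w) ∈ N1 a a' ρ w := fun x => (mem_N1 a a' ρ w _).2 ⟨x, by rfl⟩
  have hs : ∀ (x : L) (p : V), (a + a') (ρ x p) = ρ (σ * x) p := by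
    intro x p
    rw [map_mul, k.hσ, Module.End.mul_apply]
  -- invariance on N0
  have h0 : ∀ p ∈ N0 ρ w, a p ∈ N0 ρ w ⊔ N1 a a' ρ w := by
    intro p hp
    obtain ⟨x, rfl⟩ := (mem_N0 ρ w p).1 hp
    rw [nsup_half c]
    apply Submodule.smul_mem
    apply Submodule.add_mem
    · apply Submodule.mem_sup_left
      rw [hs]
      exact hN0 _
    · exact Submodule.mem_sup_right (hN1 x)
  have h1 : ∀ p ∈ N1 a a' ρ w, a p ∈ N0 ρ w ⊔ N1 a a' ρ w := by
    intro p hp
    obtain ⟨x, rfl⟩ := (mem_N1 a a' ρ w p).1 hp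
    rw [nsup_half c]
    apply Submodule.smul_mem
    apply Submodule.add_mem
    · apply Submodule.mem_sup_right
      rw [nsup_comm c, hs]
      exact hN1 _
    · apply Submodule.mem_sup_left
      rw [nsup_eps_sq c, hs, hs]
      exact Submodule.sub_mem _ (hN0 _) (Submodule.smul_mem _ _ (hN0 x))
  have hinv : ∀ p ∈ N0 ρ w ⊔ N1 a a' ρ w, a p ∈ N0 ρ w ⊔ N1 a a' ρ w := by
    intro p hp
    obtain ⟨p0, hp0, p1, hp1, rfl⟩ := Submodule.mem_sup.1 hp
    rw [map_add]
    exact Submodule.add_mem _ (h0 p0 hp0) (h1 p1 hp1)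
  have hpow : ∀ i : ℕ, (a ^ i) w ∈ N0 ρ w ⊔ N1 a a' ρ w := by
    intro i
    induction i with
    | zero =>
      apply Submodule.mem_sup_left
      have := hN0 1
      rw [map_one] at this
      simpa using this
    | succ i ih =>
      rw [pow_succ', Module.End.mul_apply]
      exact hinv _ ih
  rw [eq_top_iff, ← hcyc, Submodule.span_le]
  rintro _ ⟨i, rfl⟩
  exact hpow i

end Min

end Cfsg.Agent.Lib.Helper37.Fus
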