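import Cfsg.Agent.Lib.Helper68.FH_A4core
import Cfsg.Agent.Lib.Helper80.FH_A3

/-!
# Feit–Higman (helper6's hive): leaf FH-A4, exact statements (`trace_rec`, `trace_three`,
`trace_determined`; `HeckeRep.symm` and `trace_altP_even_comm` are in `FH_A4core`)
-/

set_option autoImplicit false

namespace Cfsg.Agent.Lib.Helper6.FH

open Matrix

theorem trace_rec {n : ℕ} {u v : ℂ} {a b : Matrix (Fin 2) (Fin 2) ℂ} (h : HeckeRep n u v a b) (l : ℕ) :
    (altP (l + 4) a b).trace = (a * b).trace * (altP (l + 2) a b).trace - u * v * (altP l a b).trace :=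
  a4_trace_rec_of (dim_two_basic h) l

theorem trace_three {n : ℕ} {u v : ℂ} {a b : Matrix (Fin 2) (Fin 2) ℂ} (h : HeckeRep n u v a b) :
    (altP 3 a b).trace = u * (v - 1) + (u - 1) * (a * b).trace :=
  a4_trace_three_of h.quadA (dim_two_basic h)

theorem trace_determined {n : ℕ} {u v : ℂ} {a b a' b' : Matrix (Fin 2) (Fin 2) ℂ} (h : HeckeRep n u v a b)
    (h' : HeckeRep n u v a' b') (hτ : (a * b).trace = (a' * b').trace) (l : ℕ) :
    (altP l a b).trace = (altP l a' b').trace ∧ (altP l b a).trace = (altP l b' a').trace :=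
  a4_trace_determined_of h h' (dim_two_basic h) (dim_two_basic h') hτ l

end Cfsg.Agent.Lib.Helper6.FH
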