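import Cfsg.Agent.Lib.Helper68.FH_A6Tcore
import Cfsg.Agent.Lib.Helper68.FH_A4

/-!
# Feit–Higman (helper6's hive): leaf FH-A6T, exact statement `trace_closed_form`
-/

set_option autoImplicit false

namespace Cfsg.Agent.Lib.Helper6.FH

open Matrix

theorem trace_closed_form {n : ℕ} {u v ρ t : ℂ} {a b : Matrix (Fin 2) (Fin 2) ℂ} (h : HeckeRep n u v a b)
    (hρ : ρ ^ 2 = u * v) (ht : t ≠ 0) (hτ : (a * b).trace = ρ * (t + t⁻¹)) (k : ℕ) :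
    (altP (2 * k) a b).trace = ρ ^ k * (t ^ k + t⁻¹ ^ k) ∧
    (altP (2 * k + 1) a b).trace * (t - t⁻¹) * ρ =
      ρ ^ k * (u * (v - 1) * (t ^ k - t⁻¹ ^ k) + (u - 1) * ρ * (t ^ (k + 1) - t⁻¹ ^ (k + 1))) :=
  (a6t_closed_of h.quadA (dim_two_basic h) hρ (mul_inv_cancel₀ ht) hτ k).1

end Cfsg.Agent.Lib.Helper6.FH
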