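import Mathlib

/-!
# Feit–Higman (helper6's hive): leaf FH-K — the counting argument (Mathlib only)
-/

set_option autoImplicit false

namespace Cfsg.Agent.Lib.Helper6.FH

theorem surj_of_count {Z : Type*} [Fintype Z] [DecidableEq Z] {n : ℕ} (hn : 2 ≤ n) (m : Z → ℕ)
    (hm : ∀ z, m z = 0 ∨ m z = 1 ∨ m z = 2) (hsum : ∑ z, m z ^ 2 = 2 * n)
    (h1 : (Finset.univ.filter (fun z => m z = 1)).card ≤ if Even n then 4 else 2)
    (jf : Z → ℕ) (hj : ∀ z, m z = 2 → 0 < jf z ∧ 2 * jf z < n)
    (hinj : ∀ z z', m z = 2 → m z' = 2 → jf z = jf z' → z = z') :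
    ∀ j, 0 < j → 2 * j < n → ∃ z, m z = 2 ∧ jf z = j := by
  classical
  have hsq : ∀ z, m z ^ 2 = (if m z = 1 then 1 else 0) + 4 * (if m z = 2 then 1 else 0) := by
    intro z
    rcases hm z with h | h | h <;> simp [h]
  have hcount : (Finset.univ.filter (fun z => m z = 1)).card +
      4 * (Finset.univ.filter (fun z => m z = 2)).card = 2 * n := by
    rw [← hsum, Finset.sum_congr rfl (fun z _ => hsq z), Finset.sum_add_distrib, ← Finset.mul_sum,
      Finset.card_filter, Finset.card_filter]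
  have himg : (Finset.univ.filter (fun z => m z = 2)).image jf ⊆ Finset.Ioo 0 ((n + 1) / 2) := by
    intro j hj'
    obtain ⟨z, hz, rfl⟩ := Finset.mem_image.1 hj'
    have h2 := hj z (Finset.mem_filter.1 hz).2
    rw [Finset.mem_Ioo]
    omega
  have hcard_img : ((Finset.univ.filter (fun z => m z = 2)).image jf).card =
      (Finset.univ.filter (fun z => m z = 2)).card := by
    apply Finset.card_image_of_injOn
    intro z hz z' hz' h
    exact hinj z z' (Finset.mem_filter.1 (Finset.mem_coe.1 hz)).2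
      (Finset.mem_filter.1 (Finset.mem_coe.1 hz')).2 h
  have hT : (Finset.Ioo 0 ((n + 1) / 2)).card = (n + 1) / 2 - 1 := by
    rw [Nat.card_Ioo]
    omega
  have hle : (Finset.Ioo 0 ((n + 1) / 2)).card ≤
      ((Finset.univ.filter (fun z => m z = 2)).image jf).card := by
    rw [hcard_img, hT]
    split_ifs at h1 with he
    · obtain ⟨k, rfl⟩ := he
      omega
    · obtain ⟨k, rfl⟩ := Nat.not_even_iff_odd.1 he
      omega
  have heq := Finset.eq_of_subset_of_card_le himg hle
  intro j hj0 hjn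
  have hjT : j ∈ Finset.Ioo 0 ((n + 1) / 2) := by
    rw [Finset.mem_Ioo]
    omega
  rw [← heq, Finset.mem_image] at hjT
  obtain ⟨z, hz, hzj⟩ := hjT
  exact ⟨z, (Finset.mem_filter.1 hz).2, hzj⟩

end Cfsg.Agent.Lib.Helper6.FH
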