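import Cfsg.Agent.Lib.Helper6.FH.ADefs

/-!
# Feit–Higman (helper6's hive): leaf FH-A4 — in dimension 2 all traces are determined by `tr (a b)`

Core file: versions `a4_*_of` taking the conclusion of FH-A3 (`dim_two_basic`) as a hypothesis, plus the
A3-free exact leaves `HeckeRep.symm`, `trace_altP_even_comm`.
-/

set_option autoImplicit false

namespace Cfsg.Agent.Lib.Helper6.FH

open Matrix

/-- `altP (l + 2) x y = x * y * altP l x y` (local copy for this leaf) -/
theorem a4_altP_add_two {M : Type*} [Monoid M] (l : ℕ) (x y : M) :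
    altP (l + 2) x y = x * y * altP l x y := by
  rw [altP_succ, altP_succ, mul_assoc]

/-- Cayley–Hamilton for `2 × 2` matrices -/
theorem a4_cayley (X : Matrix (Fin 2) (Fin 2) ℂ) :
    X * X = X.trace • X - X.det • (1 : Matrix (Fin 2) (Fin 2) ℂ) := by
  ext i j
  fin_cases i <;> fin_cases j <;>
    simp [Matrix.mul_apply, Fin.sum_univ_two, Matrix.trace_fin_two, Matrix.det_fin_two] <;> ring

theorem a4_trace_rec_of {u v : ℂ} {a b : Matrix (Fin 2) (Fin 2) ℂ}
    (hA3 : a.trace = u - 1 ∧ a.det = -u ∧ b.trace = v - 1 ∧ b.det = -v) (l : ℕ) :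
    (altP (l + 4) a b).trace = (a * b).trace * (altP (l + 2) a b).trace - u * v * (altP l a b).trace := by
  obtain ⟨-, hda, -, hdb⟩ := hA3
  have hdet : (a * b).det = u * v := by rw [Matrix.det_mul, hda, hdb]; ring
  have h4 : altP (l + 4) a b = a * b * (a * b) * altP l a b := by
    rw [show l + 4 = (l + 2) + 2 from rfl, a4_altP_add_two, a4_altP_add_two]
    simp only [mul_assoc]
  have h2 : altP (l + 2) a b = a * b * altP l a b := a4_altP_add_two l a b
  rw [h4, a4_cayley (a * b), hdet, h2, Matrix.sub_mul, Matrix.trace_sub, Matrix.smul_mul,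
    Matrix.smul_mul, Matrix.one_mul, Matrix.trace_smul, Matrix.trace_smul]
  simp only [smul_eq_mul]

theorem a4_trace_three_of {u v : ℂ} {a b : Matrix (Fin 2) (Fin 2) ℂ}
    (hq : a * a = u • (1 : Matrix (Fin 2) (Fin 2) ℂ) + (u - 1) • a)
    (hA3 : a.trace = u - 1 ∧ a.det = -u ∧ b.trace = v - 1 ∧ b.det = -v) :
    (altP 3 a b).trace = u * (v - 1) + (u - 1) * (a * b).trace := by
  obtain ⟨-, -, htb, -⟩ := hA3
  have h3 : altP 3 a b = a * (b * a) := by
    show a * (b * (a * 1)) = a * (b * a)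
    rw [mul_one]
  have h4 : (a * (b * a)).trace = (a * a * b).trace := by
    rw [Matrix.trace_mul_comm, Matrix.mul_assoc, Matrix.mul_assoc]
    rw [Matrix.trace_mul_comm b (a * a), Matrix.mul_assoc]
  rw [h3, h4, hq, Matrix.add_mul, Matrix.trace_add, Matrix.smul_mul, Matrix.smul_mul,
    Matrix.trace_smul, Matrix.trace_smul, Matrix.one_mul, htb]
  simp only [smul_eq_mul]

theorem HeckeRep.symm {n m : ℕ} {u v : ℂ} {a b : Matrix (Fin m) (Fin m) ℂ} (h : HeckeRep n u v a b) :
    HeckeRep n v u b a :=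
  ⟨h.quadB, h.quadA, h.braid.symm, fun U hb ha => h.simple U ha hb⟩

theorem a4_mul_pow_comm {m : ℕ} (a b : Matrix (Fin m) (Fin m) ℂ) (k : ℕ) :
    a * (b * a) ^ k = (a * b) ^ k * a := by
  induction k with
  | zero => simp
  | succ k ih =>
    rw [pow_succ, ← Matrix.mul_assoc, ih, pow_succ]
    simp only [Matrix.mul_assoc]

theorem a4_altP_two_mul {M : Type*} [Monoid M] (k : ℕ) (x y : M) : altP (2 * k) x y = (x * y) ^ k := by
  induction k with
  | zero => simp
  | succ k ih =>
    rw [show 2 * (k + 1) = 2 * k + 2 by ring, a4_altP_add_two, ih, pow_succ']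

theorem trace_altP_even_comm {m : ℕ} (a b : Matrix (Fin m) (Fin m) ℂ) (k : ℕ) :
    (altP (2 * k) b a).trace = (altP (2 * k) a b).trace := by
  rw [a4_altP_two_mul, a4_altP_two_mul]
  cases k with
  | zero => simp
  | succ k =>
    rw [pow_succ', Matrix.mul_assoc, a4_mul_pow_comm, Matrix.trace_mul_comm, Matrix.mul_assoc,
      ← pow_succ]

theorem a4_trace_determined_of {n : ℕ} {u v : ℂ} {a b a' b' : Matrix (Fin 2) (Fin 2) ℂ}
    (h : HeckeRep n u v a b) (h' : HeckeRep n u v a' b')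
    (hA3 : a.trace = u - 1 ∧ a.det = -u ∧ b.trace = v - 1 ∧ b.det = -v)
    (hA3' : a'.trace = u - 1 ∧ a'.det = -u ∧ b'.trace = v - 1 ∧ b'.det = -v)
    (hτ : (a * b).trace = (a' * b').trace) (l : ℕ) :
    (altP l a b).trace = (altP l a' b').trace ∧ (altP l b a).trace = (altP l b' a').trace := by
  obtain ⟨hta, hda, htb, hdb⟩ := hA3
  obtain ⟨hta', hda', htb', hdb'⟩ := hA3'
  have hS : b.trace = v - 1 ∧ b.det = -v ∧ a.trace = u - 1 ∧ a.det = -u := ⟨htb, hdb, hta, hda⟩
  have hS' : b'.trace = v - 1 ∧ b'.det = -v ∧ a'.trace = u - 1 ∧ a'.det = -u :=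
    ⟨htb', hdb', hta', hda'⟩
  have hA : a.trace = u - 1 ∧ a.det = -u ∧ b.trace = v - 1 ∧ b.det = -v := ⟨hta, hda, htb, hdb⟩
  have hA' : a'.trace = u - 1 ∧ a'.det = -u ∧ b'.trace = v - 1 ∧ b'.det = -v :=
    ⟨hta', hda', htb', hdb'⟩
  have hτ' : (b * a).trace = (b' * a').trace := by
    rw [Matrix.trace_mul_comm b a, Matrix.trace_mul_comm b' a', hτ]
  have key : ∀ l : ℕ,
      ((altP l a b).trace = (altP l a' b').trace ∧ (altP l b a).trace = (altP l b' a').trace) ∧
      ((altP (l + 1) a b).trace = (altP (l + 1) a' b').trace ∧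
        (altP (l + 1) b a).trace = (altP (l + 1) b' a').trace) ∧
      ((altP (l + 2) a b).trace = (altP (l + 2) a' b').trace ∧
        (altP (l + 2) b a).trace = (altP (l + 2) b' a').trace) ∧
      ((altP (l + 3) a b).trace = (altP (l + 3) a' b').trace ∧
        (altP (l + 3) b a).trace = (altP (l + 3) b' a').trace) := by
    intro l
    induction l with
    | zero =>
      refine ⟨⟨rfl, rfl⟩, ⟨?_, ?_⟩, ⟨?_, ?_⟩, ⟨?_, ?_⟩⟩
      · show (a * 1).trace = (a' * 1).trace
        rw [mul_one, mul_one, hta, hta']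
      · show (b * 1).trace = (b' * 1).trace
        rw [mul_one, mul_one, htb, htb']
      · show (a * (b * 1)).trace = (a' * (b' * 1)).trace
        rw [mul_one, mul_one, hτ]
      · show (b * (a * 1)).trace = (b' * (a' * 1)).trace
        rw [mul_one, mul_one, hτ']
      · rw [a4_trace_three_of h.quadA hA, a4_trace_three_of h'.quadA hA', hτ]
      · rw [a4_trace_three_of h.quadB hS, a4_trace_three_of h'.quadB hS', hτ']
    | succ l ih =>
      obtain ⟨h0, h1, h2, h3⟩ := ih
      refine ⟨h1, h2, h3, ?_, ?_⟩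
      · rw [show l + 1 + 3 = l + 4 from rfl, a4_trace_rec_of hA, a4_trace_rec_of hA', hτ, h2.1, h0.1]
      · rw [show l + 1 + 3 = l + 4 from rfl, a4_trace_rec_of hS, a4_trace_rec_of hS', hτ', h2.2, h0.2]
  exact (key l).1

end Cfsg.Agent.Lib.Helper6.FH
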