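import Cfsg.Agent.Lib.Helper6.Ls.Defs
import Cfsg.Agent.Lib.Helper13.UnitaryConfig
import Cfsg.Agent.Lib.Helper13.UnitaryLift
import Cfsg.Prelude.Def_Classical

set_option autoImplicit false

/-! # Ls hive (helper6, S2334/S2335): leaf C-LIFT `exists_lift` -/

namespace Cfsg.Agent.Lib.Helper6.Ls

open Module Cfsg.Agent.Lib.Helper99

section concrete

variable {F : Type*} [Field F] [Fintype F] {q : ℕ}

theorem clift_mem_suGL {n : ℕ} (g : GL (Fin n) F) (hg : g ∈ suGL (F := F) n q) :
    Cfsg.Agent.Lib.Helper13.liftGL F n g ∈ suGL (F := F) (n + 1) q := by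
  have h1 : Cfsg.Agent.Lib.Helper13.liftGL F n g ∈ Cfsg.GU (n + 1) F q := by
    rw [Cfsg.Agent.Lib.Helper5.mem_GU_iff, Cfsg.Agent.Lib.Helper13.liftGL_val]
    exact Cfsg.Agent.Lib.Helper5.uliftMat_isHermIso
      ((Cfsg.Agent.Lib.Helper5.mem_GU_iff g).1 hg.1)
  have h2 : Cfsg.Agent.Lib.Helper13.liftGL F n g ∈ Cfsg.Geo.specialLinear (Fin (n + 1)) F := by
    rw [Cfsg.Agent.Lib.Helper99.mem_specialLinear_iff, Cfsg.Agent.Lib.Helper13.liftGL_val,
      Cfsg.Agent.Lib.Helper13.det_uliftMat]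
    exact (Cfsg.Agent.Lib.Helper99.mem_specialLinear_iff g).1 hg.2
  exact ⟨h1, h2⟩

/-- the double lift `SU_m → SU_{m+2}`. -/
noncomputable def cliftHom (F : Type*) [Field F] [Fintype F] (q m : ℕ) :
    SUg F m q →* SUg F (m + 2) q where
  toFun g := ⟨Cfsg.Agent.Lib.Helper13.liftGL F (m + 1) (Cfsg.Agent.Lib.Helper13.liftGL F m g.1),
    clift_mem_suGL _ (clift_mem_suGL _ g.2)⟩
  map_one' := by
    apply Subtype.ext
    simp
  map_mul' a b := by
    apply Subtype.ext
    simp

theorem clift_coe (m : ℕ) (g : SUg F m q) :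
    ((cliftHom F q m g : SUg F (m + 2) q) : GL (Fin (m + 2)) F) =
      Cfsg.Agent.Lib.Helper13.liftGL F (m + 1) (Cfsg.Agent.Lib.Helper13.liftGL F m g.1) := rfl

theorem clift_mulVec (m : ℕ) (g : SUg F m q) (x : Fin (m + 2) → F) :
    Matrix.mulVec (((cliftHom F q m g : SUg F (m + 2) q) : GL (Fin (m + 2)) F) :
        Matrix (Fin (m + 2)) (Fin (m + 2)) F) x =
      Fin.cons (x 0) (Fin.cons (x 1)
        (Matrix.mulVec ((g.1 : GL (Fin m) F) : Matrix (Fin m) (Fin m) F) (Fin.tail (Fin.tail x)))) := by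
  rw [clift_coe, Cfsg.Agent.Lib.Helper13.liftGL_val, Cfsg.Agent.Lib.Helper5.uliftMat_mulVec,
    Cfsg.Agent.Lib.Helper13.liftGL_val, Cfsg.Agent.Lib.Helper5.uliftMat_mulVec]
  rfl

/-- C-LIFT -/
theorem exists_lift (hF : Fintype.card F = q ^ 2) (m : ℕ) (e : Fin (m + 2) → F)
    (hsupp : ∀ k : Fin (m + 2), k ≠ 0 → k ≠ 1 → e k = 0)
    (hee : Cfsg.hermForm (m + 2) F q e e = 0) :
    ∃ φ : SUg F m q →* SUg F (m + 2) q,
      (∀ g, ∀ z ∈ (Zgrp e : Subgroup (SUg F (m + 2) q)), φ g * z = z * φ g) ∧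
      ∀ u0 : Fin m → F, Cfsg.hermForm m F q u0 u0 = 0 →
        (Zgrp u0 : Subgroup (SUg F m q)).map φ = Zgrp (pad2 u0) := by
  have hq0 : q ≠ 0 := by
    rintro rfl
    simp at hF
  refine ⟨cliftHom F q m, ?_, ?_⟩
  · intro g z hz
    -- `φ g` fixes `e`
    have hfix : Matrix.mulVec (((cliftHom F q m g : SUg F (m + 2) q) : GL (Fin (m + 2)) F) :
        Matrix (Fin (m + 2)) (Fin (m + 2)) F) e = e := by
      rw [clift_mulVec]
      have h0 : Fin.tail (Fin.tail e) = 0 := by
        funext k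
        simp only [Fin.tail, Pi.zero_apply]
        apply hsupp
        · exact Fin.succ_ne_zero _
        · intro h
          have := congrArg Fin.val h
          simp at this
      rw [h0, Matrix.mulVec_zero]
      funext i
      refine Fin.cases ?_ (fun j => ?_) i
      · simp
      · refine Fin.cases ?_ (fun k => ?_) j
        · simp
        · simp only [Fin.cons_succ, Pi.zero_apply]
          symm
          apply hsupp
          · exact Fin.succ_ne_zero _
          · intro h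
            have := congrArg Fin.val h
            simp at this
    have hcen : (Zgrp e : Subgroup (SUg F (m + 2) q)) ≤
        Subgroup.centralizer {cliftHom F q m g} := by
      unfold Zgrp
      rw [Subgroup.closure_le]
      rintro z ⟨c, hc, hzc⟩
      rw [SetLike.mem_coe, Subgroup.mem_centralizer_iff]
      intro h hh
      rw [Set.mem_singleton_iff] at hh
      subst hh
      apply Subtype.ext
      rw [Subgroup.coe_mul, Subgroup.coe_mul, hzc]
      have hconj := conj_utv ((cliftHom F q m g : SUg F (m + 2) q) : GL (Fin (m + 2)) F)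
        (cliftHom F q m g).2.1 e hee c
      rw [hfix] at hconj
      calc ((cliftHom F q m g : SUg F (m + 2) q) : GL (Fin (m + 2)) F) * utv q e c
          = (((cliftHom F q m g : SUg F (m + 2) q) : GL (Fin (m + 2)) F) * utv q e c *
              ((cliftHom F q m g : SUg F (m + 2) q) : GL (Fin (m + 2)) F)⁻¹) *
              ((cliftHom F q m g : SUg F (m + 2) q) : GL (Fin (m + 2)) F) := by group
        _ = _ := by rw [hconj]
    have := hcen hz
    rw [Subgroup.mem_centralizer_iff] at this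
    exact this _ rfl
  · intro u0 hu0
    have hcons : Cfsg.hermForm (m + 1) F q (Fin.cons 0 u0 : Fin (m + 1) → F) (Fin.cons 0 u0) = 0 := by
      rw [Cfsg.Agent.Lib.Helper5.herm_succ, Fin.cons_zero, zero_mul, zero_add, Fin.tail_cons, hu0]
    have hlift : ∀ c : F, Cfsg.Agent.Lib.Helper13.liftGL F (m + 1)
        (Cfsg.Agent.Lib.Helper13.liftGL F m (utv q u0 c)) = utv q (pad2 u0) c := by
      intro c
      rw [Cfsg.Agent.Lib.Helper13.liftGL_utv hq0 u0 hu0, Cfsg.Agent.Lib.Helper13.liftGL_utv hq0 _ hcons]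
      rfl
    unfold Zgrp
    rw [MonoidHom.map_closure]
    congr 1
    ext h
    constructor
    · rintro ⟨g, ⟨c, hc, hgc⟩, rfl⟩
      refine ⟨c, hc, ?_⟩
      rw [clift_coe, hgc, hlift]
    · rintro ⟨c, hc, hhc⟩
      refine ⟨⟨utv q u0 c, utv_mem_suGL hF u0 hu0 c hc⟩, ⟨c, hc, rfl⟩, ?_⟩
      apply Subtype.ext
      rw [clift_coe, hhc]
      exact hlift c

end concrete

end Cfsg.Agent.Lib.Helper6.Ls
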