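import Mathlib
import Cfsg.Agent.Lib.Helper94.Iso8bDefs
import Cfsg.Agent.Lib.Helper8.OrthFormsMinus

/-! Iso8b hive (helper94, S3590), leaf ISO8B-D2 `refl_trans` (helper68): orthogonal transvections are
transitive on hyperbolic pairs (characteristic 2). -/

set_option autoImplicit false

namespace Cfsg.Agent.Lib.Helper94.Iso8

open Module QuadraticMap Cfsg.Agent.Lib.Helper43

universe u v w

section abs
variable {F : Type v} [Field F]

theorem d2_polar_self {V : Type u} [AddCommGroup V] [Module F V] (h2 : (2 : F) = 0)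
    (Q : QuadraticForm F V) (x : V) : polar Q x x = 0 := by
  rw [polar_self, two_smul, ← two_mul, h2, zero_mul]

theorem d2_add_self {V : Type u} [AddCommGroup V] [Module F V] (h2 : (2 : F) = 0) (y : V) :
    y + y = 0 := by
  rw [← two_smul F y, h2, zero_smul]

theorem d2_add_selfF (h2 : (2 : F) = 0) (c : F) : c + c = 0 := by
  rw [← two_mul, h2, zero_mul]

/-- the swapping transvection `t_{x+y}` -/
theorem d2_swap {V : Type u} [AddCommGroup V] [Module F V] (h2 : (2 : F) = 0)
    (Q : QuadraticForm F V) (x y : V) (hQ : Q x = Q y) (hB : polar Q x y ≠ 0) :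
    ∃ r ∈ Subgroup.closure (reflSet h2 Q), r.1 y = x ∧
      ∀ z, polar Q x z = polar Q y z → r.1 z = z := by
  have hv : Q (x + y) = polar Q x y := by
    rw [qmap_add, hQ, d2_add_selfF h2, zero_add]
  have hv0 : Q (x + y) ≠ 0 := by rw [hv]; exact hB
  refine ⟨otv h2 Q (x + y) hv0, Subgroup.subset_closure ⟨x + y, hv0, rfl⟩, ?_, ?_⟩
  · rw [otv_apply, polar_add_left, d2_polar_self h2, add_zero, hv, inv_mul_cancel₀ hB, one_smul,
      add_comm x y, ← add_assoc, d2_add_self h2, zero_add]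
  · intro z hz
    rw [otv_apply, polar_add_left, hz, d2_add_selfF h2, mul_zero, zero_smul, add_zero]

theorem d2_mul_apply {V : Type u} [AddCommGroup V] [Module F V] (Q : QuadraticForm F V)
    (r s : OG Q) (x : V) : (r * s).1 x = r.1 (s.1 x) := by
  rfl

/-- ISO8B-D2 -/
theorem refl_trans {V : Type u} [AddCommGroup V] [Module F V] (h2 : (2 : F) = 0)
    (Q : QuadraticForm F V) (hnd : (polarBilin Q).Nondegenerate) (e f e' f' : V)
    (h : IsHypPair Q e f) (h' : IsHypPair Q e' f')
    (hP : ∀ w ∈ perp2 Q e f, w ≠ 0 → Q w = 0 → ∃ z ∈ perp2 Q e f, polar Q w z = 0 ∧ Q z ≠ 0) :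
    ∃ r ∈ Subgroup.closure (reflSet h2 Q), r.1 e' = e ∧ r.1 f' = f := by
  -- Step A
  have hA : ∃ r ∈ Subgroup.closure (reflSet h2 Q), r.1 e' = e := by
    by_cases hee' : polar Q e e' ≠ 0
    · obtain ⟨r, hr, hre, -⟩ := d2_swap h2 Q e e' (by rw [h.qe, h'.qe]) hee'
      exact ⟨r, hr, hre⟩
    · rw [not_not] at hee'
      by_cases hα : polar Q f e' ≠ 0
      · obtain ⟨s₁, hs₁, hs₁e, -⟩ := d2_swap h2 Q f e' (by rw [h.qf, h'.qe]) hα
        obtain ⟨s₂, hs₂, hs₂e, -⟩ := d2_swap h2 Q e f (by rw [h.qe, h.qf])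
          (by rw [h.ef]; exact one_ne_zero)
        refine ⟨s₂ * s₁, Subgroup.mul_mem _ hs₂ hs₁, ?_⟩
        rw [d2_mul_apply, hs₁e, hs₂e]
      · rw [not_not] at hα
        have he'P : e' ∈ perp2 Q e f := (mem_perp2 Q e f e').2 ⟨hee', hα⟩
        have he'0 : e' ≠ 0 := by
          rintro rfl
          have := h'.ef
          rw [polar_zero_left] at this
          exact zero_ne_one this
        have hex : ∃ w'' ∈ perp2 Q e f, polar Q e' w'' ≠ 0 := by
          by_contra hcon
          push Not at hcon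
          exact he'0 (perp2_separating Q hnd e f h.qe h.qf h.ef e' he'P hcon)
        obtain ⟨w'', hw''P, hw''⟩ := hex
        set e'' : V := Q w'' • e + (1 : F) • f + ((⟨w'', hw''P⟩ : perp2 Q e f) : V) with he''
        have hQe'' : Q e'' = 0 := by
          rw [he'', h.q_comb, mul_one]
          exact d2_add_selfF h2 _
        have hee'' : polar Q e e'' = 1 := by rw [he'', h.polar_e_comb]
        have he'e'' : polar Q e'' e' ≠ 0 := by
          rw [polar_comm, he'']
          simp only [polar_add_right, polar_smul_right]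
          rw [polar_comm Q e' e, hee', polar_comm Q e' f, hα]
          simpa using hw''
        obtain ⟨s₁, hs₁, hs₁e, -⟩ := d2_swap h2 Q e'' e' (by rw [hQe'', h'.qe]) he'e''
        obtain ⟨s₂, hs₂, hs₂e, -⟩ := d2_swap h2 Q e e'' (by rw [h.qe, hQe''])
          (by rw [hee'']; exact one_ne_zero)
        refine ⟨s₂ * s₁, Subgroup.mul_mem _ hs₂ hs₁, ?_⟩
        rw [d2_mul_apply, hs₁e, hs₂e]
  obtain ⟨r₁, hr₁, hr₁e⟩ := hA
  -- Step B
  set f₁ : V := r₁.1 f' with hf₁
  have hQf₁ : Q f₁ = 0 := by rw [hf₁, r₁.2 f', h'.qf]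
  have hef₁ : polar Q e f₁ = 1 := by
    rw [hf₁, ← hr₁e, OG_polar, h'.ef]
  have hf₁e : polar Q f₁ e = 1 := by rw [polar_comm]; exact hef₁
  have hB : ∃ r ∈ Subgroup.closure (reflSet h2 Q), r.1 f₁ = f ∧ r.1 e = e := by
    set a : F := polar Q f f₁ with ha
    set wp : perp2 Q e f := h.proj f₁ with hwp
    have hdec : f₁ = a • e + (1 : F) • f + (wp : V) := by
      have := h.decomp f₁
      rw [hef₁] at this
      exact this
    have hq : a + Q (wp : V) = 0 := by
      have := h.q_eq f₁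
      rw [hQf₁, hef₁, mul_one] at this
      exact this.symm
    by_cases ha0 : a ≠ 0
    · obtain ⟨s, hs, hsf, hse⟩ := d2_swap h2 Q f f₁ (by rw [h.qf, hQf₁]) ha0
      exact ⟨s, hs, hsf, hse e (by rw [h.fe, hf₁e])⟩
    · rw [not_not] at ha0
      have hQw : Q (wp : V) = 0 := by rw [ha0, zero_add] at hq; exact hq
      by_cases hw0 : (wp : V) = 0
      · refine ⟨1, Subgroup.one_mem _, ?_, by rfl⟩
        show f₁ = f
        rw [hdec, ha0, hw0]
        simp
      · obtain ⟨z, hzP, hwz, hQz⟩ := hP (wp : V) wp.2 hw0 hQw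
        set f'' : V := Q z • e + (1 : F) • f + ((⟨z, hzP⟩ : perp2 Q e f) : V) with hf''
        have hQf'' : Q f'' = 0 := by
          rw [hf'', h.q_comb, mul_one]
          exact d2_add_selfF h2 _
        have hef'' : polar Q e f'' = 1 := by rw [hf'', h.polar_e_comb]
        have hff'' : polar Q f f'' = Q z := by rw [hf'', h.polar_f_comb]
        have hwe : polar Q (wp : V) e = 0 := by rw [polar_comm]; exact h.polar_e_mem wp
        have hwf : polar Q (wp : V) f = 0 := by rw [polar_comm]; exact h.polar_f_mem wp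
        have hf₁f'' : polar Q f₁ f'' = Q z := by
          conv_lhs => rw [hdec, ha0]
          rw [polar_add_left, polar_add_left, polar_smul_left, polar_smul_left, hef'', hff'',
            hf'']
          simp only [polar_add_right, polar_smul_right, hwe, hwf]
          rw [show polar Q (wp : V) ((⟨z, hzP⟩ : perp2 Q e f) : V) = 0 from hwz]
          simp
        obtain ⟨s₁, hs₁, hs₁f, hs₁e⟩ := d2_swap h2 Q f'' f₁ (by rw [hQf'', hQf₁])
          (by rw [polar_comm, hf₁f'']; exact hQz)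
        obtain ⟨s₂, hs₂, hs₂f, hs₂e⟩ := d2_swap h2 Q f f'' (by rw [h.qf, hQf''])
          (by rw [hff'']; exact hQz)
        refine ⟨s₂ * s₁, Subgroup.mul_mem _ hs₂ hs₁, ?_, ?_⟩
        · rw [d2_mul_apply, hs₁f, hs₂f]
        · rw [d2_mul_apply, hs₁e e (by rw [polar_comm Q f'' e, hef'', hf₁e]),
            hs₂e e (by rw [h.fe, polar_comm Q f'' e, hef''])]
  obtain ⟨r₂, hr₂, hr₂f, hr₂e⟩ := hB
  refine ⟨r₂ * r₁, Subgroup.mul_mem _ hr₂ hr₁, ?_, ?_⟩
  · rw [d2_mul_apply, hr₁e, hr₂e]
  · rw [d2_mul_apply]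
    exact hr₂f

end abs

end Cfsg.Agent.Lib.Helper94.Iso8
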