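import Mathlib

set_option autoImplicit false

namespace Cfsg.Agent.Lib.Helper68

open scoped BigOperators

/-- Product over a finite set with a free action: decompose into orbit products. -/
theorem prod_free_action {T Y M : Type*} [Group T] [Fintype T] [Fintype Y] [MulAction T Y]
    [CommMonoid M] [Fintype (Quotient (MulAction.orbitRel T Y))]
    (hfree : ∀ (t : T) (y : Y), t • y = y → t = 1) (f : Y → M) :
    ∏ y, f y = ∏ q : Quotient (MulAction.orbitRel T Y), ∏ t : T, f (t • q.out) := by
  classical
  rw [← Fintype.prod_prod_type']
  symm
  apply Fintype.prod_bijective (fun x : Quotient (MulAction.orbitRel T Y) × T => x.2 • x.1.out)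
  · constructor
    · rintro ⟨q, t⟩ ⟨q', t'⟩ h
      simp only at h
      have key : ∀ (q : Quotient (MulAction.orbitRel T Y)) (t : T),
          (Quotient.mk'' (t • q.out) : Quotient (MulAction.orbitRel T Y)) = q := by
        intro q t
        conv_rhs => rw [← Quotient.out_eq' q]
        apply Quotient.sound'
        show (MulAction.orbitRel T Y) _ _
        rw [MulAction.orbitRel_apply]
        exact MulAction.mem_orbit _ _
      have hq : q = q' := by
        rw [← key q t, h, key q' t']
      subst hq
      have h1 : t'⁻¹ * t = 1 := hfree _ q.out (by rw [mul_smul, h, inv_smul_smul])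
      have h2 : t = t' := by
        have := congrArg (fun z => t' * z) h1
        simpa using this
      rw [h2]
    · intro y
      have hy : (MulAction.orbitRel T Y) (Quotient.mk'' y : Quotient (MulAction.orbitRel T Y)).out y :=
        Quotient.mk_out' y
      rw [MulAction.orbitRel_apply] at hy
      obtain ⟨t, ht⟩ := hy
      have ht2 : t • y = (Quotient.mk'' y : Quotient (MulAction.orbitRel T Y)).out := ht
      refine ⟨(Quotient.mk'' y, t⁻¹), ?_⟩
      show t⁻¹ • (Quotient.mk'' y : Quotient (MulAction.orbitRel T Y)).out = y
      rw [← ht2, inv_smul_smul]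
  · intro x
    rfl

end Cfsg.Agent.Lib.Helper68
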