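import Mathlib
import Cfsg.Agent.Lib.Helper68.FreeOrbit

set_option autoImplicit false

namespace Cfsg.Agent.Lib.Helper68

open scoped BigOperators

section Avg

variable {V : Type*} [CommGroup V] {B : Type*} [Group B] (K : Subgroup B) [Fintype K]
  (ρ : B →* MulAut V)

/-- The norm (averaging) operator of a finite subgroup acting on an abelian group. -/
noncomputable def avgHom : V →* V := ∏ k : K, (ρ (k : B)).toMonoidHom

theorem avgHom_apply (v : V) : avgHom K ρ v = ∏ k : K, ρ (k : B) v := by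
  simp [avgHom]

theorem rho_mul_apply (a b : B) (v : V) : ρ (a * b) v = ρ a (ρ b v) := by
  rw [map_mul]; rfl

theorem rho_one_apply (v : V) : ρ 1 v = v := by
  rw [map_one]; rfl

theorem rho_inv_apply_of_fixed {a : B} {v : V} (h : ρ a v = v) : ρ a⁻¹ v = v := by
  have h1 : ρ a⁻¹ (ρ a v) = v := by
    rw [← rho_mul_apply, inv_mul_cancel, rho_one_apply]
  rw [h] at h1
  exact h1

theorem rho_avg {k' : B} (hk' : k' ∈ K) (v : V) : ρ k' (avgHom K ρ v) = avgHom K ρ v := by
  rw [avgHom_apply, map_prod]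
  simp_rw [← rho_mul_apply]
  exact Fintype.prod_equiv (Equiv.mulLeft (⟨k', hk'⟩ : K)) _ _ (fun k => rfl)

theorem avg_rho {k' : B} (hk' : k' ∈ K) (v : V) : avgHom K ρ (ρ k' v) = avgHom K ρ v := by
  rw [avgHom_apply, avgHom_apply]
  simp_rw [← rho_mul_apply]
  exact Fintype.prod_equiv (Equiv.mulRight (⟨k', hk'⟩ : K)) _ _ (fun k => rfl)

theorem avg_avg (v : V) : avgHom K ρ (avgHom K ρ v) = (avgHom K ρ v) ^ Fintype.card K := by
  conv_lhs => rw [avgHom_apply]
  rw [Finset.prod_congr rfl (fun k _ => rho_avg K ρ k.2 v), Finset.prod_const, Finset.card_univ]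

theorem rho_avg_comm [hK : K.Normal] (b : B) (v : V) :
    ρ b (avgHom K ρ v) = avgHom K ρ (ρ b v) := by
  rw [avgHom_apply, avgHom_apply, map_prod]
  have h : ∀ k : K, ρ b (ρ (k : B) v) =
      ρ ((MulAut.conjNormal b k : K) : B) (ρ b v) := by
    intro k
    rw [← rho_mul_apply, ← rho_mul_apply, MulAut.conjNormal_apply]
    congr 2
    group
  simp_rw [h]
  exact Fintype.prod_equiv (MulAut.conjNormal b : K ≃* K).toEquiv _ _ (fun k => rfl)

/-- `δ = m - π` written multiplicatively. -/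
noncomputable def delHom : V →* V := powMonoidHom (Fintype.card K) / avgHom K ρ

theorem delHom_apply (v : V) : delHom K ρ v = v ^ Fintype.card K / avgHom K ρ v := by
  simp [delHom, MonoidHom.div_apply]

theorem avg_del (v : V) : avgHom K ρ (delHom K ρ v) = 1 := by
  rw [delHom_apply, map_div, map_pow, avg_avg, div_self']

theorem del_del (v : V) : delHom K ρ (delHom K ρ v) = (delHom K ρ v) ^ Fintype.card K := by
  conv_lhs => rw [delHom_apply]
  rw [avg_del, div_one]

theorem rho_del_comm [hK : K.Normal] (b : B) (v : V) :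
    ρ b (delHom K ρ v) = delHom K ρ (ρ b v) := by
  rw [delHom_apply, delHom_apply, map_div, map_pow, rho_avg_comm]

end Avg

section Frob

variable {V : Type*} [CommGroup V] {B : Type*} [Group B] (K : Subgroup B) [Fintype K]
  (ρ : B →* MulAut V) {T' : Type*} [Group T'] [Fintype T'] (c : T' →* B)

/-- The trace operator of the acting `p`-group. -/
noncomputable def tauHom : V →* V := ∏ t : T', (ρ (c t)).toMonoidHom

theorem tauHom_apply (v : V) : tauHom ρ c v = ∏ t : T', ρ (c t) v := by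
  simp [tauHom]

theorem tau_del_comm [hK : K.Normal] (v : V) :
    tauHom ρ c (delHom K ρ v) = delHom K ρ (tauHom ρ c v) := by
  rw [tauHom_apply, tauHom_apply, map_prod]
  exact Finset.prod_congr rfl (fun t _ => rho_del_comm K ρ (c t) v)

theorem frob_fixed [hK : K.Normal]
    (hfree : ∀ q : T', q ≠ 1 → ∀ k ∈ K, c q * k = k * c q → k = 1) :
    ∃ w : V →* V, (∀ v, w (delHom K ρ v) = delHom K ρ (w v)) ∧
      ∀ u : V, avgHom K ρ u = 1 → (∀ t : T', ρ (c t) u = u) → u * tauHom ρ c (w u) = 1 := by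
  classical
  let Y := {k : K // k ≠ 1}
  letI : MulAction T' Y :=
    { smul := fun t y => ⟨⟨c t * (y.1 : B) * (c t)⁻¹, hK.conj_mem _ y.1.2 _⟩, by
        intro h
        apply y.2
        have h1 : c t * (y.1 : B) * (c t)⁻¹ = 1 := congrArg Subtype.val h
        apply Subtype.ext
        show (y.1 : B) = 1
        have h2 : (y.1 : B) = (c t)⁻¹ * (c t * (y.1 : B) * (c t)⁻¹) * c t := by group
        rw [h2, h1]; group⟩
      one_smul := by
        intro y
        apply Subtype.ext; apply Subtype.ext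
        show c 1 * (y.1 : B) * (c 1)⁻¹ = y.1
        simp
      mul_smul := by
        intro s t y
        apply Subtype.ext; apply Subtype.ext
        show c (s * t) * (y.1 : B) * (c (s * t))⁻¹ =
          c s * (c t * (y.1 : B) * (c t)⁻¹) * (c s)⁻¹
        rw [map_mul]; group }
  have hsmul : ∀ (t : T') (y : Y), (((t • y : Y).1 : K) : B) = c t * (y.1 : B) * (c t)⁻¹ :=
    fun _ _ => rfl
  have hfree' : ∀ (t : T') (y : Y), t • y = y → t = 1 := by
    intro t y h
    by_contra ht
    apply y.2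
    apply Subtype.ext
    apply hfree t ht _ y.1.2
    have h1 : c t * (y.1 : B) * (c t)⁻¹ = y.1 := by rw [← hsmul, h]
    calc c t * (y.1 : B) = (c t * (y.1 : B) * (c t)⁻¹) * c t := by group
      _ = y.1 * c t := by rw [h1]
  haveI : Fintype (Quotient (MulAction.orbitRel T' Y)) := Fintype.ofFinite _
  refine ⟨∏ q : Quotient (MulAction.orbitRel T' Y), (ρ ((q.out.1 : K) : B)).toMonoidHom, ?_, ?_⟩
  · intro v
    rw [MonoidHom.finsetProd_apply, MonoidHom.finsetProd_apply, map_prod]
    exact Finset.prod_congr rfl (fun q _ => rho_del_comm K ρ _ v)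
  · intro u hu hfix
    rw [avgHom_apply, Fintype.prod_eq_mul_prod_subtype_ne (fun k : K => ρ (k : B) u) 1] at hu
    have h1 : ρ ((1 : K) : B) u = u := by simp [rho_one_apply]
    rw [h1, prod_free_action hfree' (fun y : Y => ρ ((y.1 : K) : B) u)] at hu
    rw [← hu]
    congr 1
    rw [MonoidHom.finsetProd_apply, map_prod]
    refine Finset.prod_congr rfl (fun q _ => ?_)
    rw [tauHom_apply]
    refine Finset.prod_congr rfl (fun t _ => ?_)
    show ρ (c t) (ρ ((q.out.1 : K) : B) u) = ρ (((t • q.out : Y).1 : K) : B) u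
    rw [hsmul, rho_mul_apply, rho_mul_apply, rho_inv_apply_of_fixed ρ (hfix t)]

end Frob

section Main

/-- The module-theoretic core: a Frobenius-like group `K ⋊ T'` acting on an abelian `p`-group `V`
receiving a transfer-like homomorphism from a `p`-group `G` forces `K` to act trivially. -/
theorem frobenius_module_trivial {p : ℕ} [hp : Fact p.Prime]
    {G : Type*} [Group G] [Finite G] (hG : IsPGroup p G) (H Q₀ : Subgroup G)
    (hQΦ : Q₀ ≤ frattini G)
    {V : Type*} [CommGroup V] [Finite V] (hV : IsPGroup p V)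
    {B : Type*} [Group B] (K : Subgroup B) [Finite K] [hK : K.Normal]
    (hm : (Nat.card K).Coprime p) (ρ : B →* MulAut V)
    {T' : Type*} [Group T'] [Finite T'] (hT' : IsPGroup p T') (c : T' →* B)
    (hfree : ∀ q : T', q ≠ 1 → ∀ k ∈ K, c q * k = k * c q → k = 1)
    (ab : H →* V) (hab : Function.Surjective ab) (Θ₀ : G →* V)
    (hT2 : ∀ h : H, Θ₀ (h : G) = ∏ᶠ q : T', ρ (c q) (ab h))
    (hT3 : ∀ (q : T') (x : G), ρ (c q) (Θ₀ x) = Θ₀ x)
    (hc : ∀ k ∈ K, ∀ h : H, ∃ q : H, (q : G) ∈ Q₀ ∧ ab q = ab h / ρ k (ab h)) :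
    ∀ k ∈ K, ∀ v : V, ρ k v = v := by
  classical
  haveI : Fintype K := Fintype.ofFinite K
  haveI : Fintype T' := Fintype.ofFinite T'
  set m := Fintype.card K with hmdef
  have hmcop : p.Coprime m := by
    rw [hmdef, ← Nat.card_eq_fintype_card]
    exact hm.symm
  have hT2' : ∀ h : H, Θ₀ (h : G) = tauHom ρ c (ab h) := by
    intro h
    rw [hT2 h, tauHom_apply, finprod_eq_prod_of_fintype]
  obtain ⟨w, hw1, hw2⟩ := frob_fixed K ρ c hfree
  have hHp : IsPGroup p H := hG.to_subgroup H
  -- (M2)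
  have M2 : ∀ r : H, ∃ q : H, (q : G) ∈ Q₀ ∧ delHom K ρ (ab r) = ab q := by
    intro r
    have hmem : delHom K ρ (ab r) ∈ (Q₀.subgroupOf H).map ab := by
      have e : delHom K ρ (ab r) = ∏ k : K, (ab r / ρ (k : B) (ab r)) := by
        rw [delHom_apply, avgHom_apply, Finset.prod_div_distrib, Finset.prod_const,
          Finset.card_univ]
      rw [e]
      refine Subgroup.prod_mem _ (fun k _ => ?_)
      obtain ⟨q, hq, hqe⟩ := hc k k.2 r
      exact ⟨q, Subgroup.mem_subgroupOf.mpr hq, hqe⟩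
    obtain ⟨q, hq, hqe⟩ := hmem
    exact ⟨q, Subgroup.mem_subgroupOf.mp hq, hqe.symm⟩
  -- (M3)
  have M3 : ∀ r : H, ∃ q : H, (q : G) ∈ Q₀ ∧
      (delHom K ρ (Θ₀ (r : G))) ^ m = delHom K ρ (Θ₀ (q : G)) := by
    intro r
    obtain ⟨q, hq, hqe⟩ := M2 r
    refine ⟨q, hq, ?_⟩
    rw [← del_del, hT2' r, ← tau_del_comm, hqe, ← hT2' q]
  -- (M1)
  have M1 : ∀ x : G, ∃ r : H, delHom K ρ (Θ₀ x) = delHom K ρ (Θ₀ (r : G)) := by
    intro x
    have hu1 : avgHom K ρ (delHom K ρ (Θ₀ x)) = 1 := avg_del K ρ _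
    have hu2 : ∀ t : T', ρ (c t) (delHom K ρ (Θ₀ x)) = delHom K ρ (Θ₀ x) := by
      intro t
      rw [rho_del_comm, hT3]
    have h3 := hw2 _ hu1 hu2
    obtain ⟨r₀, hr₀⟩ := hab (w (Θ₀ x))
    rw [hw1, ← hr₀, tau_del_comm, ← hT2' r₀] at h3
    refine ⟨r₀⁻¹, ?_⟩
    rw [Subgroup.coe_inv, map_inv, map_inv]
    exact eq_inv_of_mul_eq_one_left h3
  -- (M4)
  let Θ' : G →* V := (delHom K ρ).comp Θ₀
  have hker : Θ'.ker = ⊤ := by
    apply frattini_nongenerating
    rw [eq_top_iff]
    intro x _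
    obtain ⟨r, hr⟩ := M1 x
    obtain ⟨r', hr'⟩ := (hHp.powEquiv hmcop).surjective r
    rw [IsPGroup.powEquiv_apply] at hr'
    obtain ⟨q, hq, hqe⟩ := M3 r'
    have h1 : Θ' x = Θ' (q : G) := by
      show delHom K ρ (Θ₀ x) = delHom K ρ (Θ₀ (q : G))
      rw [hr, ← hqe, ← hr', Subgroup.coe_pow, map_pow, map_pow]
    have h2 : x * (q : G)⁻¹ ∈ Θ'.ker := by
      rw [MonoidHom.mem_ker, map_mul, map_inv, h1, mul_inv_cancel]
    have h3 : x = (x * (q : G)⁻¹) * (q : G) := by group
    rw [h3]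
    exact Subgroup.mul_mem _ (Subgroup.mem_sup_left h2) (Subgroup.mem_sup_right (hQΦ hq))
  have hΘ' : ∀ x : G, delHom K ρ (Θ₀ x) = 1 := by
    intro x
    have : x ∈ Θ'.ker := by rw [hker]; trivial
    exact this
  -- (M5)
  have M5 : ∀ v : V, tauHom ρ c (delHom K ρ v) = 1 := by
    intro v
    obtain ⟨r, rfl⟩ := hab v
    rw [tau_del_comm, ← hT2' r, hΘ']
  -- (M6)
  have M6 : ∀ v : V, delHom K ρ v = 1 := by
    let U : Subgroup V := (delHom K ρ).range
    letI : MulAction T' U :=
      { smul := fun t u => ⟨ρ (c t) (u : V), by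
          obtain ⟨v, hv⟩ := u.2
          exact ⟨ρ (c t) v, by rw [← rho_del_comm, hv]⟩⟩
        one_smul := by
          intro u
          apply Subtype.ext
          show ρ (c 1) (u : V) = u
          rw [map_one, rho_one_apply]
        mul_smul := by
          intro s t u
          apply Subtype.ext
          show ρ (c (s * t)) (u : V) = ρ (c s) (ρ (c t) (u : V))
          rw [map_mul, rho_mul_apply] }
    have hsm : ∀ (t : T') (u : U), ((t • u : U) : V) = ρ (c t) (u : V) := fun _ _ => rfl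
    have hUbot : U = ⊥ := by
      by_contra hne
      have hUp : IsPGroup p U := hV.to_subgroup U
      have hdvd : p ∣ Nat.card U := by
        rcases hUp.card_eq_or_dvd with h | h
        · exact absurd (Subgroup.card_eq_one.mp h) hne
        · exact h
      have h1 : (1 : U) ∈ MulAction.fixedPoints T' U := by
        intro t
        apply Subtype.ext
        rw [hsm]
        simp
      obtain ⟨b, hb, hb1⟩ := hT'.exists_fixed_point_of_prime_dvd_card_of_fixed_point U hdvd h1
      apply hb1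
      obtain ⟨v, hv⟩ := b.2
      have hbfix : ∀ t : T', ρ (c t) (b : V) = b := by
        intro t
        rw [← hsm, hb t]
      have hbavg : avgHom K ρ (b : V) = 1 := by rw [← hv, avg_del]
      have h3 := hw2 _ hbavg hbfix
      rw [← hv, hw1, M5, mul_one] at h3
      apply Subtype.ext
      rw [← hv, h3]
      rfl
    intro v
    have : delHom K ρ v ∈ U := ⟨v, rfl⟩
    rw [hUbot] at this
    exact this
  -- (M7)
  intro k hk v
  obtain ⟨v', hv'⟩ := (hV.powEquiv hmcop).surjective v
  rw [IsPGroup.powEquiv_apply] at hv'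
  have h1 : v' ^ m = avgHom K ρ v' := by
    have := M6 v'
    rw [delHom_apply, div_eq_one] at this
    exact this
  rw [← hv', h1, rho_avg K ρ hk]

end Main

end Cfsg.Agent.Lib.Helper68
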