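import Mathlib

set_option autoImplicit false

namespace Cfsg.Agent.Lib.Helper68

/-- A group with a Sylow `p`-subgroup `P` that is abelian and TI modulo a normal subgroup `I ≤ P`
has, modulo `I`, a normal `p`-complement on which `P / I` acts freely; moreover `P` is
self-normalizing, so no proper normal subgroup contains `P`. -/
theorem frobenius_quotient {p : ℕ} [hp : Fact p.Prime] {A₀ : Type*} [Group A₀] [Finite A₀]
    (P I : Subgroup A₀) [hI : I.Normal] (hIP : I ≤ P) (hPp : IsPGroup p P)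
    (hidx : ¬ p ∣ P.index)
    (hab : ∀ x ∈ P, ∀ y ∈ P, x * y * x⁻¹ * y⁻¹ ∈ I)
    (hTI : ∀ a : A₀, a ∉ P → ∀ x ∈ P, a * x * a⁻¹ ∈ P → x ∈ I)
    (hne : ∃ x ∈ P, x ∉ I) :
    ∃ K : Subgroup (A₀ ⧸ I), K.Normal ∧ (Nat.card K).Coprime p ∧
      (∀ b : A₀ ⧸ I, ∃ k ∈ K, ∃ x ∈ P, b = k * (QuotientGroup.mk' I x)) ∧
      (∀ x ∈ P, x ∉ I → ∀ k ∈ K, QuotientGroup.mk' I x * k = k * QuotientGroup.mk' I x → k = 1) ∧
      (∀ M : Subgroup A₀, M.Normal → P ≤ M → M = ⊤) := by
  classical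
  set π := QuotientGroup.mk' I with hπdef
  have hπs : Function.Surjective π := QuotientGroup.mk'_surjective I
  have hker : π.ker = I := QuotientGroup.ker_mk' I
  have hmemI : ∀ a : A₀, π a = 1 ↔ a ∈ I := by
    intro a
    rw [← MonoidHom.mem_ker, hker]
  let Pb : Subgroup (A₀ ⧸ I) := P.map π
  have hPbp : IsPGroup p Pb := hPp.map π
  have hPbidx : Pb.index = P.index := Subgroup.index_map_eq P hπs (by rw [hker]; exact hIP)
  have hmemPb : ∀ a : A₀, π a ∈ Pb ↔ a ∈ P := by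
    intro a
    constructor
    · rintro ⟨x, hx, hxa⟩
      have h1 : x⁻¹ * a ∈ I := by
        rw [← hmemI, map_mul, map_inv, hxa, inv_mul_cancel]
      have h2 := P.mul_mem hx (hIP h1)
      rwa [mul_inv_cancel_left] at h2
    · exact fun h => ⟨a, h, rfl⟩
  have hNP : ∀ a : A₀, (∀ x ∈ P, a * x * a⁻¹ ∈ P) → a ∈ P := by
    intro a ha
    by_contra hna
    obtain ⟨x, hx, hxI⟩ := hne
    exact hxI (hTI a hna x hx (ha x hx))
  let Ps : Sylow p (A₀ ⧸ I) := hPbp.toSylow (by rw [hPbidx]; exact hidx)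
  have hPs : (Ps : Subgroup (A₀ ⧸ I)) = Pb := rfl
  have hnc : Subgroup.normalizer ((Ps : Subgroup (A₀ ⧸ I)) : Set (A₀ ⧸ I)) ≤
      Subgroup.centralizer ((Ps : Subgroup (A₀ ⧸ I)) : Set (A₀ ⧸ I)) := by
    intro b hb
    obtain ⟨a, rfl⟩ := hπs b
    have haP : a ∈ P := by
      apply hNP
      intro x hx
      rw [← hmemPb, map_mul, map_mul, map_inv]
      have := (Subgroup.mem_normalizer_iff.mp hb (π x)).mp (by rw [hPs]; exact (hmemPb x).mpr hx)
      rwa [hPs] at this
    rw [Subgroup.mem_centralizer_iff]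
    intro y' hy'
    rw [SetLike.mem_coe, hPs] at hy'
    obtain ⟨y, hy, rfl⟩ := hy'
    have h := hab a haP y hy
    have h1 : π (a * y * a⁻¹ * y⁻¹) = 1 := (hmemI _).mpr h
    rw [map_mul, map_mul, map_mul, map_inv, map_inv] at h1
    have h2 : π a * π y = π y * π a := by
      have := congrArg (fun z => z * π y * π a) h1
      simpa [mul_assoc] using this
    exact h2.symm
  have hcompl := MonoidHom.ker_transferSylow_isComplement' Ps hnc
  refine ⟨(MonoidHom.transferSylow Ps hnc).ker, inferInstance, ?_, ?_, ?_, ?_⟩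
  · have h1 : (Ps : Subgroup (A₀ ⧸ I)).index = Nat.card (MonoidHom.transferSylow Ps hnc).ker :=
      hcompl.index_eq_card
    rw [← h1, hPs, hPbidx]
    exact ((Nat.Prime.coprime_iff_not_dvd hp.out).mpr hidx).symm
  · intro b
    obtain ⟨⟨k, y⟩, hky⟩ := hcompl.2 b
    have hy : (y : A₀ ⧸ I) ∈ Pb := y.2
    obtain ⟨x, hx, hxy⟩ := hy
    refine ⟨k, k.2, x, hx, ?_⟩
    rw [hxy]
    exact hky.symm
  · intro x hx hxI k hk hcomm
    obtain ⟨a, rfl⟩ := hπs k
    by_cases haP : a ∈ P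
    · have h1 : π a ∈ (Ps : Subgroup (A₀ ⧸ I)) := by rw [hPs]; exact (hmemPb a).mpr haP
      exact Subgroup.disjoint_def.mp hcompl.disjoint hk h1
    · exfalso
      apply hxI
      apply hTI a haP x hx
      rw [← hmemPb, map_mul, map_mul, map_inv, ← hcomm, mul_inv_cancel_right]
      exact (hmemPb x).mpr hx
  · intro M hM hPM
    haveI := hM
    let Psyl : Sylow p A₀ := hPp.toSylow hidx
    have hPsyl : (Psyl : Subgroup A₀) = P := rfl
    have hle : (Psyl : Subgroup A₀) ≤ M := hPM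
    have h1 := Sylow.normalizer_sup_eq_top (Psyl.subtype hle)
    have e : Subgroup.map M.subtype ((Psyl.subtype hle : Sylow p M) : Subgroup M) = P := by
      rw [Sylow.coe_subtype, hPsyl]
      exact Subgroup.map_subgroupOf_eq_of_le hPM
    rw [e] at h1
    have hN : Subgroup.normalizer (P : Set A₀) ≤ M := fun a ha =>
      hPM (hNP a (fun x hx => (Subgroup.mem_normalizer_iff.mp ha x).mp hx))
    rw [sup_eq_right.mpr hN] at h1
    exact h1

end Cfsg.Agent.Lib.Helper68
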