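import Mathlib
import Cfsg.Agent.Lib.Helper2.PGroup

set_option autoImplicit false

namespace Cfsg.Agent.Lib.Helper68

open scoped BigOperators

theorem ab_of_surjective (H : Type*) [Group H] :
    Function.Surjective (Abelianization.of : H →* Abelianization H) :=
  QuotientGroup.mk_surjective

/-- The action of `MulAut H` on the abelianization. -/
noncomputable def abAct (H : Type*) [Group H] : MulAut H →* MulAut (Abelianization H) where
  toFun α := MulEquiv.abelianizationCongr α
  map_one' := by
    apply MulEquiv.ext
    intro x
    obtain ⟨y, rfl⟩ := ab_of_surjective H x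
    rfl
  map_mul' := by
    intro α β
    apply MulEquiv.ext
    intro x
    obtain ⟨y, rfl⟩ := ab_of_surjective H x
    rfl

theorem abAct_of {H : Type*} [Group H] (α : MulAut H) (x : H) :
    abAct H α (Abelianization.of x) = Abelianization.of (α x) := rfl

theorem mem_ker_abAct {H : Type*} [Group H] (α : MulAut H) :
    α ∈ (abAct H).ker ↔ ∀ x : H, Abelianization.of (α x) = Abelianization.of x := by
  rw [MonoidHom.mem_ker]
  constructor
  · intro h x
    rw [← abAct_of, h]
    rfl
  · intro h
    apply MulEquiv.ext
    intro x
    obtain ⟨y, rfl⟩ := ab_of_surjective H x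
    rw [abAct_of, h]
    rfl

/-- An automorphism of prime order `q ≠ p` of a finite `p`-group that acts trivially on the
abelianization is trivial. -/
theorem aut_eq_one_of_trivial_on_ab {p : ℕ} [hp : Fact p.Prime] {H : Type*} [Group H] [Finite H]
    (hH : IsPGroup p H) (β : MulAut H) (hβ : β ∈ (abAct H).ker) {q : ℕ} [hq : Fact q.Prime]
    (hqp : q ≠ p) (hβq : β ^ q = 1) : β = 1 := by
  classical
  have hZ : IsPGroup q (Subgroup.zpowers β) := by
    rintro ⟨γ, hγ⟩
    obtain ⟨n, rfl⟩ := Subgroup.mem_zpowers_iff.mp hγ
    refine ⟨1, Subtype.ext ?_⟩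
    show (β ^ n) ^ (q ^ 1) = 1
    rw [pow_one, ← zpow_natCast, ← zpow_mul, mul_comm, zpow_mul, zpow_natCast, hβq, one_zpow]
  have hZle : Subgroup.zpowers β ≤ (abAct H).ker := by
    rw [Subgroup.zpowers_le]; exact hβ
  -- the fixed subgroup
  let Fix : Subgroup H :=
    { carrier := {y | β y = y}
      one_mem' := map_one β
      mul_mem' := by
        intro a b ha hb
        show β (a * b) = a * b
        rw [map_mul, ha, hb]
      inv_mem' := by
        intro a ha
        show β a⁻¹ = a⁻¹
        rw [map_inv, ha] }
  have hFix : Fix = ⊤ := by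
    apply frattini_nongenerating
    rw [eq_top_iff]
    intro x _
    -- the coset of x
    let C := {y : H // Abelianization.of y = Abelianization.of x}
    letI : MulAction (Subgroup.zpowers β) C :=
      { smul := fun γ y => ⟨(γ : MulAut H) y.1, by
          rw [(mem_ker_abAct _).mp (hZle γ.2) y.1, y.2]⟩
        one_smul := fun y => Subtype.ext rfl
        mul_smul := fun γ γ' y => Subtype.ext rfl }
    have hcard : Nat.card C = Nat.card (commutator H) := by
      apply Nat.card_congr
      refine
        { toFun := fun y => ⟨x⁻¹ * y.1, ?_⟩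
          invFun := fun z => ⟨x * z.1, ?_⟩
          left_inv := fun y => Subtype.ext (by simp)
          right_inv := fun z => Subtype.ext (by simp) }
      · rw [← Abelianization.ker_of, MonoidHom.mem_ker, map_mul, map_inv, y.2, inv_mul_cancel]
      · have hz : Abelianization.of (z : H) = 1 := by
          have h0 : (z : H) ∈ (Abelianization.of : H →* Abelianization H).ker := by
            rw [Abelianization.ker_of]; exact z.2
          exact h0
        rw [map_mul, hz, mul_one]
    have hnd : ¬ q ∣ Nat.card C := by
      rw [hcard]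
      obtain ⟨n, hn⟩ := (hH.to_subgroup (commutator H)).exists_card_eq
      rw [hn]
      intro hdvd
      exact hqp ((Nat.prime_dvd_prime_iff_eq hq.out hp.out).mp (hq.out.dvd_of_dvd_pow hdvd))
    obtain ⟨y, hy⟩ := hZ.nonempty_fixed_point_of_prime_not_dvd_card C hnd
    have hy' : β y.1 = y.1 := by
      have := hy ⟨β, Subgroup.mem_zpowers β⟩
      exact congrArg Subtype.val this
    have hxy : y.1⁻¹ * x ∈ commutator H := by
      rw [← Abelianization.ker_of, MonoidHom.mem_ker, map_mul, map_inv, y.2, inv_mul_cancel]
    have e : x = y.1 * (y.1⁻¹ * x) := by group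
    rw [e]
    exact Subgroup.mul_mem _ (Subgroup.mem_sup_left hy')
      (Subgroup.mem_sup_right (Cfsg.Agent.Lib.Helper2.commutator_le_frattini hH hxy))
  apply MulEquiv.ext
  intro x
  have : x ∈ Fix := by rw [hFix]; trivial
  exact this

/-- Automorphisms of a finite `p`-group acting trivially on its abelianization form a
`p`-group. -/
theorem isPGroup_ker_abAct {p : ℕ} [hp : Fact p.Prime] {H : Type*} [Group H] [Finite H]
    (hH : IsPGroup p H) : IsPGroup p (abAct H).ker := by
  classical
  haveI : Finite (MulAut H) := Finite.of_injective (fun α : MulAut H => (α : H → H))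
    (fun α β h => MulEquiv.ext (fun x => congrFun h x))
  have hne : Nat.card (abAct H).ker ≠ 0 := Nat.card_pos.ne'
  have key : ∀ {d : ℕ}, d.Prime → d ∣ Nat.card (abAct H).ker → d = p := by
    intro d hd hdvd
    by_contra hdp
    haveI : Fact d.Prime := ⟨hd⟩
    obtain ⟨β, hβ⟩ := exists_prime_orderOf_dvd_card' d hdvd
    have h1 : (β : MulAut H) ^ d = 1 := by
      have := pow_orderOf_eq_one β
      rw [hβ] at this
      exact congrArg Subtype.val this
    have h2 := aut_eq_one_of_trivial_on_ab hH (β : MulAut H) β.2 hdp h1
    have h3 : β = 1 := Subtype.ext h2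
    rw [h3, orderOf_one] at hβ
    exact hd.one_lt.ne hβ
  exact IsPGroup.of_card (Nat.eq_prime_pow_of_unique_prime_dvd hne key)

end Cfsg.Agent.Lib.Helper68
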