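import Mathlib
import Cfsg.Agent.Lib.Helper2.TransferNat

set_option autoImplicit false

namespace Cfsg.Agent.Lib.Helper68

open scoped BigOperators
open Cfsg.Agent.Lib.Helper70 Cfsg.Agent.Lib.Helper2

section

variable {G : Type*} [Group G] {H : Subgroup G} [hH : H.Normal] [H.FiniteIndex]
  {V : Type*} [CommGroup V]

omit [H.FiniteIndex] in
theorem conj_mem_of_normal (g : G) (h : H) : g * (h : G) * g⁻¹ ∈ H :=
  hH.conj_mem _ h.2 g

/-- Transfer into a normal subgroup, evaluated on an element of the subgroup, for an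
equivariant target. -/
theorem transfer_normal_eq_prod (ϕ : H →* V) (a : G ⧸ H → V → V)
    (hequiv : ∀ (g : G) (h : H), a (g : G ⧸ H) (ϕ h) = ϕ ⟨g * h * g⁻¹, conj_mem_of_normal g h⟩)
    (h : H) : MonoidHom.transfer ϕ (h : G) = ∏ᶠ q : G ⧸ H, a q (ϕ h) := by
  classical
  letI := H.fintypeQuotientOfFiniteIndex
  rw [finprod_eq_prod_of_fintype]
  let s : G ⧸ H → G := fun q => ((q⁻¹ : G ⧸ H).out)⁻¹
  have hs : ∀ q : G ⧸ H, ((s q : G) : G ⧸ H) = q := by
    intro q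
    show ((((q⁻¹ : G ⧸ H).out)⁻¹ : G) : G ⧸ H) = q
    rw [QuotientGroup.mk_inv, QuotientGroup.out_eq', inv_inv]
  rw [gr_transfer_section ϕ s hs (h : G)]
  have hfix : ∀ q : G ⧸ H, ((h : G)⁻¹) • q = q := by
    intro q
    induction q using QuotientGroup.induction_on with
    | H g =>
      show (((h : G)⁻¹ * g : G) : G ⧸ H) = (g : G ⧸ H)
      rw [QuotientGroup.eq]
      have e : ((h : G)⁻¹ * g)⁻¹ * g = g⁻¹ * (h : G) * g⁻¹⁻¹ := by group
      rw [e]
      exact hH.conj_mem _ h.2 _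
  have hterm : ∀ q : G ⧸ H, gr_ext ϕ ((s q)⁻¹ * ((h : G) * s ((h : G)⁻¹ • q))) = a q⁻¹ (ϕ h) := by
    intro q
    rw [hfix q]
    have e1 : (s q)⁻¹ * ((h : G) * s q) =
        (q⁻¹ : G ⧸ H).out * (h : G) * ((q⁻¹ : G ⧸ H).out)⁻¹ := by
      show (((q⁻¹ : G ⧸ H).out)⁻¹)⁻¹ * ((h : G) * ((q⁻¹ : G ⧸ H).out)⁻¹) = _
      group
    rw [e1, gr_ext_mk ϕ _ (conj_mem_of_normal _ h), ← hequiv, QuotientGroup.out_eq']
  rw [Finset.prod_congr rfl (fun q _ => hterm q)]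
  exact Equiv.prod_comp (Equiv.inv (G ⧸ H)) (fun q => a q (ϕ h))

/-- The transfer into a normal subgroup has invariant values. -/
theorem transfer_normal_invariant (ϕ : H →* V) (f : V →* V) (s₀ : G)
    (hequiv : ∀ h : H, f (ϕ h) = ϕ ⟨s₀ * h * s₀⁻¹, conj_mem_of_normal s₀ h⟩) (g : G) :
    f (MonoidHom.transfer ϕ g) = MonoidHom.transfer ϕ g := by
  have hα : ∀ h, h ∈ H ↔ (MulAut.conj s₀ : G ≃* G) h ∈ H := by
    intro h
    rw [MulAut.conj_apply]
    constructor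
    · intro hh
      exact hH.conj_mem _ hh _
    · intro hh
      have := hH.conj_mem _ hh s₀⁻¹
      have e : s₀⁻¹ * (s₀ * h * s₀⁻¹) * s₀⁻¹⁻¹ = h := by group
      rwa [e] at this
  rw [transfer_comp_hom f ϕ g]
  have e : f.comp ϕ = ϕ.comp (restrictEquiv (MulAut.conj s₀ : G ≃* G) hα) := by
    ext h
    show f (ϕ h) = ϕ (restrictEquiv (MulAut.conj s₀ : G ≃* G) hα h)
    rw [hequiv]
    congr 1
  rw [e, ← transfer_equiv (MulAut.conj s₀ : G ≃* G) hα ϕ g, MulAut.conj_apply, map_mul, map_mul,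
    map_inv, mul_comm, inv_mul_cancel_left]

end

end Cfsg.Agent.Lib.Helper68
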