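import Mathlib
import Cfsg.Agent.Lib.Helper68.FrobModule
import Cfsg.Agent.Lib.Helper68.TransferNormal
import Cfsg.Agent.Lib.Helper68.PrimeAut
import Cfsg.Agent.Lib.Helper68.FrobQuot

set_option autoImplicit false
set_option maxHeartbeats 1000000

namespace Cfsg.Agent.Lib.Helper68

open scoped BigOperators

/-- Core theorem: a group `A` of automorphisms of `R ⊴ S` (stabilizing `Q`, with `[S,S] ≤ Q ≤ Φ(S)`,
`Q ≤ R`) in which `Aut_S(R)` is a Sylow `p`-subgroup with the TI-type property coming from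
receptivity must equal `Aut_S(R)`. -/
theorem aut_le_of_frobenius {p : ℕ} [hp : Fact p.Prime] {Ω : Type*} [Group Ω] (S R Q : Subgroup Ω)
    [Finite S] (hS : IsPGroup p S) (hRS : R ≤ S) (hQR : Q ≤ R) (hRne : ∃ s ∈ S, s ∉ R)
    (hSN : S ≤ Subgroup.normalizer (R : Set Ω))
    (hcomm : ∀ s ∈ S, ∀ t ∈ S, s * t * s⁻¹ * t⁻¹ ∈ Q)
    (hQΦ : Q.subgroupOf S ≤ frattini S)
    (A P : Subgroup (MulAut R))
    (hP : ∀ α : MulAut R, α ∈ P ↔ ∃ g ∈ S, ∀ x : R, ((α x : R) : Ω) = g * x * g⁻¹)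
    (hPA : P ≤ A)
    (hSyl : ¬ p ∣ P.relIndex A)
    (hAQ : ∀ α ∈ A, ∀ x : R, (x : Ω) ∈ Q → ((α x : R) : Ω) ∈ Q)
    (hTI : ∀ α ∈ A, α ∉ P → ∀ γ : MulAut R, ∀ g ∈ S,
      (∀ x : R, ((γ x : R) : Ω) = g * x * g⁻¹) → α * γ * α⁻¹ ∈ P → g ∈ R) :
    A ≤ P := by
  classical
  by_contra hnot
  obtain ⟨α₀, hα₀A, hα₀P⟩ := SetLike.not_le_iff_exists.mp hnot
  haveI hfinR : Finite R := Finite.of_injective _ (Subgroup.inclusion_injective hRS)
  have hRp : IsPGroup p R := hS.to_le hRS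
  haveI hfinAut : Finite (MulAut R) := Finite.of_injective (fun α : MulAut R => (α : R → R))
    (fun α β h => MulEquiv.ext (fun x => congrFun h x))
  -- conjugation hom
  let cS : S →* MulAut R := R.normalizerMonoidHom.comp (Subgroup.inclusion hSN)
  have hcS : ∀ (s : S) (x : R), ((cS s x : R) : Ω) = s * x * (s : Ω)⁻¹ := fun _ _ => rfl
  have hPiff : ∀ α : MulAut R, α ∈ P ↔ ∃ s : S, cS s = α := by
    intro α
    rw [hP]
    constructor
    · rintro ⟨g, hg, h⟩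
      exact ⟨⟨g, hg⟩, MulEquiv.ext fun x => Subtype.ext ((hcS _ x).trans (h x).symm)⟩
    · rintro ⟨s, rfl⟩
      exact ⟨s, s.2, fun x => hcS s x⟩
  have hcSP : ∀ s : S, cS s ∈ P := fun s => (hPiff _).mpr ⟨s, rfl⟩
  have hkerR : ∀ s : S, cS s = 1 → (s : Ω) ∈ R := by
    intro s hs
    apply hTI α₀ hα₀A hα₀P (cS s) s s.2 (hcS s)
    rw [hs, mul_one, mul_inv_cancel]
    exact P.one_mem
  let H : Subgroup S := R.subgroupOf S
  haveI hHn : H.Normal := by
    refine ⟨fun h hh g => ?_⟩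
    rw [Subgroup.mem_subgroupOf] at hh ⊢
    have := (Subgroup.mem_normalizer_iff.mp (hSN g.2) (h : Ω)).mp hh
    exact this
  let I : Subgroup (MulAut R) := H.map cS
  have hIR : ∀ s : S, cS s ∈ I → (s : Ω) ∈ R := by
    rintro s ⟨h, hh, hhs⟩
    have h0 : cS (h⁻¹ * s) = 1 := by rw [map_mul, map_inv, hhs, inv_mul_cancel]
    have h1 := hkerR _ h0
    have h2 : (h : Ω) ∈ R := Subgroup.mem_subgroupOf.mp hh
    have h3 := R.mul_mem h2 h1
    have e : (h : Ω) * ((h⁻¹ * s : S) : Ω) = s := by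
      show (h : Ω) * ((h : Ω)⁻¹ * (s : Ω)) = s
      group
    rwa [e] at h3
  have hcSR : ∀ (h : S) (hh : (h : Ω) ∈ R) (x : R), cS h x = ⟨h, hh⟩ * x * (⟨h, hh⟩ : R)⁻¹ :=
    fun h hh x => Subtype.ext rfl
  haveI hIn : I.Normal := by
    refine ⟨?_⟩
    rintro _ ⟨h, hh, rfl⟩ g
    have hhR : (h : Ω) ∈ R := Subgroup.mem_subgroupOf.mp hh
    let r' : R := g ⟨h, hhR⟩
    refine ⟨⟨r', hRS r'.2⟩, Subgroup.mem_subgroupOf.mpr r'.2, ?_⟩
    apply MulEquiv.ext
    intro x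
    rw [hcSR _ r'.2 x]
    show _ = g (cS h (g⁻¹ x))
    rw [hcSR h hhR, map_mul, map_mul, map_inv, MulAut.apply_inv_self]
  have hIP : I ≤ P := by
    rintro _ ⟨h, _, rfl⟩
    exact hcSP h
  let P₀ : Subgroup A := P.subgroupOf A
  let I₀ : Subgroup A := I.subgroupOf A
  haveI hI₀n : I₀.Normal := hIn.subgroupOf A
  have hIP₀ : I₀ ≤ P₀ := fun a ha => hIP ha
  have hPp : IsPGroup p P := by
    rintro ⟨α, hα⟩
    obtain ⟨s, rfl⟩ := (hPiff α).mp hα
    obtain ⟨k, hk⟩ := hS s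
    refine ⟨k, Subtype.ext ?_⟩
    show (cS s) ^ (p ^ k) = 1
    rw [← map_pow, hk, map_one]
  have hP₀p : IsPGroup p P₀ := hPp.comap_of_injective A.subtype (Subgroup.subtype_injective A)
  have hidx : ¬ p ∣ P₀.index := hSyl
  have hab₀ : ∀ x ∈ P₀, ∀ y ∈ P₀, x * y * x⁻¹ * y⁻¹ ∈ I₀ := by
    intro x hx y hy
    obtain ⟨s, hs⟩ : ∃ s, cS s = (x : MulAut R) := (hPiff _).mp hx
    obtain ⟨t, ht⟩ : ∃ t, cS t = (y : MulAut R) := (hPiff _).mp hy
    show (x : MulAut R) * (y : MulAut R) * (x : MulAut R)⁻¹ * (y : MulAut R)⁻¹ ∈ I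
    rw [← hs, ← ht, ← map_inv, ← map_inv, ← map_mul, ← map_mul, ← map_mul]
    exact ⟨_, Subgroup.mem_subgroupOf.mpr (hQR (hcomm s s.2 t t.2)), rfl⟩
  have hTI₀ : ∀ a : A, a ∉ P₀ → ∀ x ∈ P₀, a * x * a⁻¹ ∈ P₀ → x ∈ I₀ := by
    intro a ha x hx hax
    obtain ⟨s, hs⟩ : ∃ s, cS s = (x : MulAut R) := (hPiff _).mp hx
    have hsR : (s : Ω) ∈ R := hTI a a.2 ha (cS s) s s.2 (hcS s) (by rw [hs]; exact hax)
    show (x : MulAut R) ∈ I
    rw [← hs]
    exact ⟨s, Subgroup.mem_subgroupOf.mpr hsR, rfl⟩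
  have hne₀ : ∃ x ∈ P₀, x ∉ I₀ := by
    obtain ⟨s, hs, hsR⟩ := hRne
    exact ⟨⟨cS ⟨s, hs⟩, hPA (hcSP _)⟩, hcSP _, fun h => hsR (hIR ⟨s, hs⟩ h)⟩
  obtain ⟨K, hKn, hKcop, hKP, hKfree, hFrat⟩ :=
    frobenius_quotient P₀ I₀ hIP₀ hP₀p hidx hab₀ hTI₀ hne₀
  -- the subgroup acting trivially modulo Q
  let M : Subgroup A :=
    { carrier := {a | ∀ x : R, (x : Ω) * (((a : MulAut R) x : R) : Ω)⁻¹ ∈ Q}
      one_mem' := by
        intro x
        show (x : Ω) * ((x : R) : Ω)⁻¹ ∈ Q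
        rw [mul_inv_cancel]
        exact Q.one_mem
      mul_mem' := by
        intro a b ha hb x
        have h1 := hb x
        have h2 := ha ((b : MulAut R) x)
        have h3 := Q.mul_mem h1 h2
        have e : (x : Ω) * (((b : MulAut R) x : R) : Ω)⁻¹ *
            ((((b : MulAut R) x : R) : Ω) * (((a : MulAut R) ((b : MulAut R) x) : R) : Ω)⁻¹) =
            (x : Ω) * (((a : MulAut R) ((b : MulAut R) x) : R) : Ω)⁻¹ := by group
        rw [e] at h3
        exact h3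
      inv_mem' := by
        intro a ha x
        have h1 := ha ((a : MulAut R)⁻¹ x)
        rw [MulAut.apply_inv_self] at h1
        have h2 := Q.inv_mem h1
        rw [mul_inv_rev, inv_inv] at h2
        exact h2 }
  have hMmem : ∀ a : A, a ∈ M ↔ ∀ x : R, (x : Ω) * (((a : MulAut R) x : R) : Ω)⁻¹ ∈ Q :=
    fun _ => Iff.rfl
  have hMn : M.Normal := by
    refine ⟨fun a ha g => ?_⟩
    rw [hMmem]
    intro x
    have h1 := (hMmem a).mp ha ((g : MulAut R)⁻¹ x)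
    let y : R := (g : MulAut R)⁻¹ x
    let z : R := y * ((a : MulAut R) y)⁻¹
    have hz : (z : Ω) ∈ Q := h1
    have h2 := hAQ g g.2 z hz
    have e : ((g : MulAut R) z : R) = x * (((g * a * g⁻¹ : A) : MulAut R) x)⁻¹ := by
      show (g : MulAut R) (y * ((a : MulAut R) y)⁻¹) = x * ((g : MulAut R) ((a : MulAut R) y))⁻¹
      rw [map_mul, map_inv, MulAut.apply_inv_self]
    rw [e] at h2
    exact h2
  have hP₀M : P₀ ≤ M := by
    intro a ha
    obtain ⟨s, hs⟩ : ∃ s, cS s = (a : MulAut R) := (hPiff _).mp ha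
    rw [hMmem]
    intro x
    rw [← hs, hcS]
    have := hcomm x (hRS x.2) s s.2
    have e : (x : Ω) * ((s : Ω) * (x : Ω) * (s : Ω)⁻¹)⁻¹ = (x : Ω) * s * (x : Ω)⁻¹ * (s : Ω)⁻¹ := by
      group
    rw [e]
    exact this
  have hMtop : M = ⊤ := hFrat M hMn hP₀M
  have hMall : ∀ (a : A) (x : R), (x : Ω) * (((a : MulAut R) x : R) : Ω)⁻¹ ∈ Q := by
    intro a
    rw [← hMmem, hMtop]
    trivial
  -- the module
  haveI hfinV : Finite (Abelianization R) := Finite.of_surjective _ (ab_of_surjective R)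
  have hVp : IsPGroup p (Abelianization R) :=
    hRp.of_surjective Abelianization.of (ab_of_surjective R)
  have hρker : I₀ ≤ ((abAct R).comp A.subtype).ker := by
    intro a ha
    rw [MonoidHom.mem_ker]
    show abAct R (a : MulAut R) = 1
    rw [← MonoidHom.mem_ker, mem_ker_abAct]
    obtain ⟨h, hh, hha⟩ : (a : MulAut R) ∈ I := ha
    intro x
    rw [← hha, hcSR h (Subgroup.mem_subgroupOf.mp hh), map_mul, map_mul, map_inv, mul_comm,
      inv_mul_cancel_left]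
  let ρ : (A ⧸ I₀) →* MulAut (Abelianization R) :=
    QuotientGroup.lift I₀ ((abAct R).comp A.subtype) hρker
  have hρmk : ∀ a : A, ρ (QuotientGroup.mk' I₀ a) = abAct R (a : MulAut R) := fun a => rfl
  let cS' : S →* A := cS.codRestrict A (fun s => hPA (hcSP s))
  have hcker : H ≤ ((QuotientGroup.mk' I₀).comp cS').ker := by
    intro h hh
    rw [MonoidHom.mem_ker]
    show QuotientGroup.mk' I₀ (cS' h) = 1
    rw [QuotientGroup.mk'_apply, QuotientGroup.eq_one_iff]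
    exact ⟨h, hh, rfl⟩
  let c : S ⧸ H →* A ⧸ I₀ := QuotientGroup.lift H ((QuotientGroup.mk' I₀).comp cS') hcker
  have hcmk : ∀ s : S, c (s : S ⧸ H) = QuotientGroup.mk' I₀ (cS' s) := fun s => rfl
  have hT' : IsPGroup p (S ⧸ H) := hS.to_quotient H
  have hfree : ∀ q : S ⧸ H, q ≠ 1 → ∀ k ∈ K, c q * k = k * c q → k = 1 := by
    intro q hq k hk hcomm'
    induction q using QuotientGroup.induction_on with
    | H s =>
      have hsH : s ∉ H := fun h => hq ((QuotientGroup.eq_one_iff s).mpr h)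
      refine hKfree (cS' s) (hcSP s) ?_ k hk hcomm'
      intro hI
      exact hsH (Subgroup.mem_subgroupOf.mpr (hIR s hI))
  let e : H ≃* R := Subgroup.subgroupOfEquivOfLe hRS
  have he : ∀ h : H, ((e h : R) : Ω) = ((h : S) : Ω) := fun _ => rfl
  let ab : H →* Abelianization R := (Abelianization.of).comp e.toMonoidHom
  have habs : Function.Surjective ab := (ab_of_surjective R).comp e.surjective
  have habapp : ∀ h : H, ab h = Abelianization.of (e h) := fun _ => rfl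
  let Θ₀ : S →* Abelianization R := MonoidHom.transfer ab
  have hequiv : ∀ (g : S) (h : H), ρ (c (g : S ⧸ H)) (ab h) =
      ab ⟨g * h * g⁻¹, conj_mem_of_normal g h⟩ := by
    intro g h
    rw [hcmk, hρmk, habapp, habapp, abAct_of]
    congr 1
  have hT2 : ∀ h : H, Θ₀ (h : S) = ∏ᶠ q : S ⧸ H, ρ (c q) (ab h) :=
    fun h => transfer_normal_eq_prod ab (fun q v => ρ (c q) v) hequiv h
  have hT3 : ∀ (q : S ⧸ H) (x : S), ρ (c q) (Θ₀ x) = Θ₀ x := by
    intro q x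
    induction q using QuotientGroup.induction_on with
    | H s₀ =>
      exact transfer_normal_invariant ab (ρ (c (s₀ : S ⧸ H))).toMonoidHom s₀
        (fun h => hequiv s₀ h) x
  have hc : ∀ k ∈ K, ∀ h : H, ∃ q : H, (q : S) ∈ Q.subgroupOf S ∧ ab q = ab h / ρ k (ab h) := by
    intro k _ h
    obtain ⟨a, rfl⟩ := QuotientGroup.mk'_surjective I₀ k
    have hz := hMall a (e h)
    let z : R := e h * ((a : MulAut R) (e h))⁻¹
    have hzQ : (z : Ω) ∈ Q := hz
    refine ⟨e.symm z, ?_, ?_⟩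
    · rw [Subgroup.mem_subgroupOf]
      have e1 : (((e.symm z : H) : S) : Ω) = z := by rw [← he, e.apply_symm_apply]
      rw [e1]
      exact hzQ
    · rw [habapp, habapp, e.apply_symm_apply, hρmk, abAct_of, div_eq_mul_inv, ← map_inv,
        ← map_mul]
  have htriv := frobenius_module_trivial (p := p) hS H (Q.subgroupOf S) hQΦ hVp K hKcop ρ hT' c
    hfree ab habs Θ₀ hT2 hT3 hc
  -- conclude K = 1
  have hD := isPGroup_ker_abAct hRp
  have hK1 : ∀ k ∈ K, k = 1 := by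
    intro k hk
    obtain ⟨a, rfl⟩ := QuotientGroup.mk'_surjective I₀ k
    have haD : (a : MulAut R) ∈ (abAct R).ker := by
      rw [MonoidHom.mem_ker]
      apply MulEquiv.ext
      intro v
      have := htriv _ hk v
      rw [hρmk] at this
      exact this
    obtain ⟨n, hn⟩ := hD ⟨(a : MulAut R), haD⟩
    have hn' : a ^ (p ^ n) = 1 := by
      apply Subtype.ext
      have := congrArg Subtype.val hn
      exact this
    have h1 : orderOf (QuotientGroup.mk' I₀ a) ∣ p ^ n := by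
      apply orderOf_dvd_of_pow_eq_one
      rw [← map_pow, hn', map_one]
    have h2 : orderOf (QuotientGroup.mk' I₀ a) ∣ Nat.card K := by
      have := orderOf_dvd_natCard (⟨_, hk⟩ : K)
      rwa [Subgroup.orderOf_mk] at this
    have h3 : (orderOf (QuotientGroup.mk' I₀ a)).Coprime (p ^ n) :=
      Nat.Coprime.coprime_dvd_left h2 (Nat.Coprime.pow_right n hKcop)
    have h4 := Nat.Coprime.eq_one_of_dvd h3 h1
    exact orderOf_eq_one_iff.mp h4
  obtain ⟨k, hk, x, hx, hkx⟩ := hKP (QuotientGroup.mk' I₀ ⟨α₀, hα₀A⟩)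
  rw [hK1 k hk, one_mul] at hkx
  have h5 : x⁻¹ * ⟨α₀, hα₀A⟩ ∈ I₀ := QuotientGroup.eq.mp hkx.symm
  have h6 := P₀.mul_mem hx (hIP₀ h5)
  rw [mul_inv_cancel_left] at h6
  exact hα₀P h6

end Cfsg.Agent.Lib.Helper68
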