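import Cfsg.Agent.Lib.Helper68.BG1215c
import Cfsg.Agent.Lib.Helper55.InvolSylow

set_option autoImplicit false
set_option linter.style.haveILetI false
set_option linter.unusedSectionVars false

/-!
# BG 13.4 (S1428), Case A2, part 1: general lemmas and the case `q ∈ σ(M*)`

If `M* = M*_β (M ∩ M*)` and `p` divides neither `|M'|` nor `|M*_β|`, then `p ∤ |M*'|`.
-/

namespace Cfsg.Agent.Lib.Helper68.BG134

open Subgroup Cfsg Cfsg.Agent.Lib.Helper33 Cfsg.Agent.Lib.Helper23 Cfsg.Agent.Lib.Helper63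
open Cfsg.Agent.Lib.Helper68.BG1215
open scoped Pointwise commutatorElement

universe u

variable {G : Type u} [Group G] [Finite G]

/-- a nontrivial `p`-group `S = [S, E]` cannot sit together with `E` in a group `X` with
`p ∤ |X'|` -/
theorem false_of_le_commutator {p : ℕ} [hp : Fact p.Prime] {S EH X : Subgroup G}
    (hS : IsPGroup p S) (hS1 : S ≠ ⊥) (hSE : S ≤ ⁅S, EH⁆) (hSX : S ≤ X) (hEX : EH ≤ X)
    (hX : ¬ p ∣ Nat.card ↥⁅X, X⁆) : False := by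
  have h1 : S ≤ ⁅X, X⁆ := hSE.trans (Subgroup.commutator_mono hSX hEX)
  obtain ⟨k, hk⟩ := IsPGroup.iff_card.mp hS
  have hk0 : k ≠ 0 := by
    rintro rfl
    rw [pow_zero] at hk
    exact hS1 (Subgroup.card_eq_one.mp hk)
  have h2 : p ∣ Nat.card S := by rw [hk]; exact dvd_pow_self p hk0
  exact hX (h2.trans (Subgroup.card_dvd_of_le h1))

/-- if `L = N D` with `N` normal in `L`, then `L' ≤ N D'` -/
theorem commutator_le_sup_of_cover {N D L : Subgroup G} (hDL : D ≤ L)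
    (hLN : L ≤ normalizer (N : Set G)) (hcov : L ≤ D ⊔ N) :
    ⁅L, L⁆ ≤ N ⊔ ⁅D, D⁆ := by
  rw [Subgroup.commutator_le]
  intro g₁ hg₁ g₂ hg₂
  have hDN : D ≤ normalizer (N : Set G) := hDL.trans hLN
  obtain ⟨d₁, hd₁, n₁, hn₁, rfl⟩ :=
    Cfsg.Agent.Lib.Helper24.exists_mul_of_mem_sup_of_le_normalizer D N hDN g₁ (hcov hg₁)
  obtain ⟨d₂, hd₂, n₂, hn₂, rfl⟩ :=
    Cfsg.Agent.Lib.Helper24.exists_mul_of_mem_sup_of_le_normalizer D N hDN g₂ (hcov hg₂)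
  have conj_mem : ∀ x ∈ D, ∀ n ∈ N, x * n * x⁻¹ ∈ N := fun x hx n hn =>
    (mem_normalizer_iff.mp (hDN hx) n).mp hn
  have ha : d₁ * n₁ * d₁⁻¹ ∈ N := conj_mem d₁ hd₁ n₁ hn₁
  have hb : (d₁ * d₂) * (n₂ * n₁⁻¹) * (d₁ * d₂)⁻¹ ∈ N :=
    conj_mem _ (D.mul_mem hd₁ hd₂) _ (N.mul_mem hn₂ (N.inv_mem hn₁))
  have he : (d₁ * d₂ * d₁⁻¹) * n₂⁻¹ * (d₁ * d₂ * d₁⁻¹)⁻¹ ∈ N :=
    conj_mem _ (D.mul_mem (D.mul_mem hd₁ hd₂) (D.inv_mem hd₁)) _ (N.inv_mem hn₂)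
  have hc : ⁅d₁, d₂⁆ ∈ ⁅D, D⁆ := Subgroup.commutator_mem_commutator hd₁ hd₂
  have heq : ⁅d₁ * n₁, d₂ * n₂⁆ =
      (d₁ * n₁ * d₁⁻¹) * ((d₁ * d₂) * (n₂ * n₁⁻¹) * (d₁ * d₂)⁻¹) *
        ((d₁ * d₂ * d₁⁻¹) * n₂⁻¹ * (d₁ * d₂ * d₁⁻¹)⁻¹) * ⁅d₁, d₂⁆ := by
    rw [commutatorElement_def, commutatorElement_def]
    group
  rw [heq]
  exact Subgroup.mul_mem _ (Subgroup.mem_sup_left (N.mul_mem (N.mul_mem ha hb) he))
    (Subgroup.mem_sup_right hc)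

/-- `p` does not divide `|K N|` when it divides neither `|K|` nor `|N|` and `K` normalizes `N` -/
theorem not_dvd_card_sup {p : ℕ} (hp : p.Prime) {K N : Subgroup G}
    (hKN : K ≤ normalizer (N : Set G)) (hK : ¬ p ∣ Nat.card K) (hN : ¬ p ∣ Nat.card N) :
    ¬ p ∣ Nat.card ↥(K ⊔ N) := by
  intro h
  have h1 := h.trans (Cfsg.Agent.Lib.Helper55.card_sup_dvd_mul_of_le_normalizer K N hKN)
  rcases (Nat.Prime.dvd_mul hp).mp h1 with h2 | h2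
  · exact hK h2
  · exact hN h2

/-- `X ≤ N_G(O_π(X))` -/
theorem le_normalizer_piCoreOf' (π : Set ℕ) (X : Subgroup G) :
    X ≤ normalizer ((piCoreOf π X : Subgroup G) : Set G) := by
  have hle : piCoreOf π X ≤ X := Subgroup.map_subtype_le _
  have hsub : (piCoreOf π X).subgroupOf X = piCore π ↥X := by
    rw [piCoreOf, Subgroup.subgroupOf, Subgroup.comap_map_eq_self_of_injective X.subtype_injective]
  have : ((piCoreOf π X).subgroupOf X).Normal := by rw [hsub]; infer_instance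
  exact (normal_subgroupOf_iff_le_normalizer hle).mp this

/-- the part of B&G 10.8 (statement S1414) on `M_β` being a Hall subgroup of `M` -/
def H14b (G : Type u) [Group G] : Prop :=
  ∀ M : Subgroup G, IsCoatom M → IsPiHallOf (beta M) (piCoreOf (beta M) M) M

/-- **B&G 12.14(d1)** in the `β` form: if `q ∈ σ(M) ∩ σ(M*)`, `M*` not conjugate to `M`, and
`S_q` is a Sylow `q`-subgroup of `M*` with `N_G(S_q) ≤ M`, then `M* = (M ∩ M*) M*_β`. -/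
theorem cover_of_sigma (hG : IsMinSimpleOddOrder G) (hU : BG10.UniqStmt G)
    (hF : ∀ M : Subgroup G, IsCoatom M → SigmaFusion M) (h14 : H14 G) (h14b : H14b G)
    {M Ms : Subgroup G} (hM : IsCoatom M) (hMs : IsCoatom Ms) (hnc : ∀ g : G, Ms ≠ cj g M)
    {q : ℕ} [hq : Fact q.Prime] (hqM : q ∈ sigma M) (hqMs : q ∈ sigma Ms)
    {Sq : Subgroup G} (hSM : Sq ≤ M) (hSMs : Sq ≤ Ms) (hSq : IsPGroup q Sq)
    (hSi : ¬ q ∣ Sq.relIndex Ms) (hNS : normalizer (Sq : Set G) ≤ M) :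
    Ms ≤ (M ⊓ Ms) ⊔ piCoreOf (beta Ms) Ms := by
  obtain ⟨hHallM, hHallMG, -⟩ := Cfsg.Agent.Lib.Helper62.sigmaCore_hall hG hU hM (hF M hM)
  obtain ⟨hHallMs, -, -⟩ := Cfsg.Agent.Lib.Helper62.sigmaCore_hall hG hU hMs (hF Ms hMs)
  have hqβ : q ∉ beta Ms := fun h => fact_A hG hU hM hMs hHallMG hHallM hnc hqM h.1
  obtain ⟨hNle, hNπ, hNi⟩ := h14b Ms hMs
  set N := piCoreOf (beta Ms) Ms with hNdef
  set T := (M ⊓ Ms) ⊔ N with hTdef
  have hTMs : T ≤ Ms := sup_le inf_le_right hNle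
  rw [← Subgroup.relIndex_eq_one]
  by_contra hne
  obtain ⟨r, hr, hrd⟩ := Nat.exists_prime_and_dvd hne
  haveI : Fact r.Prime := ⟨hr⟩
  have hrMs : r ∣ Nat.card Ms := hrd.trans (Subgroup.relIndex_dvd_card _ _)
  by_cases hrβ : r ∈ beta Ms
  · exact hNi r hr hrβ (hrd.trans (Subgroup.relIndex_dvd_of_le_left Ms le_sup_right))
  · by_cases hrq : r = q
    · subst hrq
      have hST : Sq ≤ T := (le_inf hSM hSMs).trans le_sup_left
      exact hSi (hrd.trans (Subgroup.relIndex_dvd_of_le_left Ms hST))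
    · obtain ⟨R, hRMs, hRr, hRi, hRN⟩ :=
        find_R hG h14 hMs hHallMs hqMs hqβ hSMs hSq hSi hrq hrMs hrβ
      have hRT : R ≤ T := (le_inf (hRN.trans hNS) hRMs).trans le_sup_left
      exact hRi (hrd.trans (Subgroup.relIndex_dvd_of_le_left Ms hRT))

/-- **Case `q ∈ σ(M*)`**: `p ∤ |M*'|` for a prime `p ∉ β(M*)` with `p ∤ |M'|` -/
theorem not_dvd_card_commutator_of_sigma (hG : IsMinSimpleOddOrder G) (hU : BG10.UniqStmt G)
    (hF : ∀ M : Subgroup G, IsCoatom M → SigmaFusion M) (h14 : H14 G) (h14b : H14b G)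
    {M Ms : Subgroup G} (hM : IsCoatom M) (hMs : IsCoatom Ms) (hnc : ∀ g : G, Ms ≠ cj g M)
    {p q : ℕ} [hp : Fact p.Prime] [hq : Fact q.Prime]
    (hpM' : ¬ p ∣ Nat.card ↥⁅M, M⁆) (hpβ : p ∉ beta Ms)
    (hqM : q ∈ sigma M) (hqMs : q ∈ sigma Ms)
    {Sq : Subgroup G} (hSM : Sq ≤ M) (hSMs : Sq ≤ Ms) (hSq : IsPGroup q Sq)
    (hSi : ¬ q ∣ Sq.relIndex Ms) (hNS : normalizer (Sq : Set G) ≤ M) :
    ¬ p ∣ Nat.card ↥⁅Ms, Ms⁆ := by
  have hcov := cover_of_sigma hG hU hF h14 h14b hM hMs hnc hqM hqMs hSM hSMs hSq hSi hNS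
  obtain ⟨hNle, hNπ, hNi⟩ := h14b Ms hMs
  set N := piCoreOf (beta Ms) Ms with hNdef
  have hMsN : Ms ≤ normalizer (N : Set G) := le_normalizer_piCoreOf' _ _
  have h1 : ⁅Ms, Ms⁆ ≤ N ⊔ ⁅M ⊓ Ms, M ⊓ Ms⁆ :=
    commutator_le_sup_of_cover inf_le_right hMsN hcov
  have hD' : ¬ p ∣ Nat.card ↥⁅M ⊓ Ms, M ⊓ Ms⁆ := fun h =>
    hpM' (h.trans (Subgroup.card_dvd_of_le (Subgroup.commutator_mono inf_le_left inf_le_left)))
  have hN' : ¬ p ∣ Nat.card N := fun h => hpβ (hNπ p hp.out h)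
  have hDD : ⁅M ⊓ Ms, M ⊓ Ms⁆ ≤ M ⊓ Ms := by
    rw [Subgroup.commutator_le]
    intro g₁ hg₁ g₂ hg₂
    rw [commutatorElement_def]
    exact Subgroup.mul_mem _ (Subgroup.mul_mem _ (Subgroup.mul_mem _ hg₁ hg₂)
      (Subgroup.inv_mem _ hg₁)) (Subgroup.inv_mem _ hg₂)
  have hDN : ⁅M ⊓ Ms, M ⊓ Ms⁆ ≤ normalizer (N : Set G) :=
    hDD.trans (inf_le_right.trans hMsN)
  have h2 := not_dvd_card_sup hp.out hDN hD' hN'
  intro h
  apply h2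
  rw [sup_comm]
  exact h.trans (Subgroup.card_dvd_of_le h1)

end Cfsg.Agent.Lib.Helper68.BG134
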