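import Cfsg.Agent.Lib.Helper68.BG134B

set_option autoImplicit false
set_option linter.style.haveILetI false
set_option linter.unusedSectionVars false

/-!
# BG 13.4 (S1428), Case A2 (helper62's proof, board #2456)

`p ∈ τ₁(M)`, `P ≤ M` of order `p` with `C_{M_σ}(P) ≤ H`, `Q0 ≠ 1` a `q`-subgroup of `M` centralized by
`P`, `q ∈ σ(M)`, `H` of `q`-rank at most one, `r_p(G) ≤ 2`, and a nontrivial `p`-group
`S = [S, E_H]` (Lemma K) with `S ≤ C_G(Q0)`, `E_H ≤ N_G(Q0)`: contradiction.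
-/

namespace Cfsg.Agent.Lib.Helper68.BG134

open Subgroup Cfsg Cfsg.Agent.Lib.Helper33 Cfsg.Agent.Lib.Helper23 Cfsg.Agent.Lib.Helper63
open Cfsg.Agent.Lib.Helper68.BG1215 Cfsg.Agent.Lib.Helper24.BG
open scoped Pointwise commutatorElement

universe u

variable {G : Type u} [Group G] [Finite G]

/-- **Case A2** of B&G 13.4, from the statements of 9.6, 10.1, 10.8, 12.1, 12.5, 12.6, 12.14. -/
theorem caseA2_of (hG : IsMinSimpleOddOrder G) (hU : BG10.UniqStmt G) (h4 : Stmt1404 G)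
    (h14 : H14 G) (h14b : H14b G) (h15 : H15 G) (h17 : H17 G) (h18 : H18 G) (h24 : H24 G)
    {M H : Subgroup G} (hM : IsCoatom M)
    {p q : ℕ} [hp : Fact p.Prime] [hq : Fact q.Prime] (hpq : p ≠ q)
    (hp1 : p ∈ tau1 M) (hqM : q ∈ sigma M) (hqH : PRankLE q 1 ↥H)
    {P Q0 EH S : Subgroup G}
    (hP : Nat.card P = p) (hPM : P ≤ M)
    (hCP : sigmaCore M ⊓ centralizer (P : Set G) ≤ H)
    (hQ0 : IsPGroup q Q0) (hQ01 : Q0 ≠ ⊥) (hQ0M : Q0 ≤ M)
    (hPQ : P ≤ centralizer (Q0 : Set G))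
    (hS : IsPGroup p S) (hS1 : S ≠ ⊥) (hSQ : S ≤ centralizer (Q0 : Set G))
    (hEQ : EH ≤ normalizer (Q0 : Set G)) (hSE : S ≤ ⁅S, EH⁆)
    (hr2 : PRankLE p 2 G) : False := by
  have hF : ∀ M : Subgroup G, IsCoatom M → SigmaFusion M :=
    fun M hM p _ hp X hXp hX1 hXM => (h4 M hM p hp X hXp hX1 hXM).1
  have hQ0top : Q0 ≠ ⊤ := fun h => hM.1 (top_le_iff.mp (h ▸ hQ0M))
  obtain ⟨Ms, hMs, hNMs⟩ : ∃ Ms : Subgroup G, IsCoatom Ms ∧ normalizer (Q0 : Set G) ≤ Ms := by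
    rcases eq_top_or_exists_le_coatom (normalizer (Q0 : Set G)) with h | h
    · exact absurd h (BG10.normalizer_ne_top hG hQ01 hQ0top)
    · exact h
  have hCN : centralizer (Q0 : Set G) ≤ normalizer (Q0 : Set G) :=
    Subgroup.centralizer_le_normalizer _
  have hSMs : S ≤ Ms := (hSQ.trans hCN).trans hNMs
  have hEMs : EH ≤ Ms := hEQ.trans hNMs
  have hPMs : P ≤ Ms := (hPQ.trans hCN).trans hNMs
  have key : ¬ p ∣ Nat.card ↥⁅Ms, Ms⁆ → False :=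
    false_of_le_commutator hS hS1 hSE hSMs hEMs
  by_cases hne : Ms = M
  · apply key
    rw [hne]
    exact hp1.2.2.2.1
  · have hQI : Q0 ≤ M ⊓ Ms := le_inf hQ0M (le_normalizer.trans hNMs)
    have hQ' : IsPGroup q (Q0.subgroupOf (M ⊓ Ms)) := hQ0.comap_subtype
    obtain ⟨S', hS'⟩ := hQ'.exists_le_sylow
    have hQS : Q0 ≤ (S' : Subgroup ↥(M ⊓ Ms)).map (M ⊓ Ms).subtype := by
      intro x hx
      exact ⟨⟨x, hQI hx⟩, hS' (mem_subgroupOf.mpr hx), rfl⟩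
    obtain ⟨hnc, hNS, hSi⟩ := h24 M hM q hqM Q0 hQ0 hQ01 hQ0M Ms hMs hne hNMs S' hQS
    obtain ⟨Sq, hSqdef⟩ : ∃ Sq, Sq = (S' : Subgroup ↥(M ⊓ Ms)).map (M ⊓ Ms).subtype := ⟨_, rfl⟩
    rw [← hSqdef] at hQS hNS hSi
    have hSqI : Sq ≤ M ⊓ Ms := by rw [hSqdef]; exact map_subtype_le _
    have hSqq : IsPGroup q Sq := by rw [hSqdef]; exact S'.2.map _
    by_cases hqMs : q ∈ sigma Ms
    · apply key
      have hpβ : p ∉ beta Ms := by
        intro h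
        exact h.1.2 (BG10.pRankLE_of_injective Ms.subtype Ms.subtype_injective hr2)
      exact not_dvd_card_commutator_of_sigma hG hU hF h14 h14b hM hMs hnc hp1.2.2.2.1 hpβ hqM hqMs
        (hSqI.trans inf_le_left) (hSqI.trans inf_le_right) hSqq hSi hNS
    · rcases tau1_or_centralizer_of_not_sigma hG hU hF h15 h17 h18 hM hMs hne hpq hqMs
          (hSqI.trans inf_le_left) (hSqI.trans inf_le_right) hSqq hSi hQS hQ01 hNMs hP hPM hPMs
        with h | ⟨A, hAD, hAe, hAc, hAP⟩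
      · exact key h.2.2.2.1
      · obtain ⟨hHallM, -, -⟩ := Cfsg.Agent.Lib.Helper62.sigmaCore_hall hG hU hM (hF M hM)
        have hAσ : A ≤ sigmaCore M := le_sigmaCore_of_isPGroup hHallM hqM (hAD.trans inf_le_left)
          (BG10.isPGroup_of_elemAb hAe)
        have hAH : A ≤ H := (le_inf hAσ hAP).trans hCP
        have h1 := BG10.card_le_of_pRankLE hqH hAH hAe
        rw [hAc, pow_one] at h1
        have := hq.out.one_lt
        nlinarith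

/-- the same with `H`-data: `S ≤ H`, `p ∉ α(H)` is NOT enough here; we ask for `r_p(G) ≤ 2`. -/
theorem caseA2_of' (hG : IsMinSimpleOddOrder G) (hU : BG10.UniqStmt G) (h4 : Stmt1404 G)
    (h14 : H14 G) (h14b : H14b G) (h15 : H15 G) (h17 : H17 G) (h18 : H18 G) (h24 : H24 G)
    {M H : Subgroup G} (hM : IsCoatom M)
    {p q : ℕ} [hp : Fact p.Prime] [hq : Fact q.Prime] (hpq : p ≠ q)
    (hp1 : p ∈ tau1 M) (hqM : q ∈ sigma M) (hqH : q ∈ tau3 H)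
    {P Q0 EH S : Subgroup G}
    (hP : Nat.card P = p) (hPM : P ≤ M) (hNP : normalizer (P : Set G) ≤ H)
    (hQ0 : IsPGroup q Q0) (hQ01 : Q0 ≠ ⊥) (hQ0M : Q0 ≤ M)
    (hPQ : P ≤ centralizer (Q0 : Set G))
    (hS : IsPGroup p S) (hS1 : S ≠ ⊥) (hSQ : S ≤ centralizer (Q0 : Set G))
    (hEQ : EH ≤ normalizer (Q0 : Set G)) (hSE : S ≤ ⁅S, EH⁆)
    (hr2 : PRankLE p 2 G) : False :=
  caseA2_of hG hU h4 h14 h14b h15 h17 h18 h24 hM hpq hp1 hqM hqH.2.2.2 hP hPM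
    (inf_le_right.trans ((Subgroup.centralizer_le_normalizer _).trans hNP)) hQ0 hQ01 hQ0M hPQ hS hS1 hSQ hEQ hSE hr2

end Cfsg.Agent.Lib.Helper68.BG134
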