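import Mathlib
import Cfsg.Prelude.Def_OddOrder
import Cfsg.Prelude.Def_OddOrderLocal
import Cfsg.Prelude.Def_Solvable
import Cfsg.Agent.S1364
import Cfsg.Agent.S1365

/-!
# BG157 hive (S1383), leaf L0: `sigmaCore_not_comm`
-/

set_option autoImplicit false

namespace Cfsg.Agent.Lib.Helper91.BG157

open Subgroup Cfsg

universe u

variable {G : Type u} [Group G] [Finite G]

/-- L0.  `M' = U ⊔ M_σ = M_σ` (S1365), so `M_σ` abelian would give `M'' = ⊥`, but `⊥ ≠ K* ≤ M''`
(S1365 second clause, S1364 / S1354). -/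
theorem sigmaCore_not_comm (hG : IsMinSimpleOddOrder G) {M K U : Subgroup G} (hM : IsCoatom M)
    (hKU : IsSigmaDecomposition M K U) (hK1 : K ≠ ⊥) (hU : U = ⊥) :
    ¬ IsMulCommutative ↥(sigmaCore M) := by
  intro hcomm
  obtain ⟨h1, h2⟩ := Cfsg.Agent.S1365.result hG M hM K U hKU hK1
  have h3 := (Cfsg.Agent.S1364.result hG M hM K U hKU hK1).2.1
  apply h3
  rw [eq_bot_iff]
  refine h2.trans ?_
  rw [h1, hU, bot_sup_eq]
  rw [le_bot_iff, commutator_eq_bot_iff_le_centralizer]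
  intro a ha
  rw [mem_centralizer_iff]
  intro b hb
  have := hcomm.is_comm.comm (⟨b, hb⟩ : sigmaCore M) ⟨a, ha⟩
  exact congrArg Subtype.val this

end Cfsg.Agent.Lib.Helper91.BG157
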