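import Cfsg.Agent.Lib.Helper22.CgDefs
import Cfsg.Agent.Lib.Helper64.CgCG6b
import Cfsg.Agent.Lib.Helper34.CgCG6c

/-!
# Cg hive (S4257), leaf CG6 (helper68): class sizes of elements of `Q` divide `|N|`
-/

set_option autoImplicit false

namespace Cfsg.Agent.Lib.Helper22.Cg

open Subgroup

universe u

/-- CG6 core: from the Frattini decomposition (CG6b) and the index bound (CG6c). -/
theorem cg6_core {G : Type u} [Group G] [Finite G] (N : Subgroup G) (Q : Subgroup G)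
    (h6b : ∀ g : G, ∃ c : G, ∃ n ∈ N, (∀ y ∈ Q, c * y = y * c) ∧ g = c * n)
    (h6c : ∀ H : Subgroup G, (∀ g : G, ∃ c ∈ H, ∃ n ∈ N, g = c * n) → H.index ∣ Nat.card N) :
    ∀ y ∈ Q, cs y ∣ Nat.card N := by
  intro y hy
  apply h6c
  intro g
  obtain ⟨c, n, hn, hc, hg⟩ := h6b g
  refine ⟨c, ?_, n, hn, hg⟩
  rw [Subgroup.mem_centralizer_iff]
  intro h hh
  rw [Set.mem_singleton_iff] at hh
  rw [hh]
  exact (hc y hy).symm

/-- CG6. (CG6b + CG6c) class sizes of elements of `Q` divide `|N|`. -/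
theorem cg6 {G : Type u} [Group G] [Finite G] (q : ℕ) [Fact q.Prime] (N : Subgroup G) [N.Normal]
    (hqN : ¬ q ∣ Nat.card N) (Q : Sylow q G)
    (hcen : ∀ y ∈ Q, ∀ g : G, y⁻¹ * g⁻¹ * y * g ∈ N) : ∀ y ∈ Q, cs y ∣ Nat.card N :=
  cg6_core N (Q : Subgroup G) (fun g => cg6b q N hqN Q hcen g) (fun H h => cg6c H N h)

end Cfsg.Agent.Lib.Helper22.Cg
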