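import Mathlib
import Cfsg.Prelude.Def_Transfer
import Cfsg.Agent.Lib.Helper15.CycSylDefs

set_option autoImplicit false

/-!
# S4016 hive, leaf W1: `Local.card_sylow_modEq_one`
-/

namespace Cfsg.Agent.Lib.Helper15.CycSyl

open Subgroup

variable {G : Type*} [Group G] [Finite G] {p : ℕ} [Fact p.Prime]

/-- a `p`-element generates a `p`-group -/
theorem w1_isPGroup_zpowers {u : G} {k : ℕ} (hk : u ^ p ^ k = 1) : IsPGroup p (zpowers u) := by
  apply IsPGroup.of_card (n := (Nat.card (zpowers u)).factorization p)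
  rw [Nat.card_zpowers]
  have hdvd : orderOf u ∣ p ^ k := orderOf_dvd_of_pow_eq_one hk
  obtain ⟨j, _, hj⟩ := (Nat.dvd_prime_pow (Fact.out : p.Prime)).mp hdvd
  rw [hj, (Fact.out : p.Prime).factorization_pow]
  simp

/-- conjugation action of a subgroup of the normalizer -/
@[reducible] def w1_act (R : Subgroup G) (K : Subgroup G) (hK : K ≤ normalizer (R : Set G)) :
    MulAction K R where
  smul g y := ⟨(g : G) * y * (g : G)⁻¹, (mem_normalizer_iff.mp (hK g.2) _).mp y.2⟩
  one_smul y := by
    apply Subtype.ext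
    change ((1 : K) : G) * y * ((1 : K) : G)⁻¹ = y
    simp
  mul_smul a b y := by
    apply Subtype.ext
    change ((a * b : K) : G) * y * ((a * b : K) : G)⁻¹ = (a : G) * ((b : G) * y * (b : G)⁻¹) * (a : G)⁻¹
    simp only [Subgroup.coe_mul]
    group

theorem w1_card_modEq_one_of_fpf (R : Subgroup G) {u : G} (hu : u ∈ normalizer (R : Set G))
    {k : ℕ} (hk : u ^ p ^ k = 1) (hfpf : ∀ y ∈ R, u * y * u⁻¹ = y → y = 1) :
    Nat.card R ≡ 1 [MOD p] := by
  have hK : zpowers u ≤ normalizer (R : Set G) := (zpowers_le).mpr hu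
  letI := w1_act R (zpowers u) hK
  have h1 := (w1_isPGroup_zpowers (p := p) hk).card_modEq_card_fixedPoints R
  have h2 : MulAction.fixedPoints (zpowers u) R = {1} := by
    ext y
    simp only [MulAction.mem_fixedPoints, Set.mem_singleton_iff]
    constructor
    · intro hy
      have := hy ⟨u, mem_zpowers u⟩
      have h3 : u * (y : G) * u⁻¹ = y := congrArg Subtype.val this
      exact Subtype.ext (hfpf y y.2 h3)
    · rintro rfl g
      apply Subtype.ext
      change (g : G) * ((1 : R) : G) * (g : G)⁻¹ = ((1 : R) : G)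
      simp
  rw [h2] at h1
  simpa using h1

/-- [W1] If `C(P)` has no nontrivial `p'`-elements, every Sylow `r`-subgroup (`r ≠ p`) has order
`≡ 1 mod p`. -/
theorem Local.card_sylow_modEq_one (h : Local p G)
    (hT : ∀ P : Sylow p G, ∀ x ∈ centralizer ((P : Subgroup G) : Set G),
      (orderOf x).Coprime p → x = 1)
    (r : ℕ) (hr : r.Prime) (hrp : r ≠ p) (R : Sylow r G) :
    Nat.card (R : Subgroup G) ≡ 1 [MOD p] := by
  by_cases hR : (R : Subgroup G) = ⊥
  · rw [hR]; simp [Nat.ModEq]
  obtain ⟨u, huN, huC, k, hk⟩ := h.burn r hr hrp R hR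
  have hu1 : u ≠ 1 := by
    rintro rfl
    exact huC (one_mem _)
  obtain ⟨P', hP'⟩ := (w1_isPGroup_zpowers (p := p) hk).exists_le_sylow
  have huP : u ∈ (P' : Subgroup G) := hP' (mem_zpowers u)
  apply w1_card_modEq_one_of_fpf (R : Subgroup G) huN hk
  intro y hy hfix
  have hcomm : Commute y u := by
    have : u * y = y * u := by
      have := congrArg (· * u) hfix
      simpa [mul_assoc] using this
    exact this.symm
  have hyo : (orderOf y).Coprime p := by
    haveI : Fact r.Prime := ⟨hr⟩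
    obtain ⟨j, hj⟩ := (IsPGroup.iff_orderOf.mp R.2) ⟨y, hy⟩
    rw [Subgroup.orderOf_mk] at hj
    rw [hj]
    apply Nat.Coprime.pow_left
    exact (Nat.coprime_primes hr (Fact.out : p.Prime)).mpr hrp
  exact hT P' y (h.f1 P' u huP hu1 y hcomm hyo) hyo

end Cfsg.Agent.Lib.Helper15.CycSyl
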