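import Mathlib
import Cfsg.Prelude.Def_GeometricClasses
import Cfsg.Agent.Lib.Helper81.EsDefs

/-!
# Es hive (S5877), leaves ES-N1, ES-N2, ES-N3
-/

set_option autoImplicit false
set_option linter.style.haveILetI false
set_option linter.unusedVariables false
set_option linter.unusedSectionVars false

namespace Cfsg.Agent.Lib.Helper81.Es

open scoped MatrixGroups

variable {F : Type*} [Field F] {n : ℕ}

/-- scalar matrices are central in `GL` -/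
theorem n1_isSc_comm {z : GL (Fin n) F} (hz : IsSc z) (a : GL (Fin n) F) : z * a = a * z := by
  obtain ⟨c, hc⟩ := hz
  apply Units.ext
  rw [Units.val_mul, Units.val_mul, hc, Matrix.smul_mul, Matrix.one_mul, Matrix.mul_smul,
    Matrix.mul_one]

/-- ES-N1 -/
theorem mem_NN_iff (R : Subgroup (GL (Fin n) F)) (h : GL (Fin n) F) :
    h ∈ NN R ↔ ∃ ρ ∈ R, ∃ z : GL (Fin n) F, IsSc z ∧ h = ρ * z := by
  unfold NN
  rw [← SetLike.mem_coe, Subgroup.mul_normal, Set.mem_mul]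
  constructor
  · rintro ⟨ρ, hρ, z, hz, rfl⟩
    exact ⟨ρ, hρ, z, (isSc_iff_mem_scalars z).mpr hz, rfl⟩
  · rintro ⟨ρ, hρ, z, hz, rfl⟩
    exact ⟨ρ, hρ, z, (isSc_iff_mem_scalars z).mp hz, rfl⟩

/-- `cm (ρ z) (ρ' z') = cm ρ ρ'` for scalar `z`, `z'` -/
theorem n2_cm_mul_sc {ρ ρ' z z' : GL (Fin n) F} (hz : IsSc z) (hz' : IsSc z') :
    cm (ρ * z) (ρ' * z') = cm ρ ρ' := by
  unfold cm
  have h1 : ∀ a, z * a = a * z := n1_isSc_comm hz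
  have h2 : ∀ a, z' * a = a * z' := n1_isSc_comm hz'
  have h1i : ∀ a, z⁻¹ * a = a * z⁻¹ := fun a => by
    have := h1 (z⁻¹ * a * z⁻¹)
    calc z⁻¹ * a = z⁻¹ * a * (z⁻¹ * z) := by group
      _ = z⁻¹ * a * z⁻¹ * z := by group
      _ = z * (z⁻¹ * a * z⁻¹) := by rw [this]
      _ = a * z⁻¹ := by group
  have h2i : ∀ a, z'⁻¹ * a = a * z'⁻¹ := fun a => by
    have := h2 (z'⁻¹ * a * z'⁻¹)
    calc z'⁻¹ * a = z'⁻¹ * a * (z'⁻¹ * z') := by group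
      _ = z'⁻¹ * a * z'⁻¹ * z' := by group
      _ = z' * (z'⁻¹ * a * z'⁻¹) := by rw [this]
      _ = a * z'⁻¹ := by group
  calc ρ * z * (ρ' * z') * (ρ * z)⁻¹ * (ρ' * z')⁻¹
      = ρ * (z * ρ') * z' * (z⁻¹ * ρ⁻¹) * (z'⁻¹ * ρ'⁻¹) := by group
    _ = ρ * (ρ' * z) * z' * (ρ⁻¹ * z⁻¹) * (ρ'⁻¹ * z'⁻¹) := by rw [h1 ρ', h1i ρ⁻¹, h2i ρ'⁻¹]
    _ = ρ * ρ' * (z * (z' * ρ⁻¹)) * z⁻¹ * ρ'⁻¹ * z'⁻¹ := by group
    _ = ρ * ρ' * ((z' * ρ⁻¹) * z) * z⁻¹ * ρ'⁻¹ * z'⁻¹ := by rw [h1 (z' * ρ⁻¹)]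
    _ = ρ * ρ' * (z' * (ρ⁻¹ * ρ'⁻¹)) * z'⁻¹ := by group
    _ = ρ * ρ' * ((ρ⁻¹ * ρ'⁻¹) * z') * z'⁻¹ := by rw [h2 (ρ⁻¹ * ρ'⁻¹)]
    _ = ρ * ρ' * ρ⁻¹ * ρ'⁻¹ := by group

/-- ES-N2 : commutators of elements of `R Z` are scalars of order dividing `r` -/
theorem comm_NN {r : ℕ} {R : Subgroup (GL (Fin n) F)} (hS : Setup r R) :
    ∀ x ∈ NN R, ∀ y ∈ NN R, ∃ ζ : F, ζ ^ r = 1 ∧
      ((cm x y : GL (Fin n) F) : Matrix (Fin n) (Fin n) F) = ζ • 1 := by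
  intro x hx y hy
  obtain ⟨ρ, hρ, z, hz, rfl⟩ := (mem_NN_iff R x).mp hx
  obtain ⟨ρ', hρ', z', hz', rfl⟩ := (mem_NN_iff R y).mp hy
  rw [n2_cm_mul_sc hz hz']
  exact hS.comm ρ hρ ρ' hρ'

/-- ES-N3 : an invertible matrix commuting with `R` is scalar -/
theorem isSc_of_commute {r : ℕ} {R : Subgroup (GL (Fin n) F)} (hS : Setup r R) (h : GL (Fin n) F)
    (hc : ∀ x ∈ R, h * x = x * h) : IsSc h := by
  obtain ⟨c, hc'⟩ := hS.schur (h : Matrix (Fin n) (Fin n) F) (fun x hx => by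
    have := congrArg (fun u : GL (Fin n) F => (u : Matrix (Fin n) (Fin n) F)) (hc x hx)
    simpa [Units.val_mul] using this)
  exact ⟨c, hc'⟩

end Cfsg.Agent.Lib.Helper81.Es
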