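import Mathlib
import Cfsg.Agent.Lib.Helper86.AutChain
import Cfsg.Agent.Lib.Helper87.SL2Trick

set_option autoImplicit false
set_option linter.unusedSectionVars false
set_option linter.unusedVariables false

/-!
# Chain stabilisers and transvection-like automorphisms of abelian `p`-groups
-/

namespace Cfsg.Agent.Lib.Helper68.Transv

open Cfsg.Agent.Lib.Helper86 Cfsg.Agent.Lib.Helper87

variable {H : Type*} [Group H]

/-- `h` stabilises the chain `⊤ ≥ C₁ ≥ C₂ ≥ ⊥`. -/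
def Pred3 (C₁ C₂ : Subgroup H) (h : MulAut H) : Prop :=
  (∀ x, x⁻¹ * h x ∈ C₁) ∧ (∀ x ∈ C₁, x⁻¹ * h x ∈ C₂) ∧ (∀ x ∈ C₂, h x = x)

theorem pred3_one (C₁ C₂ : Subgroup H) : Pred3 C₁ C₂ (1 : MulAut H) := by
  refine ⟨fun x => ?_, fun x _ => ?_, fun x _ => rfl⟩
  · simp
  · simp

theorem pred3_mul {C₁ C₂ : Subgroup H} (hC : C₂ ≤ C₁) {h h' : MulAut H}
    (hh : Pred3 C₁ C₂ h) (hh' : Pred3 C₁ C₂ h') : Pred3 C₁ C₂ (h * h') := by
  obtain ⟨a1, a2, a3⟩ := hh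
  obtain ⟨b1, b2, b3⟩ := hh'
  refine ⟨fun x => ?_, fun x hx => ?_, fun x hx => ?_⟩
  · -- h' x = x * a, a ∈ C₁
    have ha := b1 x
    have e : x⁻¹ * (h * h') x = (x⁻¹ * h x) * (x⁻¹ * h' x) *
        ((x⁻¹ * h' x)⁻¹ * h (x⁻¹ * h' x)) := by
      rw [MulAut.mul_apply]
      have : h (x⁻¹ * h' x) = (h x)⁻¹ * h (h' x) := by rw [map_mul, map_inv]
      rw [this]; group
    rw [e]
    exact C₁.mul_mem (C₁.mul_mem (a1 x) ha) (hC (a2 _ ha))
  · have ha := b2 x hx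
    have e : x⁻¹ * (h * h') x = (x⁻¹ * h x) * (x⁻¹ * h' x) := by
      rw [MulAut.mul_apply]
      have h3 : h (x⁻¹ * h' x) = x⁻¹ * h' x := a3 _ ha
      have : h (x⁻¹ * h' x) = (h x)⁻¹ * h (h' x) := by rw [map_mul, map_inv]
      rw [this] at h3
      have : h (h' x) = h x * (x⁻¹ * h' x) := by rw [← h3]; group
      rw [this]; group
    rw [e]
    exact C₂.mul_mem (a2 x hx) ha
  · rw [MulAut.mul_apply, b3 x hx, a3 x hx]

theorem pred3_pow {C₁ C₂ : Subgroup H} (hC : C₂ ≤ C₁) {h : MulAut H}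
    (hh : Pred3 C₁ C₂ h) (n : ℕ) : Pred3 C₁ C₂ (h ^ n) := by
  induction n with
  | zero => rw [pow_zero]; exact pred3_one _ _
  | succ n ih => rw [pow_succ]; exact pred3_mul hC ih hh

theorem pred3_inv [Finite H] {C₁ C₂ : Subgroup H} (hC : C₂ ≤ C₁) {h : MulAut H}
    (hh : Pred3 C₁ C₂ h) : Pred3 C₁ C₂ h⁻¹ := by
  haveI : Finite (MulAut H) := Finite.of_injective (fun α : MulAut H => (α : H → H))
    (fun α β hab => by ext x; exact congrFun hab x)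
  have hpos : 0 < orderOf h := orderOf_pos h
  have e : h⁻¹ = h ^ (orderOf h - 1) := by
    symm
    apply eq_inv_of_mul_eq_one_left
    rw [← pow_succ, Nat.sub_add_cancel hpos, pow_orderOf_eq_one]
  rw [e]
  exact pred3_pow hC hh _

/-- A subgroup of automorphisms stabilising a chain is a `p`-group. -/
theorem pred3_isPGroup [Finite H] {p : ℕ} [hp : Fact p.Prime] (hH : IsPGroup p H)
    {C₁ C₂ : Subgroup H} (hC : C₂ ≤ C₁) (K : Subgroup (MulAut H))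
    (hK : ∀ h ∈ K, Pred3 C₁ C₂ h) : IsPGroup p K := by
  haveI : Finite (MulAut H) := Finite.of_injective (fun α : MulAut H => (α : H → H))
    (fun α β hab => by ext x; exact congrFun hab x)
  rintro ⟨h, hh⟩
  obtain ⟨a, m, hm, hn⟩ := Nat.exists_eq_pow_mul_and_not_dvd (orderOf_pos h).ne' p
    hp.out.ne_one
  refine ⟨a, ?_⟩
  apply Subtype.ext
  show h ^ (p ^ a) = 1
  have hP := pred3_pow hC (hK h hh) (p ^ a)
  have hcop : m.Coprime p := (Nat.Prime.coprime_iff_not_dvd hp.out).mpr hm |>.symm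
  have hpow : (h ^ (p ^ a)) ^ m = 1 := by
    rw [← pow_mul, ← hn, pow_orderOf_eq_one]
  refine aut_eq_one_of_chain_stab hH (h ^ (p ^ a)) m hcop hpow 3
    (fun i => match i with | 0 => ⊤ | 1 => C₁ | 2 => C₂ | _ => ⊥) rfl rfl ?_
  intro i hi x hx
  obtain ⟨p1, p2, p3⟩ := hP
  interval_cases i
  · exact p1 x
  · exact p2 x hx
  · show x⁻¹ * (h ^ (p ^ a)) x ∈ (⊥ : Subgroup H)
    rw [p3 x hx]; simp

/-- Sylow-type maximality: an automorphism stabilising the same chain as a maximal `p`-subgroup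
`T` of `A` lies in `T`. -/
theorem mem_of_pred3 [Finite H] {p : ℕ} [hp : Fact p.Prime] (hH : IsPGroup p H)
    {C₁ C₂ : Subgroup H} (hC : C₂ ≤ C₁) {A T : Subgroup (MulAut H)} (hTA : T ≤ A)
    (hmax : ∀ K : Subgroup (MulAut H), K ≤ A → IsPGroup p K → T ≤ K → K ≤ T)
    (hT : ∀ c ∈ T, Pred3 C₁ C₂ c) {x : MulAut H} (hxA : x ∈ A) (hx : Pred3 C₁ C₂ x) :
    x ∈ T := by
  set K : Subgroup (MulAut H) := Subgroup.closure ((T : Set (MulAut H)) ∪ {x}) with hKdef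
  have hKA : K ≤ A := by
    rw [hKdef, Subgroup.closure_le]
    rintro y (hy | hy)
    · exact hTA hy
    · rw [Set.mem_singleton_iff.mp hy]; exact hxA
  have hKP : ∀ h ∈ K, Pred3 C₁ C₂ h := by
    intro h hh
    refine Subgroup.closure_induction (p := fun h _ => Pred3 C₁ C₂ h) ?_ (pred3_one _ _)
      (fun a b _ _ ha hb => pred3_mul hC ha hb) (fun a _ ha => pred3_inv hC ha) hh
    rintro y (hy | hy)
    · exact hT y hy
    · rw [Set.mem_singleton_iff.mp hy]; exact hx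
  have hTK : T ≤ K := fun y hy => Subgroup.subset_closure (Or.inl hy)
  exact hmax K hKA (pred3_isPGroup hH hC K hKP) hTK
    (Subgroup.subset_closure (Or.inr rfl))

/-- conjugation preserves `Pred3 Y Y` when `Y` is invariant. -/
theorem pred3_conj {Y : Subgroup H} {a φ : MulAut H} (ha : ∀ y ∈ Y, a y ∈ Y)
    (ha' : ∀ y ∈ Y, a⁻¹ y ∈ Y) (hφ : Pred3 Y Y φ) : Pred3 Y Y (a * φ * a⁻¹) := by
  obtain ⟨p1, -, p3⟩ := hφ
  have h3 : ∀ x ∈ Y, (a * φ * a⁻¹) x = x := by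
    intro x hx
    rw [MulAut.mul_apply, MulAut.mul_apply, p3 _ (ha' x hx), MulAut.apply_inv_self]
  refine ⟨fun x => ?_, fun x hx => ?_, h3⟩
  · have e : x⁻¹ * (a * φ * a⁻¹) x = a ((a⁻¹ x)⁻¹ * φ (a⁻¹ x)) := by
      rw [MulAut.mul_apply, MulAut.mul_apply, map_mul, map_inv, MulAut.apply_inv_self]
    rw [e]
    exact ha _ (p1 _)
  · rw [h3 x hx]; simp

/-- If `g` maps the finite subgroup `D` into itself then so does `g⁻¹`. -/
theorem inv_maps_of_maps [Finite H] {D : Subgroup H} {g : MulAut H} (h : ∀ d ∈ D, g d ∈ D) :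
    ∀ d ∈ D, g⁻¹ d ∈ D := by
  have hle : D.map g.toMonoidHom ≤ D := by
    rintro _ ⟨d, hd, rfl⟩
    exact h d hd
  have heq : D.map g.toMonoidHom = D := by
    apply Subgroup.eq_of_le_of_card_ge hle
    rw [Subgroup.card_map_of_injective g.injective]
  intro d hd
  rw [← heq] at hd
  obtain ⟨d', hd', rfl⟩ := hd
  show g⁻¹ (g d') ∈ D
  rw [MulAut.inv_apply_self]
  exact hd'


/-! ### The transvection context -/

section ctx

variable [Finite H] {p : ℕ} [hp : Fact p.Prime]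

/-- prime-order subgroups: a nontrivial element generates. -/
theorem maps_of_maps_gen {D D' : Subgroup H} (hD : Nat.card D = p) {g : H →* H} {x : H}
    (hx : x ∈ D) (hx1 : x ≠ 1) (hgx : g x ∈ D') : ∀ d ∈ D, g d ∈ D' := by
  intro d hd
  obtain ⟨m, rfl⟩ := exists_pow_eq_of_prime_card D hD hx hx1 hd
  rw [map_pow]
  exact D'.pow_mem hgx m

/-- If `g` does not preserve `D` (of prime order) then `D ⊓ g(D) = ⊥`. -/
theorem inf_map_eq_bot {D : Subgroup H} (hD : Nat.card D = p) {g : MulAut H}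
    (hgD : ∃ d ∈ D, g d ∉ D) : D ⊓ D.map g.toMonoidHom = ⊥ := by
  rw [eq_bot_iff]
  rintro x ⟨hxD, d', hd', rfl⟩
  rw [Subgroup.mem_bot]
  by_contra hne
  have hd'1 : d' ≠ 1 := by
    rintro rfl
    exact hne (map_one _)
  obtain ⟨d, hd, hgd⟩ := hgD
  exact hgd (maps_of_maps_gen (g := g.toMonoidHom) hD hd' hd'1 hxD d hd)

theorem not_maps_inv {D : Subgroup H} {g : MulAut H} (hgD : ∃ d ∈ D, g d ∉ D) :
    ∃ d ∈ D, g⁻¹ d ∉ D := by
  by_contra hcon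
  push Not at hcon
  have := inv_maps_of_maps (g := g⁻¹) hcon
  obtain ⟨d, hd, hgd⟩ := hgD
  rw [inv_inv] at this
  exact hgd (this d hd)

variable (hH : IsPGroup p H) (hc : ∀ a b : H, a * b = b * a)
  {A T : Subgroup (MulAut H)} (hTA : T ≤ A)
  (hmax : ∀ K : Subgroup (MulAut H), K ≤ A → IsPGroup p K → T ≤ K → K ≤ T)
  {D Z : Subgroup H} (hD : Nat.card D = p) (hDZ : D ≤ Z)
  (t1 : ∀ c ∈ T, ∀ y, c y * y⁻¹ ∈ D)
  (t2 : ∀ c ∈ T, ∀ x ∈ Z, c x = x)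
  (t3 : ∀ x, (∀ c ∈ T, c x = x) → x ∈ Z)
  (t4 : T ≠ ⊥)

include hc t1 in
theorem t1' : ∀ c ∈ T, ∀ y, y⁻¹ * c y ∈ D := by
  intro c hcT y
  rw [hc]
  exact t1 c hcT y

include hH hc hTA hmax hD hDZ t1 t2 in
/-- If `g ∈ A` preserves `D` then it normalises `T`. -/
theorem conj_mem_of_maps {g : MulAut H} (hg : g ∈ A) (hgD : ∀ d ∈ D, g d ∈ D) :
    ∀ c ∈ T, g * c * g⁻¹ ∈ T := by
  intro c hcT
  have hgD' := inv_maps_of_maps hgD
  have hTP : ∀ c ∈ T, Pred3 D D c := by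
    intro c hcT
    refine ⟨t1' hc t1 c hcT, fun x _ => t1' hc t1 c hcT x, fun x hx => t2 c hcT x (hDZ hx)⟩
  exact mem_of_pred3 hH le_rfl hTA hmax hTP
    (A.mul_mem (A.mul_mem hg (hTA hcT)) (A.inv_mem hg)) (pred3_conj hgD hgD' (hTP c hcT))

include hH hc hTA hmax hD hDZ t1 t2 t3 t4 in
/-- If `g ∈ A` does not preserve `D`, some element of `T` moves `g(D)`. -/
theorem exists_moves {g : MulAut H} (hg : g ∈ A) (hgD : ∃ d ∈ D, g d ∉ D) :
    ∃ t ∈ T, ∃ d ∈ D, t (g d) ≠ g d := by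
  by_contra hcon
  push Not at hcon
  apply t4
  set E : Subgroup H := D.map g.toMonoidHom with hE
  have hEZ : E ≤ Z := by
    rintro _ ⟨d, hd, rfl⟩
    exact t3 _ (fun c hcT => hcon c hcT d hd)
  have hC : E ≤ E ⊔ D := le_sup_left
  have hTP : ∀ c ∈ T, Pred3 (E ⊔ D) E c := by
    intro c hcT
    refine ⟨fun x => ?_, fun x hx => ?_, fun x hx => ?_⟩
    · exact (le_sup_right : D ≤ E ⊔ D) (t1' hc t1 c hcT x)
    · have hxZ : x ∈ Z := (sup_le hEZ hDZ) hx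
      rw [t2 c hcT x hxZ]; simp
    · exact t2 c hcT x (hEZ hx)
  have hmemE : ∀ c ∈ T, ∀ x, x⁻¹ * (g * c * g⁻¹) x ∈ E := by
    intro c hcT x
    have e : x⁻¹ * (g * c * g⁻¹) x = g ((g⁻¹ x)⁻¹ * c (g⁻¹ x)) := by
      rw [MulAut.mul_apply, MulAut.mul_apply, map_mul, map_inv, MulAut.apply_inv_self]
    rw [e]
    exact ⟨_, t1' hc t1 c hcT _, rfl⟩
  have hconjP : ∀ c ∈ T, Pred3 (E ⊔ D) E (g * c * g⁻¹) := by
    intro c hcT
    refine ⟨fun x => hC (hmemE c hcT x), fun x _ => hmemE c hcT x, ?_⟩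
    rintro _ ⟨d, hd, rfl⟩
    show (g * c * g⁻¹) (g d) = g d
    rw [MulAut.mul_apply, MulAut.mul_apply, MulAut.inv_apply_self, t2 c hcT d (hDZ hd)]
  have hbot := inf_map_eq_bot hD hgD
  rw [eq_bot_iff]
  intro c hcT
  rw [Subgroup.mem_bot]
  have hmem : g * c * g⁻¹ ∈ T := mem_of_pred3 hH hC hTA hmax hTP
    (A.mul_mem (A.mul_mem hg (hTA hcT)) (A.inv_mem hg)) (hconjP c hcT)
  have h1 : g * c * g⁻¹ = 1 := by
    ext x
    have h2 : x⁻¹ * (g * c * g⁻¹) x ∈ D ⊓ E := ⟨t1' hc t1 _ hmem x, hmemE c hcT x⟩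
    rw [hbot, Subgroup.mem_bot] at h2
    show (g * c * g⁻¹) x = x
    exact (inv_mul_eq_one.mp h2).symm
  have : c = g⁻¹ * (g * c * g⁻¹) * g := by group
  rw [this, h1]; group

include hH hc hTA hmax hD hDZ t1 t2 in
/-- An element of `T` fixing a nontrivial element of `g(D)` is trivial. -/
theorem eq_one_of_fixes {g : MulAut H} (hg : g ∈ A) (hgD : ∃ d ∈ D, g d ∉ D)
    {d : H} (hd : d ∈ D) (hd1 : d ≠ 1) {c : MulAut H} (hcT : c ∈ T) (hfix : c (g d) = g d) :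
    c = 1 := by
  have hgD' := not_maps_inv hgD
  set E' : Subgroup H := D.map (g⁻¹).toMonoidHom with hE'
  have hbot := inf_map_eq_bot hD hgD'
  -- c fixes g(D) pointwise
  have hfixE : ∀ d' ∈ D, c (g d') = g d' := by
    intro d' hd'
    obtain ⟨m, rfl⟩ := exists_pow_eq_of_prime_card D hD hd hd1 hd'
    rw [map_pow, map_pow, hfix]
  set c' : MulAut H := g⁻¹ * c * g with hc'
  have hc'A : c' ∈ A := A.mul_mem (A.mul_mem (A.inv_mem hg) (hTA hcT)) hg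
  have hc'app : ∀ x, c' x = g⁻¹ (c (g x)) := fun x => by
    rw [hc', MulAut.mul_apply, MulAut.mul_apply]
  have hmemE : ∀ x, x⁻¹ * c' x ∈ E' := by
    intro x
    have e : x⁻¹ * c' x = g⁻¹ ((g x)⁻¹ * c (g x)) := by
      rw [hc'app, map_mul, map_inv, MulAut.inv_apply_self]
    rw [e]
    exact ⟨_, t1' hc t1 c hcT _, rfl⟩
  have hfixD : ∀ x ∈ D, c' x = x := by
    intro x hx
    rw [hc'app, hfixE x hx, MulAut.inv_apply_self]
  have hfixE' : ∀ x ∈ E', c' x = x := by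
    rintro _ ⟨d', hd', rfl⟩
    show c' (g⁻¹ d') = g⁻¹ d'
    rw [hc'app, MulAut.apply_inv_self, t2 c hcT d' (hDZ hd')]
  have hfixsup : ∀ x ∈ D ⊔ E', c' x = x := by
    have hle : D ⊔ E' ≤ MonoidHom.eqLocus c'.toMonoidHom (MonoidHom.id H) :=
      sup_le (fun x hx => hfixD x hx) (fun x hx => hfixE' x hx)
    exact fun x hx => hle hx
  have hC : D ≤ D ⊔ E' := le_sup_left
  have hTP : ∀ c ∈ T, Pred3 (D ⊔ E') D c := by
    intro c hcT
    exact ⟨fun x => hC (t1' hc t1 c hcT x), fun x _ => t1' hc t1 c hcT x,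
      fun x hx => t2 c hcT x (hDZ hx)⟩
  have hc'P : Pred3 (D ⊔ E') D c' := by
    refine ⟨fun x => (le_sup_right : E' ≤ D ⊔ E') (hmemE x), fun x hx => ?_, hfixD⟩
    rw [hfixsup x hx]; simp
  have hmem : c' ∈ T := mem_of_pred3 hH hC hTA hmax hTP hc'A hc'P
  have h1 : c' = 1 := by
    ext x
    have h2 : x⁻¹ * c' x ∈ D ⊓ E' := ⟨t1' hc t1 _ hmem x, hmemE x⟩
    rw [hbot, Subgroup.mem_bot] at h2
    show c' x = x
    exact (inv_mul_eq_one.mp h2).symm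
  have : c = g * c' * g⁻¹ := by rw [hc']; group
  rw [this, h1]; group

include hH hc hTA hmax hD hDZ t1 t2 in
/-- `T` is generated by any element moving `g(D)`. -/
theorem exists_pow_of_moves {g : MulAut H} (hg : g ∈ A) (hgD : ∃ d ∈ D, g d ∉ D)
    {t : MulAut H} (ht : t ∈ T) {d : H} (hd : d ∈ D) (hmove : t (g d) ≠ g d) :
    ∀ c ∈ T, ∃ k : ℕ, c = t ^ k := by
  intro c hcT
  have hd1 : d ≠ 1 := by
    rintro rfl
    apply hmove
    rw [map_one, map_one]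
  set e : H := g d with he
  obtain ⟨f₁, hf₁⟩ : ∃ f₁, f₁ = t e * e⁻¹ := ⟨_, rfl⟩
  have hf₁D : f₁ ∈ D := hf₁ ▸ t1 t ht e
  have hf₁1 : f₁ ≠ 1 := by
    intro h
    rw [hf₁] at h
    exact hmove (mul_inv_eq_one.mp h)
  have hte : t e = e * f₁ := by rw [hf₁, hc e]; group
  have htf : t f₁ = f₁ := t2 t ht f₁ (hDZ hf₁D)
  obtain ⟨k, hk⟩ := exists_pow_eq_of_prime_card D hD hf₁D hf₁1 (t1 c hcT e)
  have hce : c e = e * f₁ ^ k := by rw [hk, hc e]; group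
  have htk : (t ^ k) e = e * f₁ ^ k := aut_pow_apply_mul t hte htf k
  refine ⟨k, ?_⟩
  have hmem : (t ^ k)⁻¹ * c ∈ T := T.mul_mem (T.inv_mem (T.pow_mem ht k)) hcT
  have hfix : ((t ^ k)⁻¹ * c) (g d) = g d := by
    rw [MulAut.mul_apply]
    show (t ^ k)⁻¹ (c e) = e
    rw [hce, ← htk, MulAut.inv_apply_self]
  have h1 := eq_one_of_fixes hH hc hTA hmax hD hDZ t1 t2 hg hgD hd hd1 hmem hfix
  calc c = (t ^ k) * ((t ^ k)⁻¹ * c) := by group
    _ = t ^ k := by rw [h1, mul_one]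

include hH hc hTA hmax hD hDZ t1 t2 t3 t4 in
/-- **Main lemma**: from an element `g ∈ A` not preserving `D` we get an automorphism `τ ∈ A`
commuting with `T`, inverting `D` and fixing a complement `W` of `D` in `Z`, where `W` is also
fixed by all `g c g⁻¹`, `c ∈ T`. -/
theorem transv_main {g : MulAut H} (hg : g ∈ A) (hgD : ∃ d ∈ D, g d ∉ D) :
    ∃ τ ∈ A, ∃ W : Subgroup H, W ≤ Z ∧ W ⊓ D = ⊥ ∧
      (∀ x ∈ Z, ∃ w ∈ W, ∃ f ∈ D, x = w * f) ∧ (∀ w ∈ W, τ w = w) ∧ (∀ d ∈ D, τ d = d⁻¹) ∧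
      (∀ c ∈ T, τ * c = c * τ) ∧ (∀ c ∈ T, ∀ w ∈ W, (g * c * g⁻¹) w = w) := by
  have hgD' := not_maps_inv hgD
  have hginv : g⁻¹ ∈ A := A.inv_mem hg
  obtain ⟨t₁, ht₁, d₁, hd₁, hmove₁⟩ :=
    exists_moves hH hc hTA hmax hD hDZ t1 t2 t3 t4 hg hgD
  obtain ⟨t₂, ht₂, d₂, hd₂, hmove₂⟩ :=
    exists_moves hH hc hTA hmax hD hDZ t1 t2 t3 t4 hginv hgD'
  have hpow₁ := exists_pow_of_moves hH hc hTA hmax hD hDZ t1 t2 hg hgD ht₁ hd₁ hmove₁
  have hpow₂ := exists_pow_of_moves hH hc hTA hmax hD hDZ t1 t2 hginv hgD' ht₂ hd₂ hmove₂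
  set E : Subgroup H := D.map g.toMonoidHom with hE
  have hEcard : Nat.card E = p := by
    rw [hE, Subgroup.card_map_of_injective g.injective, hD]
  set t' : MulAut H := g * t₂ * g⁻¹ with ht'
  have ht'A : t' ∈ A := A.mul_mem (A.mul_mem hg (hTA ht₂)) hginv
  have ht'app : ∀ x, t' x = g (t₂ (g⁻¹ x)) := fun x => by
    rw [ht', MulAut.mul_apply, MulAut.mul_apply]
  have h1 : ∀ y, t₁ y * y⁻¹ ∈ D := t1 t₁ ht₁
  have h2 : ∀ y, t' y * y⁻¹ ∈ E := by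
    intro y
    have e : t' y * y⁻¹ = g (t₂ (g⁻¹ y) * (g⁻¹ y)⁻¹) := by
      rw [ht'app, map_mul, map_inv, MulAut.apply_inv_self]
    rw [e]
    exact ⟨_, t1 t₂ ht₂ _, rfl⟩
  have h3 : ∀ y ∈ D, t₁ y = y := fun y hy => t2 t₁ ht₁ y (hDZ hy)
  have h4 : ∀ y ∈ E, t' y = y := by
    rintro _ ⟨d, hd, rfl⟩
    show t' (g d) = g d
    rw [ht'app, MulAut.inv_apply_self, t2 t₂ ht₂ d (hDZ hd)]
  have h5 : ∃ e ∈ E, t₁ e ≠ e := ⟨g d₁, ⟨d₁, hd₁, rfl⟩, hmove₁⟩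
  have h6 : ∃ f ∈ D, t' f ≠ f := by
    refine ⟨d₂, hd₂, ?_⟩
    rw [ht'app]
    intro h
    apply hmove₂
    apply g.injective
    rw [h, MulAut.apply_inv_self]
  obtain ⟨τ, hτcl, hτa, hτb, hτc, hτe⟩ := sl2_trick hc hD hEcard h1 h2 h3 h4 h5 h6
  have hτA : τ ∈ A := by
    have hle : Subgroup.closure ({t₁, t'} : Set (MulAut H)) ≤ A := by
      rw [Subgroup.closure_le]
      rintro y (hy | hy)
      · rw [hy]; exact hTA ht₁
      · rw [Set.mem_singleton_iff.mp hy]; exact ht'A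
    exact hle hτcl
  set W : Subgroup H := MonoidHom.eqLocus t₁.toMonoidHom (MonoidHom.id H) ⊓
    MonoidHom.eqLocus t'.toMonoidHom (MonoidHom.id H) with hW
  have hWmem : ∀ w, w ∈ W ↔ t₁ w = w ∧ t' w = w := fun w => Iff.rfl
  refine ⟨τ, hτA, W, ?_, ?_, ?_, ?_, hτb, ?_, ?_⟩
  · intro w hw
    apply t3
    intro c hcT
    obtain ⟨k, rfl⟩ := hpow₁ c hcT
    exact aut_pow_apply_fixed t₁ ((hWmem w).mp hw).1 k
  · rw [eq_bot_iff]
    rintro x ⟨hxW, hxD⟩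
    rw [Subgroup.mem_bot]
    by_contra hx1
    obtain ⟨f, hf, hne⟩ := h6
    obtain ⟨m, rfl⟩ := exists_pow_eq_of_prime_card D hD hxD hx1 hf
    apply hne
    rw [map_pow, ((hWmem x).mp hxW).2]
  · intro x hx
    obtain ⟨w, f, hw1, hw2, hf, rfl⟩ := hτc x (t2 t₁ ht₁ x hx)
    exact ⟨w, (hWmem w).mpr ⟨hw1, hw2⟩, f, hf, rfl⟩
  · intro w hw
    exact hτa w ((hWmem w).mp hw).1 ((hWmem w).mp hw).2
  · intro c hcT
    obtain ⟨k, rfl⟩ := hpow₁ c hcT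
    apply hτe
    · exact t1 _ (T.pow_mem ht₁ k)
    · intro z hz
      exact aut_pow_apply_fixed t₁ hz k
  · intro c hcT w hw
    obtain ⟨k, rfl⟩ := hpow₂ c hcT
    have e : g * t₂ ^ k * g⁻¹ = t' ^ k := by
      rw [ht', conj_pow]
    rw [e]
    exact aut_pow_apply_fixed t' ((hWmem w).mp hw).2 k

end ctx

end Cfsg.Agent.Lib.Helper68.Transv
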