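import Mathlib
import Cfsg.Agent.Lib.Helper68.Transv
import Cfsg.Agent.Lib.Helper87.AGNormal
import Cfsg.Agent.Lib.Helper87.ExtendAut
import Cfsg.Agent.Lib.Helper87.EssentialTI
import Cfsg.Agent.Lib.Helper87.HypAct
import Cfsg.Agent.Lib.Helper87.AbelianIndexP
import Cfsg.Agent.Lib.Helper88.EssOut

set_option autoImplicit false
set_option linter.unusedSectionVars false
set_option linter.unusedVariables false

/-!
# Fusion systems over `S` with `[S,S]` of order `p` central: a normal subgroup of order `p`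
-/

open Cfsg Cfsg.FusionSystem

namespace Cfsg.Agent.Lib.Helper68.XC

open Cfsg.Agent.Lib.Helper87 Cfsg.Agent.Lib.Helper68.Transv

variable {Ω : Type*} [Group Ω] {S : Subgroup Ω}

/-- The context: `D₀ = [S,S]` of order `p` inside `Z = Z(S)`. -/
structure Ctx (S : Subgroup Ω) (p : ℕ) (F : FusionSystem S) (D₀ Z : Subgroup Ω) : Prop where
  hS : IsPGroup p S
  hF : F.IsSaturated p
  hodd : p ≠ 2
  hDcard : Nat.card D₀ = p
  hDZ : D₀ ≤ Z
  hZ : Z = S ⊓ Subgroup.centralizer (S : Set Ω)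
  hcomm : ∀ x ∈ S, ∀ s ∈ S, s * x * s⁻¹ * x⁻¹ ∈ D₀
  hk : ∃ a ∈ S, ∃ b ∈ S, a * b * a⁻¹ * b⁻¹ ≠ 1

variable [Finite S] {p : ℕ} [hp : Fact p.Prime] {F : FusionSystem S} {D₀ Z : Subgroup Ω}

namespace Ctx

variable (C : Ctx S p F D₀ Z)
include C

theorem hZS : Z ≤ S := by rw [C.hZ]; exact inf_le_left

theorem hDS : D₀ ≤ S := C.hDZ.trans C.hZS

theorem comm_of_mem {x : Ω} (hx : x ∈ Z) {s : Ω} (hs : s ∈ S) : s * x = x * s := by
  rw [C.hZ] at hx
  exact Subgroup.mem_centralizer_iff.mp hx.2 s hs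

theorem conj_of_mem {x : Ω} (hx : x ∈ Z) {s : Ω} (hs : s ∈ S) : s * x * s⁻¹ = x := by
  rw [C.comm_of_mem hx hs]; group

theorem mem_Z {x : Ω} (hx : x ∈ S) (h : ∀ s ∈ S, s * x = x * s) : x ∈ Z := by
  rw [C.hZ]
  exact ⟨hx, Subgroup.mem_centralizer_iff.mpr h⟩

/-- the other form of the commutator hypothesis -/
theorem hcomm' {x s : Ω} (hx : x ∈ S) (hs : s ∈ S) : x⁻¹ * (s * x * s⁻¹) ∈ D₀ := by
  have := C.hcomm s hs x⁻¹ (S.inv_mem hx)
  have e : x⁻¹ * s * x⁻¹⁻¹ * s⁻¹ = x⁻¹ * (s * x * s⁻¹) := by group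
  rwa [e] at this

theorem pow_p_eq_one {d : Ω} (hd : d ∈ D₀) : d ^ p = 1 := by
  have h := pow_card_eq_one' (G := D₀) (x := ⟨d, hd⟩)
  rw [C.hDcard] at h
  exact congrArg Subtype.val h

/-- elements of `D₀` squaring to `1` are trivial (`p` odd) -/
theorem eq_one_of_sq {d : Ω} (hd : d ∈ D₀) (h2 : d * d = 1) : d = 1 := by
  have h1 : d ^ 2 = 1 := by rw [pow_two]; exact h2
  have h3 : d ^ Nat.gcd 2 p = 1 := pow_gcd_eq_one.mpr ⟨h1, C.pow_p_eq_one hd⟩
  have hcop : Nat.gcd 2 p = 1 := by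
    have : Nat.Coprime 2 p := (Nat.coprime_primes Nat.prime_two hp.out).mpr (Ne.symm C.hodd)
    exact this
  rwa [hcop, pow_one] at h3

/-! ### Essential subgroups -/

section ess

variable {P : Subgroup Ω} (hP : F.IsEssential p P)
include hP

theorem ess_le : P ≤ S := hP.2.1.1

theorem ess_cen : centralizerIn S P ≤ P := hP.1.2 P (isConj_refl F (C.ess_le hP))

theorem ess_Z_le : Z ≤ P := by
  intro x hx
  apply C.ess_cen hP
  refine ⟨C.hZS hx, Subgroup.mem_centralizer_iff.mpr ?_⟩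
  intro y hy
  exact C.comm_of_mem hx (C.ess_le hP hy)

theorem ess_D_le : D₀ ≤ P := C.hDZ.trans (C.ess_Z_le hP)

theorem ess_ne : P ≠ S := Cfsg.Agent.Lib.Helper88.essential_ne_top C.hS F C.hF hP

theorem ess_finite : Finite P := finite_of_le (C.ess_le hP)

theorem ess_normalizer {s : Ω} (hs : s ∈ S) : s ∈ Subgroup.normalizer (P : Set Ω) := by
  haveI := C.ess_finite hP
  apply Cfsg.Agent.Lib.Helper88.mem_normalizer_of_conj_mem_finite
  intro x hx
  have h1 := C.hcomm x (C.ess_le hP hx) s hs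
  have e : s * x * s⁻¹ = (s * x * s⁻¹ * x⁻¹) * x := by group
  rw [e]
  exact P.mul_mem (C.ess_D_le hP h1) hx

theorem ess_normalizerIn : normalizerIn S P = S := by
  apply le_antisymm inf_le_left
  intro s hs
  exact ⟨hs, C.ess_normalizer hP hs⟩

theorem ess_pgroup : IsPGroup p P := C.hS.to_le (C.ess_le hP)

theorem ess_TA : autInducedBy S P ≤ F.autGroup P := autInducedBy_le_autGroup F (C.ess_le hP)

theorem ess_Dcard : Nat.card (D₀.subgroupOf P) = p := by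
  rw [← C.hDcard]
  exact Nat.card_congr (Subgroup.subgroupOfEquivOfLe (C.ess_D_le hP)).toEquiv

theorem ess_DZ : D₀.subgroupOf P ≤ Z.subgroupOf P := by
  intro x hx
  exact Subgroup.mem_subgroupOf.mpr (C.hDZ (Subgroup.mem_subgroupOf.mp hx))

theorem ess_t1 : ∀ c ∈ autInducedBy S P, ∀ y : P, c y * y⁻¹ ∈ D₀.subgroupOf P := by
  intro c hc y
  obtain ⟨s, hs, hcs⟩ := (mem_autInducedBy_iff S P c).mp hc
  rw [Subgroup.mem_subgroupOf]
  show ((c y : P) : Ω) * ((y : P) : Ω)⁻¹ ∈ D₀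
  rw [hcs]
  exact C.hcomm y (C.ess_le hP y.2) s hs

theorem ess_t1' : ∀ c ∈ autInducedBy S P, ∀ y : P, y⁻¹ * c y ∈ D₀.subgroupOf P := by
  intro c hc y
  obtain ⟨s, hs, hcs⟩ := (mem_autInducedBy_iff S P c).mp hc
  rw [Subgroup.mem_subgroupOf]
  show ((y : P) : Ω)⁻¹ * ((c y : P) : Ω) ∈ D₀
  rw [hcs]
  exact C.hcomm' (C.ess_le hP y.2) hs

theorem ess_t2 : ∀ c ∈ autInducedBy S P, ∀ x ∈ Z.subgroupOf P, c x = x := by
  intro c hc x hx
  obtain ⟨s, hs, hcs⟩ := (mem_autInducedBy_iff S P c).mp hc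
  apply Subtype.ext
  rw [hcs]
  exact C.conj_of_mem (Subgroup.mem_subgroupOf.mp hx) hs

theorem ess_t3 : ∀ x : P, (∀ c ∈ autInducedBy S P, c x = x) → x ∈ Z.subgroupOf P := by
  intro x hx
  rw [Subgroup.mem_subgroupOf]
  apply C.mem_Z (C.ess_le hP x.2)
  intro s hs
  have h1 := hx _ (conjAut_mem_autInducedBy (K := S) hs (C.ess_normalizer hP hs))
  have h2 := congrArg (fun y : P => (y : Ω)) h1
  simp only [conjAut_coe] at h2
  calc s * (x : Ω) = (s * x * s⁻¹) * s := by group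
    _ = x * s := by rw [h2]

theorem exists_not_mem : ∃ s ∈ S, s ∉ P := by
  have hlt : P < S := lt_of_le_of_ne (C.ess_le hP) (C.ess_ne hP)
  obtain ⟨s, hs, hsP⟩ := SetLike.exists_of_lt hlt
  exact ⟨s, hs, hsP⟩

theorem ess_t4 : autInducedBy S P ≠ ⊥ := by
  intro hbot
  obtain ⟨s, hs, hsP⟩ := C.exists_not_mem hP
  apply hsP
  apply C.ess_cen hP
  refine ⟨hs, Subgroup.mem_centralizer_iff.mpr ?_⟩
  intro y hy
  have h1 : conjAut P s (C.ess_normalizer hP hs) ∈ autInducedBy S P :=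
    conjAut_mem_autInducedBy (K := S) hs (C.ess_normalizer hP hs)
  rw [hbot, Subgroup.mem_bot] at h1
  have h2 := congrArg (fun α : MulAut P => ((α ⟨y, hy⟩ : P) : Ω)) h1
  simp only [conjAut_coe, MulAut.one_apply] at h2
  calc y * s = (s * y * s⁻¹) * s := by rw [h2]
    _ = s * y := by group

theorem ess_max : ∀ K : Subgroup (MulAut P), K ≤ F.autGroup P → IsPGroup p K →
    autInducedBy S P ≤ K → K ≤ autInducedBy S P := by
  intro K hKA hKp hTK
  haveI := C.ess_finite hP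
  haveI : Finite (MulAut P) := Finite.of_injective (fun α : MulAut P => (α : P → P))
    (fun α β hab => by ext x; exact congrArg Subtype.val (congrFun hab x))
  obtain ⟨-, R, hR⟩ := (fc_fa_of_fullyNormalized C.hS F C.hF hP.2.1).2
  exact le_of_normalizes_sylow R hR (C.ess_TA hP) hKA hKp
    (fun c hc φ hφ => K.mul_mem (K.mul_mem (hTK hc) hφ) (K.inv_mem (hTK hc)))

/-- some `F`-automorphism of `P` moves `D₀`. -/
theorem ess_moves : ∃ g ∈ F.autGroup P, ∃ d ∈ D₀.subgroupOf P, g d ∉ D₀.subgroupOf P := by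
  haveI := C.ess_finite hP
  haveI : Finite (MulAut P) := Finite.of_injective (fun α : MulAut P => (α : P → P))
    (fun α β hab => by ext x; exact congrArg Subtype.val (congrFun hab x))
  by_contra hcon
  push Not at hcon
  set D : Subgroup P := D₀.subgroupOf P with hD
  -- the chain stabiliser inside Aut_F(P)
  let X : Subgroup (MulAut P) :=
    { carrier := {φ | φ ∈ F.autGroup P ∧ Pred3 D D φ}
      one_mem' := ⟨(F.autGroup P).one_mem, pred3_one _ _⟩
      mul_mem' := fun ha hb => ⟨(F.autGroup P).mul_mem ha.1 hb.1, pred3_mul le_rfl ha.2 hb.2⟩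
      inv_mem' := fun ha => ⟨(F.autGroup P).inv_mem ha.1, pred3_inv le_rfl ha.2⟩ }
  have hXA : X ≤ F.autGroup P := fun φ hφ => hφ.1
  have hXp : IsPGroup p X := pred3_isPGroup (C.ess_pgroup hP) le_rfl X (fun h hh => hh.2)
  have hXn : ∀ a ∈ F.autGroup P, ∀ φ ∈ X, a * φ * a⁻¹ ∈ X := by
    intro a ha φ hφ
    refine ⟨(F.autGroup P).mul_mem ((F.autGroup P).mul_mem ha hφ.1) ((F.autGroup P).inv_mem ha),
      pred3_conj (hcon a ha) (hcon a⁻¹ ((F.autGroup P).inv_mem ha)) hφ.2⟩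
  have hTX : autInducedBy S P ≤ X := by
    intro c hc
    exact ⟨C.ess_TA hP hc, C.ess_t1' hP c hc, fun x _ => C.ess_t1' hP c hc x,
      fun x hx => C.ess_t2 hP c hc x (C.ess_DZ hP hx)⟩
  obtain ⟨α, hα, hTI⟩ := essential_TI C.hS F C.hF hP
  have hinner := hTI X hXA hXp (fun c hc φ hφ => hXn c (C.ess_TA hP hc) φ hφ)
    (fun c hc φ hφ => hXn _ ((F.autGroup P).mul_mem ((F.autGroup P).mul_mem hα (C.ess_TA hP hc))
      ((F.autGroup P).inv_mem hα)) φ hφ)
  obtain ⟨s, hs, hsP⟩ := C.exists_not_mem hP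
  have hc : conjAut P s (C.ess_normalizer hP hs) ∈ autInducedBy S P :=
    conjAut_mem_autInducedBy (K := S) hs (C.ess_normalizer hP hs)
  obtain ⟨g, hg⟩ := hinner _ (hTX hc)
  apply not_mem_inn_of_conj (C.ess_le hP) (C.ess_cen hP) hs hsP
    (β := conjAut P s (C.ess_normalizer hP hs)) (fun x => rfl)
  refine ⟨g, ?_⟩
  ext x
  rw [hg x]
  rfl

/-- essential subgroups are abelian. -/
theorem ess_abelian : ∀ a b : P, a * b = b * a := by
  haveI := C.ess_finite hP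
  by_contra hcon
  push Not at hcon
  obtain ⟨y, z, hyz⟩ := hcon
  obtain ⟨g, hg, d, hd, hgd⟩ := C.ess_moves hP
  apply hgd
  set k : P := y * z * y⁻¹ * z⁻¹ with hk
  have hk1 : k ≠ 1 := by
    intro h
    apply hyz
    have : y * z * y⁻¹ * z⁻¹ = 1 := h
    calc y * z = (y * z * y⁻¹ * z⁻¹) * (z * y) := by group
      _ = z * y := by rw [this, one_mul]
  have hkD : k ∈ D₀.subgroupOf P := by
    rw [Subgroup.mem_subgroupOf]
    exact C.hcomm z (C.ess_le hP z.2) y (C.ess_le hP y.2)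
  have hgk : g k ∈ D₀.subgroupOf P := by
    rw [Subgroup.mem_subgroupOf, hk]
    simp only [map_mul, map_inv]
    exact C.hcomm (g z) (C.ess_le hP (g z).2) (g y) (C.ess_le hP (g y).2)
  exact maps_of_maps_gen (g := g.toMonoidHom) (C.ess_Dcard hP) hkD hk1 hgk d hd

end ess


/-! ### Characteristic subgroups of `S` -/

theorem Z_char (ψ : MulAut S) {x : S} (hx : (x : Ω) ∈ Z) : ((ψ x : S) : Ω) ∈ Z := by
  apply C.mem_Z (ψ x).2
  intro s hs
  have h1 : ∀ y : S, y * x = x * y := fun y => Subtype.ext (C.comm_of_mem hx y.2)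
  have h2 := congrArg ψ (h1 (ψ⁻¹ ⟨s, hs⟩))
  rw [map_mul, map_mul, MulAut.apply_inv_self] at h2
  exact congrArg Subtype.val h2

theorem D_char (ψ : MulAut S) {d : S} (hd : (d : Ω) ∈ D₀) : ((ψ d : S) : Ω) ∈ D₀ := by
  obtain ⟨a, ha, b, hb, hab⟩ := C.hk
  obtain ⟨k, hk⟩ : ∃ k : S, k = ⟨a, ha⟩ * ⟨b, hb⟩ * (⟨a, ha⟩ : S)⁻¹ * (⟨b, hb⟩ : S)⁻¹ := ⟨_, rfl⟩
  have hkD : k ∈ D₀.subgroupOf S := by
    rw [Subgroup.mem_subgroupOf, hk]
    exact C.hcomm b hb a ha
  have hk1 : k ≠ 1 := by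
    intro h
    apply hab
    rw [hk] at h
    exact congrArg Subtype.val h
  have hψk : ψ k ∈ D₀.subgroupOf S := by
    rw [Subgroup.mem_subgroupOf, hk]
    simp only [map_mul, map_inv]
    exact C.hcomm _ (ψ ⟨b, hb⟩).2 _ (ψ ⟨a, ha⟩).2
  have hcard : Nat.card (D₀.subgroupOf S) = p := by
    rw [← C.hDcard]
    exact Nat.card_congr (Subgroup.subgroupOfEquivOfLe C.hDS).toEquiv
  exact Subgroup.mem_subgroupOf.mp
    (maps_of_maps_gen (g := ψ.toMonoidHom) hcard hkD hk1 hψk d (Subgroup.mem_subgroupOf.mpr hd))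

end Ctx

/-- A *good* complement of `D₀` in `Z`: fixed by an `F`-automorphism of `S` inverting `D₀`. -/
def Good (F : FusionSystem S) (D₀ Z W : Subgroup Ω) : Prop :=
  W ≤ Z ∧ W ⊓ D₀ = ⊥ ∧ (∀ x ∈ Z, ∃ w ∈ W, ∃ f ∈ D₀, x = w * f) ∧
  ∃ τ ∈ F.autGroup S, (∀ w : S, (w : Ω) ∈ W → τ w = w) ∧ (∀ d : S, (d : Ω) ∈ D₀ → τ d = d⁻¹)

namespace Ctx

variable (C : Ctx S p F D₀ Z)
include C

set_option maxHeartbeats 800000 in
/-- A good complement is invariant under `Aut_F(S)`. -/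
theorem good_invariant {W : Subgroup Ω} (hW : Good F D₀ Z W) :
    ∀ φ ∈ F.autGroup S, ∀ w : S, (w : Ω) ∈ W → ((φ w : S) : Ω) ∈ W := by
  obtain ⟨hWZ, hWD, hdec, τ, hτ, hτW, hτD⟩ := hW
  intro φ hφ w hw
  obtain ⟨w', hw', f, hf, hwf⟩ := hdec _ (C.Z_char φ (hWZ hw))
  obtain ⟨wS, hwS⟩ : ∃ wS : S, (wS : Ω) = w' := ⟨⟨w', C.hZS (hWZ hw')⟩, rfl⟩
  obtain ⟨fS, hfS⟩ : ∃ fS : S, (fS : Ω) = f := ⟨⟨f, C.hDS hf⟩, rfl⟩
  have hwSW : (wS : Ω) ∈ W := hwS ▸ hw'
  have hfSD : (fS : Ω) ∈ D₀ := hfS ▸ hf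
  have hφw : φ w = wS * fS := by
    apply Subtype.ext
    rw [hwf, ← hwS, ← hfS]; rfl
  obtain ⟨ψ, hψ⟩ : ∃ ψ : MulAut S, ψ = φ⁻¹ * τ * φ * τ := ⟨_, rfl⟩
  obtain ⟨d₁, hd₁⟩ : ∃ d₁ : S, d₁ = φ⁻¹ (fS⁻¹ * fS⁻¹) := ⟨_, rfl⟩
  have hd₁D : (d₁ : Ω) ∈ D₀ := by
    rw [hd₁]
    apply C.D_char φ⁻¹
    show (fS : Ω)⁻¹ * (fS : Ω)⁻¹ ∈ D₀
    exact D₀.mul_mem (D₀.inv_mem hfSD) (D₀.inv_mem hfSD)
  have hψw : ψ w = w * d₁ := by
    rw [hψ, MulAut.mul_apply, MulAut.mul_apply, MulAut.mul_apply, hτW w hw, hφw, map_mul,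
      hτW wS hwSW, hτD fS hfSD]
    have hw2 : w = φ⁻¹ (wS * fS) := by rw [← hφw, MulAut.inv_apply_self]
    rw [hd₁]
    conv_rhs => rw [hw2]
    rw [← map_mul]
    congr 1
    group
  have hψD : ∀ d : S, (d : Ω) ∈ D₀ → ψ d = d := by
    intro d hd
    rw [hψ, MulAut.mul_apply, MulAut.mul_apply, MulAut.mul_apply, hτD d hd]
    have h1 : ((φ d⁻¹ : S) : Ω) ∈ D₀ := C.D_char φ (show ((d⁻¹ : S) : Ω) ∈ D₀ from D₀.inv_mem hd)
    rw [hτD _ h1, ← map_inv, inv_inv, MulAut.inv_apply_self]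
  have hψpow : ∀ k : ℕ, (ψ ^ k) w = w * d₁ ^ k := aut_pow_apply_mul ψ hψw (hψD d₁ hd₁D)
  have hψA : ψ ∈ F.autGroup S := by
    rw [hψ]
    exact (F.autGroup S).mul_mem ((F.autGroup S).mul_mem
      ((F.autGroup S).mul_mem ((F.autGroup S).inv_mem hφ) hτ) hφ) hτ
  haveI : Finite (MulAut S) := Finite.of_injective (fun α : MulAut S => (α : S → S))
    (fun α β hab => by ext x; exact congrArg Subtype.val (congrFun hab x))
  obtain ⟨a, m, hm, hn⟩ := Nat.exists_eq_pow_mul_and_not_dvd (orderOf_pos ψ).ne' p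
    hp.out.ne_one
  have hpowone : (ψ ^ m) ^ (p ^ a) = 1 := by
    rw [← pow_mul, mul_comm, ← hn, pow_orderOf_eq_one]
  have hKp : IsPGroup p (Subgroup.zpowers (ψ ^ m)) := by
    rintro ⟨x, hx⟩
    obtain ⟨j, rfl⟩ := Subgroup.mem_zpowers_iff.mp hx
    refine ⟨a, Subtype.ext ?_⟩
    show ((ψ ^ m) ^ j) ^ (p ^ a) = 1
    rw [← zpow_natCast, ← zpow_mul, mul_comm, zpow_mul, zpow_natCast, hpowone, one_zpow]
  have hKle : Subgroup.zpowers (ψ ^ m) ≤ F.autGroup S := by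
    rw [Subgroup.zpowers_le]
    exact Subgroup.pow_mem _ hψA m
  have hfa : F.IsFullyAutomized p S := (top_isAlperin C.hS F C.hF).1
  obtain ⟨β, hβ, hβc⟩ := exists_conj_into_autS F hfa _ hKle hKp
  have hc := hβc (ψ ^ m) (Subgroup.mem_zpowers _)
  obtain ⟨s, hs, hcs⟩ := (mem_autInducedBy_iff S S _).mp hc
  have hβwZ : ((β w : S) : Ω) ∈ Z := C.Z_char β (hWZ hw)
  have h1 := hcs (β w)
  rw [C.conj_of_mem hβwZ hs] at h1
  have h2 : (β * ψ ^ m * β⁻¹) (β w) = β w := Subtype.ext h1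
  rw [MulAut.mul_apply, MulAut.mul_apply, MulAut.inv_apply_self] at h2
  have h3 : (ψ ^ m) w = w := β.injective h2
  rw [hψpow m] at h3
  have h4 : d₁ ^ m = 1 := mul_eq_left.mp h3
  have h5 : (d₁ : Ω) ^ m = 1 := by
    have := congrArg Subtype.val h4
    simpa using this
  have h6 : (d₁ : Ω) ^ Nat.gcd m p = 1 := pow_gcd_eq_one.mpr ⟨h5, C.pow_p_eq_one hd₁D⟩
  have hcop : Nat.gcd m p = 1 := ((Nat.Prime.coprime_iff_not_dvd hp.out).mpr hm).symm
  rw [hcop, pow_one] at h6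
  have h7 : d₁ = 1 := Subtype.ext h6
  have h8 : fS⁻¹ * fS⁻¹ = 1 := by
    have := congrArg φ h7
    rw [hd₁, MulAut.apply_inv_self, map_one] at this
    exact this
  have h9 : f * f = 1 := by
    have e : (fS : Ω)⁻¹ * (fS : Ω)⁻¹ = 1 := congrArg Subtype.val h8
    rw [hfS] at e
    calc f * f = (f⁻¹ * f⁻¹)⁻¹ := by rw [mul_inv_rev, inv_inv]
      _ = 1 := by rw [e, inv_one]
  have h10 : f = 1 := C.eq_one_of_sq hf h9
  rw [hwf, h10, mul_one]
  exact hw'

/-- Good complements are unique. -/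
theorem good_le {W W' : Subgroup Ω} (hW : Good F D₀ Z W) (hW' : Good F D₀ Z W') : W' ≤ W := by
  intro x hx
  have hinv := C.good_invariant hW'
  obtain ⟨hWZ, hWD, hdec, τ, hτ, hτW, hτD⟩ := hW
  have hxZ : x ∈ Z := hW'.1 hx
  obtain ⟨w, hw, f, hf, hxwf⟩ := hdec x hxZ
  have hτx := hinv τ hτ ⟨x, C.hZS hxZ⟩ hx
  have e : τ ⟨x, C.hZS hxZ⟩ = (⟨w, C.hZS (hWZ hw)⟩ : S) * (⟨f, C.hDS hf⟩ : S)⁻¹ := by
    have : (⟨x, C.hZS hxZ⟩ : S) = (⟨w, C.hZS (hWZ hw)⟩ : S) * (⟨f, C.hDS hf⟩ : S) :=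
      Subtype.ext hxwf
    rw [this, map_mul, hτW _ hw, hτD _ hf]
  rw [e] at hτx
  have hτx' : w * f⁻¹ ∈ W' := hτx
  have h1 : f * f ∈ W' ⊓ D₀ := by
    refine ⟨?_, D₀.mul_mem hf hf⟩
    have h2 : x * (w * f⁻¹)⁻¹ ∈ W' := W'.mul_mem hx (W'.inv_mem hτx')
    have hc := C.comm_of_mem (hWZ hw) (S.mul_mem (C.hDS hf) (C.hDS hf))
    have e2 : x * (w * f⁻¹)⁻¹ = f * f := by
      rw [hxwf]
      calc w * f * (w * f⁻¹)⁻¹ = w * (f * f) * w⁻¹ := by group
        _ = (f * f) * w * w⁻¹ := by rw [← hc]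
        _ = f * f := by group
    rwa [e2] at h2
  rw [hW'.2.1, Subgroup.mem_bot] at h1
  have h2 : f = 1 := C.eq_one_of_sq hf h1
  rw [hxwf, h2, mul_one]
  exact hw

theorem good_eq {W W' : Subgroup Ω} (hW : Good F D₀ Z W) (hW' : Good F D₀ Z W') : W' = W :=
  le_antisymm (C.good_le hW hW') (C.good_le hW' hW)

end Ctx


namespace Ctx

variable (C : Ctx S p F D₀ Z)
include C

set_option maxHeartbeats 800000 in
/-- From an `F`-automorphism of an essential subgroup moving `D₀` we get a good complement. -/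
theorem exists_good_of_moves {P : Subgroup Ω} (hP : F.IsEssential p P) {g : MulAut P}
    (hg : g ∈ F.autGroup P) (hgD : ∃ d ∈ D₀.subgroupOf P, g d ∉ D₀.subgroupOf P) :
    ∃ W : Subgroup Ω, Good F D₀ Z W ∧
      ∀ c ∈ autInducedBy S P, ∀ w : P, (w : Ω) ∈ W → (g * c * g⁻¹) w = w := by
  haveI := C.ess_finite hP
  obtain ⟨τ, hτA, WP, hWZ, hWD, hdec, hτW, hτD, hτT, hconj⟩ :=
    transv_main (C.ess_pgroup hP) (C.ess_abelian hP) (C.ess_TA hP) (C.ess_max hP)
      (C.ess_Dcard hP) (C.ess_DZ hP) (C.ess_t1 hP) (C.ess_t2 hP) (C.ess_t3 hP) (C.ess_t4 hP)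
      hg hgD
  have hPS := C.ess_le hP
  have hN : ∀ c ∈ autInducedBy S P, τ * c * τ⁻¹ ∈ autInducedBy S P := by
    intro c hc
    rw [hτT c hc, mul_inv_cancel_right]
    exact hc
  obtain ⟨ψ, hψ, hψe⟩ := extend_of_normalizes C.hS F C.hF hP.2.1 hτA hN
  have hNS := C.ess_normalizerIn hP
  have hψ' := cast_mem F hNS hψ
  obtain ⟨γ, hγ, hγe⟩ := exists_aut_of_hom F hψ' (fun z => hom_mem_S F hψ' z)
  have hγP : ∀ y : P, ((γ ⟨y, hPS y.2⟩ : S) : Ω) = ((τ y : P) : Ω) := by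
    intro y
    rw [hγe]
    exact hψe y _
  refine ⟨WP.map P.subtype, ⟨?_, ?_, ?_, γ, hγ, ?_, ?_⟩, ?_⟩
  · rintro _ ⟨w, hw, rfl⟩
    exact Subgroup.mem_subgroupOf.mp (hWZ hw)
  · rw [eq_bot_iff]
    rintro _ ⟨⟨w, hw, rfl⟩, hD⟩
    have h1 : w ∈ WP ⊓ D₀.subgroupOf P := ⟨hw, Subgroup.mem_subgroupOf.mpr hD⟩
    rw [hWD, Subgroup.mem_bot] at h1
    rw [h1, map_one]
    exact Subgroup.one_mem _
  · intro x hx
    have hxP := C.ess_Z_le hP hx
    obtain ⟨w, hw, f, hf, hxwf⟩ := hdec ⟨x, hxP⟩ (Subgroup.mem_subgroupOf.mpr hx)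
    exact ⟨w, ⟨w, hw, rfl⟩, f, Subgroup.mem_subgroupOf.mp hf, congrArg Subtype.val hxwf⟩
  · rintro w ⟨w₀, hw₀, hw₀e⟩
    apply Subtype.ext
    have e : w = ⟨w₀, hPS w₀.2⟩ := Subtype.ext hw₀e.symm
    rw [e, hγP, hτW w₀ hw₀]
  · intro d hd
    apply Subtype.ext
    have e : d = ⟨((⟨d, C.ess_D_le hP hd⟩ : P) : Ω), d.2⟩ := rfl
    rw [e, hγP, hτD _ (Subgroup.mem_subgroupOf.mpr hd)]
    rfl
  · intro c hc w hw
    obtain ⟨w₀, hw₀, hw₀e⟩ := hw
    have e : w₀ = w := Subtype.ext hw₀e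
    subst e
    exact hconj c hc w₀ hw₀

set_option maxHeartbeats 1600000 in
/-- If `Z(S)` is strictly bigger than `D₀` then `O_p(F) ≠ 1`. -/
theorem core_ne_bot (hu : ∃ u ∈ Z, u ∉ D₀) : F.core ≠ ⊥ := by
  intro hcore
  obtain ⟨u, huZ, huD⟩ := hu
  by_cases hess : ∃ P : Subgroup Ω, F.IsEssential p P
  · obtain ⟨P₀, hP₀⟩ := hess
    obtain ⟨g₀, hg₀, hgD₀⟩ := C.ess_moves hP₀
    obtain ⟨W, hWgood, -⟩ := C.exists_good_of_moves hP₀ hg₀ hgD₀
    have hWZ : W ≤ Z := hWgood.1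
    have hnormal : F.IsNormal W := by
      apply isNormal_of_AG_invariant C.hS F C.hF
      · rintro R (rfl | hR)
        · exact hWZ.trans C.hZS
        · exact hWZ.trans (C.ess_Z_le hR)
      · rintro R (rfl | hR) α hα y hy
        · exact C.good_invariant hWgood α hα y hy
        · haveI := C.ess_finite hR
          have hRS := C.ess_le hR
          let PP : Subgroup (MulAut R) :=
            { carrier := {β | ∀ y : R, (y : Ω) ∈ W ↔ ((β y : R) : Ω) ∈ W}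
              one_mem' := fun y => Iff.rfl
              mul_mem' := fun {a b} ha hb y => (hb y).trans (ha (b y))
              inv_mem' := fun {a} ha y => by
                have := ha (a⁻¹ y)
                rw [MulAut.apply_inv_self] at this
                exact this.symm }
          have hfixmem : ∀ β : MulAut R, (∀ w : R, (w : Ω) ∈ W → β w = w) → β ∈ PP := by
            intro β hβ y
            constructor
            · intro hy
              rw [hβ y hy]; exact hy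
            · intro hy
              have h1 := hβ (β y) hy
              have h2 : β y = y := β.injective h1
              rw [← h2]; exact hy
          have hle : F.autGroup R ≤ PP := by
            apply autGroup_le_of_frattini C.hS F C.hF hR.2.1 PP
            · intro g hg c hc
              apply hfixmem
              intro w hw
              by_cases hgD : ∀ d ∈ D₀.subgroupOf R, g d ∈ D₀.subgroupOf R
              · have hmem := conj_mem_of_maps (C.ess_pgroup hR) (C.ess_abelian hR) (C.ess_TA hR)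
                  (C.ess_max hR) (C.ess_Dcard hR) (C.ess_DZ hR) (C.ess_t1 hR) (C.ess_t2 hR)
                  hg hgD c hc
                exact C.ess_t2 hR _ hmem w (Subgroup.mem_subgroupOf.mpr (hWZ hw))
              · push Not at hgD
                obtain ⟨W'', hW''good, hfix⟩ := C.exists_good_of_moves hR hg hgD
                have hWW := C.good_eq hWgood hW''good
                rw [← hWW] at hw
                exact hfix c hc w hw
            · rintro ν hν ⟨ψ, hψ, hψe⟩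
              have hNS := C.ess_normalizerIn hR
              have hψ' := cast_mem F hNS hψ
              obtain ⟨γ, hγ, hγe⟩ := exists_aut_of_hom F hψ' (fun z => hom_mem_S F hψ' z)
              have hγR : ∀ y : R, ((γ ⟨y, hRS y.2⟩ : S) : Ω) = ((ν y : R) : Ω) := by
                intro y
                rw [hγe]
                exact hψe y _
              intro y
              constructor
              · intro hy
                rw [← hγR]
                exact C.good_invariant hWgood γ hγ ⟨y, hRS y.2⟩ hy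
              · intro hy
                rw [← hγR] at hy
                have := C.good_invariant hWgood γ⁻¹ ((F.autGroup S).inv_mem hγ) _ hy
                rwa [MulAut.inv_apply_self] at this
          exact ((hle hα) y).mp hy
    have hWle : W ≤ F.core := le_sSup hnormal
    rw [hcore] at hWle
    obtain ⟨w, hw, f, hf, huwf⟩ := hWgood.2.2.1 u huZ
    have hw1 : w = 1 := Subgroup.mem_bot.mp (hWle hw)
    apply huD
    rw [huwf, hw1, one_mul]; exact hf
  · have hnormal : F.IsNormal S := by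
      apply isNormal_of_AG_invariant C.hS F C.hF
      · rintro R (rfl | hR)
        · exact le_rfl
        · exact absurd ⟨R, hR⟩ hess
      · rintro R hR α hα y hy
        exact hR.le (α y).2
    have hSle : S ≤ F.core := le_sSup hnormal
    rw [hcore] at hSle
    apply huD
    have : u = 1 := Subgroup.mem_bot.mp (hSle (C.hZS huZ))
    rw [this]; exact D₀.one_mem

end Ctx

end Cfsg.Agent.Lib.Helper68.XC
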