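import Cfsg.Agent.Lib.Helper68.FH_A4core

/-!
# Feit–Higman (helper6's hive): leaf FH-A6T — closed forms of the traces in dimension 2
(core: `a6t_closed_of` with the conclusion of FH-A3 as a hypothesis)
-/

set_option autoImplicit false

namespace Cfsg.Agent.Lib.Helper6.FH

open Matrix

/-- the closed forms, with `s = t⁻¹` as a variable -/
theorem a6t_closed_of {u v ρ t s : ℂ} {a b : Matrix (Fin 2) (Fin 2) ℂ}
    (hq : a * a = u • (1 : Matrix (Fin 2) (Fin 2) ℂ) + (u - 1) • a)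
    (hA3 : a.trace = u - 1 ∧ a.det = -u ∧ b.trace = v - 1 ∧ b.det = -v)
    (hρ : ρ ^ 2 = u * v) (hts : t * s = 1) (hτ : (a * b).trace = ρ * (t + s)) (k : ℕ) :
    ((altP (2 * k) a b).trace = ρ ^ k * (t ^ k + s ^ k) ∧
      (altP (2 * k + 1) a b).trace * (t - s) * ρ =
        ρ ^ k * (u * (v - 1) * (t ^ k - s ^ k) + (u - 1) * ρ * (t ^ (k + 1) - s ^ (k + 1)))) ∧
    ((altP (2 * (k + 1)) a b).trace = ρ ^ (k + 1) * (t ^ (k + 1) + s ^ (k + 1)) ∧
      (altP (2 * (k + 1) + 1) a b).trace * (t - s) * ρ =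
        ρ ^ (k + 1) * (u * (v - 1) * (t ^ (k + 1) - s ^ (k + 1)) +
          (u - 1) * ρ * (t ^ (k + 1 + 1) - s ^ (k + 1 + 1)))) := by
  have hta := hA3.1
  induction k with
  | zero =>
    refine ⟨⟨?_, ?_⟩, ?_, ?_⟩
    · show (1 : Matrix (Fin 2) (Fin 2) ℂ).trace = _
      simp
      norm_num
    · show (a * 1).trace * (t - s) * ρ = _
      rw [mul_one, hta]
      ring
    · show (a * (b * 1)).trace = _
      rw [mul_one, hτ]
      ring
    · rw [show 2 * (0 + 1) + 1 = 3 from rfl, a4_trace_three_of hq hA3, hτ]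
      ring
  | succ k ih =>
    obtain ⟨⟨he0, ho0⟩, he1, ho1⟩ := ih
    refine ⟨⟨he1, ho1⟩, ?_, ?_⟩
    · rw [show 2 * (k + 1 + 1) = 2 * k + 4 by ring, a4_trace_rec_of hA3,
        show 2 * k + 2 = 2 * (k + 1) by ring, he1, he0, hτ]
      linear_combination (ρ ^ (k + 2) * (t ^ k + s ^ k)) * hts + (ρ ^ k * (t ^ k + s ^ k)) * hρ
    · rw [show 2 * (k + 1 + 1) + 1 = (2 * k + 1) + 4 by ring, a4_trace_rec_of hA3,
        show 2 * k + 1 + 2 = 2 * (k + 1) + 1 by ring, hτ]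
      have e1 := ho1
      have e0 := ho0
      linear_combination (ρ * (t + s)) * e1 - (u * v) * e0 +
        (ρ ^ (k + 2) * (u * (v - 1) * (t ^ k - s ^ k) + (u - 1) * ρ * (t ^ (k + 1) - s ^ (k + 1)))) * hts +
        (ρ ^ k * (u * (v - 1) * (t ^ k - s ^ k) + (u - 1) * ρ * (t ^ (k + 1) - s ^ (k + 1)))) * hρ

end Cfsg.Agent.Lib.Helper6.FH
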