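import Mathlib
import Cfsg.Agent.Lib.Helper50.Basic

set_option autoImplicit false

/-!
Tools for S3032 (part A): eigenvectors for exponent `p-1` actions on elementary abelian
`p`-groups, automorphisms of cyclic groups, subgroups of prescribed order in `p`-groups.
-/

namespace Cfsg.Agent.Lib.Helper68.HCyc

open Subgroup

open Polynomial in
/-- an endomorphism of a finite nonzero `ZMod p`-module with `f ^ (p-1) = 1` has an eigenvector -/
theorem exists_eigenvector_of_pow {p : ℕ} [hp : Fact p.Prime] {V : Type*} [AddCommGroup V]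
    [Module (ZMod p) V] [Finite V] [Nontrivial V]
    (f : Module.End (ZMod p) V) (hf : f ^ (p - 1) = 1) :
    ∃ (μ : ZMod p) (v : V), v ≠ 0 ∧ f v = μ • v := by
  have : Module.Finite (ZMod p) V := Module.Finite.of_finite
  have hp1 : 1 < p := hp.out.one_lt
  have hfp : f ^ p = f := by
    calc f ^ p = f ^ (p - 1) * f := by rw [← pow_succ]; congr 1; omega
      _ = f := by rw [hf, one_mul]
  have hdvd : minpoly (ZMod p) f ∣ (X ^ p - X : (ZMod p)[X]) := by
    apply minpoly.dvd
    rw [map_sub, map_pow, aeval_X, hfp, sub_self]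
  have hsplit : Splits (X ^ p - X : (ZMod p)[X]) := by
    rw [splits_iff_card_roots]
    have h1 := FiniteField.roots_X_pow_card_sub_X (ZMod p)
    rw [ZMod.card] at h1
    rw [h1, FiniteField.X_pow_card_sub_X_natDegree_eq _ hp1]
    simp [ZMod.card]
  have hne : (X ^ p - X : (ZMod p)[X]) ≠ 0 := FiniteField.X_pow_card_sub_X_ne_zero _ hp1
  have hs := hsplit.of_dvd hne hdvd
  have hdeg : degree (minpoly (ZMod p) f) ≠ 0 :=
    (minpoly.degree_pos (Algebra.IsIntegral.isIntegral f)).ne'
  obtain ⟨μ, hμ⟩ := hs.exists_eval_eq_zero hdeg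
  have h2 := Module.End.hasEigenvalue_of_isRoot (f := f) hμ
  obtain ⟨v, hv⟩ := h2.exists_hasEigenvector
  exact ⟨μ, v, hv.2, hv.apply_eq_smul⟩

/-- additive version with a natural number eigenvalue -/
theorem exists_eigen_addGroup {p : ℕ} [hp : Fact p.Prime] {V : Type*} [AddCommGroup V]
    [Module (ZMod p) V] [Finite V] [Nontrivial V] (f0 : V →+ V)
    (h : ∀ v, (⇑f0)^[p - 1] v = v) :
    ∃ (l : ℕ) (v : V), v ≠ 0 ∧ f0 v = l • v := by
  let f : Module.End (ZMod p) V := AddMonoidHom.toZModLinearMap p f0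
  have hfk : ∀ (k : ℕ) (v : V), (f ^ k) v = (⇑f0)^[k] v := by
    intro k
    induction k with
    | zero =>
      intro v
      simp
    | succ k ih =>
      intro v
      rw [pow_succ', Module.End.mul_apply, ih, Function.iterate_succ_apply']
      rfl
  have hf : f ^ (p - 1) = 1 := by
    apply LinearMap.ext
    intro v
    rw [hfk, Module.End.one_apply, h]
  obtain ⟨μ, v, hv0, hv⟩ := exists_eigenvector_of_pow f hf
  refine ⟨μ.val, v, hv0, ?_⟩
  have h3 : μ • v = μ.val • v := by
    conv_lhs => rw [← ZMod.natCast_zmod_val μ]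
    rw [Nat.cast_smul_eq_nsmul]
  rw [← h3, ← hv]
  rfl

/-- eigenvector for an endomorphism of a finite elementary abelian `p`-group whose `(p-1)`-st
iterate is the identity -/
theorem exists_eigen_commGroup {p : ℕ} [hp : Fact p.Prime] {A : Type*} [CommGroup A] [Finite A]
    [Nontrivial A] (hexp : ∀ x : A, x ^ p = 1) (α : A →* A)
    (hα : ∀ x, (⇑α)^[p - 1] x = x) :
    ∃ (l : ℕ) (x : A), x ≠ 1 ∧ α x = x ^ l := by
  have hmod : ∀ x : Additive A, p • x = 0 := by
    intro x
    apply Additive.toMul.injective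
    simp only [toMul_nsmul, toMul_zero]
    exact hexp _
  have hiter : ∀ (k : ℕ) (v : Additive A),
      (⇑(MonoidHom.toAdditive α))^[k] v = Additive.ofMul ((⇑α)^[k] (Additive.toMul v)) := by
    intro k
    induction k with
    | zero => intro v; rfl
    | succ k ih =>
      intro v
      rw [Function.iterate_succ_apply', ih, Function.iterate_succ_apply']
      rfl
  obtain ⟨l, v, hv0, hv⟩ := @exists_eigen_addGroup p hp (Additive A) _
    (AddCommGroup.zmodModule hmod) _ _ (MonoidHom.toAdditive α) (by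
      intro v
      rw [hiter, hα]
      rfl)
  refine ⟨l, Additive.toMul v, ?_, ?_⟩
  · intro h1
    apply hv0
    apply Additive.toMul.injective
    simpa using h1
  · have h4 := congrArg (fun w => Additive.toMul w) hv
    simp only [toMul_nsmul] at h4
    rw [← h4]
    rfl

variable {G : Type*} [Group G]

/-- automorphisms of a cyclic group commute -/
theorem mulAut_comm_of_isCyclic {H : Type*} [Group H] [IsCyclic H] (α β : MulAut H) :
    α * β = β * α := by
  apply (IsCyclic.mulAutMulEquiv H).injective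
  rw [map_mul, map_mul, mul_comm]

/-- subgroups of prescribed order between a subgroup and a `p`-group -/
theorem exists_between [Finite G] {p : ℕ} [hp : Fact p.Prime] {Q H : Subgroup G}
    (hQ : IsPGroup p Q) (hHQ : H ≤ Q) (n : ℕ) (hH : Nat.card H ≤ p ^ n)
    (hn : p ^ n ≤ Nat.card Q) :
    ∃ K : Subgroup G, H ≤ K ∧ K ≤ Q ∧ Nat.card K = p ^ n := by
  have hp1 : 1 < p := hp.out.one_lt
  obtain ⟨k, hk⟩ := hQ.exists_card_eq
  obtain ⟨i, hi⟩ := (hQ.to_le hHQ).exists_card_eq
  have hin : i ≤ n := by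
    rw [hi] at hH
    exact (Nat.pow_le_pow_iff_right hp1).mp hH
  have hnk : n ≤ k := by
    rw [hk] at hn
    exact (Nat.pow_le_pow_iff_right hp1).mp hn
  have hdvd : p ^ n ∣ Nat.card ↥Q := by
    rw [hk]
    exact pow_dvd_pow p hnk
  have hH' : Nat.card ↥(H.subgroupOf Q) = p ^ i := by
    rw [← hi]
    exact Nat.card_congr (Subgroup.subgroupOfEquivOfLe hHQ).toEquiv
  obtain ⟨K', hK', hHK'⟩ := Sylow.exists_subgroup_card_pow_prime_le p hdvd (H.subgroupOf Q) hH' hin
  refine ⟨K'.map Q.subtype, ?_, Subgroup.map_subtype_le K', ?_⟩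
  · intro h hh
    exact ⟨⟨h, hHQ hh⟩, hHK' (Subgroup.mem_subgroupOf.mpr hh), rfl⟩
  · rw [← hK']
    exact (Nat.card_congr (Subgroup.equivMapOfInjective K' Q.subtype
      Q.subtype_injective).toEquiv).symm

/-- cardinality of the image of a subgroup on which a homomorphism is injective -/
theorem card_map_of_injOn {H : Type*} [Group H] (f : G →* H) (X : Subgroup G)
    (hinj : ∀ x ∈ X, f x = 1 → x = 1) : Nat.card ↥(X.map f) = Nat.card ↥X := by
  symm
  apply Nat.card_congr
  refine Equiv.ofBijective (fun x : ↥X => (⟨f x, Subgroup.mem_map_of_mem f x.2⟩ : ↥(X.map f)))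
    ⟨?_, ?_⟩
  · intro a b hab
    have h1 : f a = f b := congrArg Subtype.val hab
    have h2 : f ((a : G) * (b : G)⁻¹) = 1 := by rw [map_mul, map_inv, h1, mul_inv_cancel]
    have h3 := hinj _ (X.mul_mem a.2 (X.inv_mem b.2)) h2
    apply Subtype.ext
    exact mul_inv_eq_one.mp h3
  · rintro ⟨y, x, hx, rfl⟩
    exact ⟨⟨x, hx⟩, rfl⟩

end Cfsg.Agent.Lib.Helper68.HCyc
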