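import Mathlib
import Cfsg.Prelude.Def_SolvableStructure
import Cfsg.Agent.Lib.Helper9.Supersolvable
import Cfsg.Agent.Lib.Helper9.Supersolvable6
import Cfsg.Agent.Lib.Helper9.Huppert
import Cfsg.Agent.Lib.Helper24.Coprime
import Cfsg.Agent.Lib.Helper68.Omega
import Cfsg.Agent.Lib.Helper68.HCycA

set_option autoImplicit false

/-!
Tools for S3032 (part B): a normal `p`-subgroup `Q` of `G` all of whose subgroups of a fixed
order `|D|` (`1 < |D| < |Q|`, and of order `4` if `|D| = 2`) are normal in `G`, with `G ⧸ Q`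
supersolvable, forces `G` supersolvable.
-/

namespace Cfsg.Agent.Lib.Helper68.HCyc

open Subgroup Cfsg.Agent.Lib.Helper9
open scoped commutatorElement

universe u

section
variable {G : Type u} [Group G]

open scoped IsMulCommutative in
/-- group version: conjugation by `g` on a normal elementary abelian `p`-subgroup, with
`g ^ (p-1)` acting trivially, has an eigenvector -/
theorem exists_pow_eigen [Finite G] {p : ℕ} [hp : Fact p.Prime] (N : Subgroup G) [hN : N.Normal]
    (hcomm : ∀ x ∈ N, ∀ y ∈ N, x * y = y * x) (hexp : ∀ x ∈ N, x ^ p = 1) (hne : N ≠ ⊥)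
    (g : G) (hg : ∀ x ∈ N, g ^ (p - 1) * x * (g ^ (p - 1))⁻¹ = x) :
    ∃ (l : ℕ) (x : G), x ∈ N ∧ x ≠ 1 ∧ g * x * g⁻¹ = x ^ l := by
  haveI : IsMulCommutative ↥N := ⟨⟨fun a b => Subtype.ext (hcomm a a.2 b b.2)⟩⟩
  haveI : Nontrivial ↥N := (Subgroup.nontrivial_iff_ne_bot N).mpr hne
  let α : ↥N →* ↥N := (MulAut.conjNormal g : MulAut ↥N).toMonoidHom
  have hα : ∀ x : ↥N, ((α x : ↥N) : G) = g * x * g⁻¹ := fun x => MulAut.conjNormal_apply g x
  have hiter : ∀ (k : ℕ) (x : ↥N), (((⇑α)^[k] x : ↥N) : G) = g ^ k * x * (g ^ k)⁻¹ := by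
    intro k
    induction k with
    | zero => intro x; simp
    | succ k ih =>
      intro x
      rw [Function.iterate_succ_apply', hα, ih, pow_succ']
      group
  obtain ⟨l, x, hx1, hx⟩ := exists_eigen_commGroup (p := p) (A := ↥N)
    (fun x => Subtype.ext (by simpa using hexp x x.2)) α (by
      intro x
      apply Subtype.ext
      rw [hiter]
      exact hg x x.2)
  refine ⟨l, x, x.2, fun h => hx1 (Subtype.ext h), ?_⟩
  have h2 := congrArg Subtype.val hx
  rw [hα] at h2
  rw [h2]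
  simp

/-- a minimal normal elementary abelian `p`-subgroup on which `G` acts through an abelian group
of exponent dividing `p - 1` is cyclic -/
theorem isCyclic_of_minimal_normal [Finite G] {p : ℕ} [hp : Fact p.Prime] (N X : Subgroup G)
    [hN : N.Normal]
    (hcomm : ∀ x ∈ N, ∀ y ∈ N, x * y = y * x) (hexp : ∀ x ∈ N, x ^ p = 1) (hne : N ≠ ⊥)
    (hmin : ∀ N' : Subgroup G, N'.Normal → N' ≠ ⊥ → N' ≤ N → N' = N)
    (hXN : X ≤ centralizer (N : Set G))
    (hXc : ∀ a b : G, ⁅a, b⁆ ∈ X) (hXp : ∀ a : G, a ^ (p - 1) ∈ X) :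
    IsCyclic ↥N := by
  have hcent : ∀ c ∈ X, ∀ x ∈ N, c * x * c⁻¹ = x := by
    intro c hc x hx
    have := Subgroup.mem_centralizer_iff.mp (hXN hc) x hx
    rw [← this]
    group
  have key : ∀ g : G, ∃ l : ℕ, ∀ x ∈ N, g * x * g⁻¹ = x ^ l := by
    intro g
    obtain ⟨l, x0, hx0N, hx01, hx0⟩ := exists_pow_eigen N hcomm hexp hne g
      (fun x hx => hcent _ (hXp g) x hx)
    refine ⟨l, ?_⟩
    let E : Subgroup G :=
      { carrier := {x | x ∈ N ∧ g * x * g⁻¹ = x ^ l}
        one_mem' := ⟨N.one_mem, by simp⟩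
        mul_mem' := by
          rintro a b ⟨ha, ha'⟩ ⟨hb, hb'⟩
          refine ⟨N.mul_mem ha hb, ?_⟩
          have hc : Commute a b := hcomm a ha b hb
          rw [hc.mul_pow, ← ha', ← hb']
          group
        inv_mem' := by
          rintro a ⟨ha, ha'⟩
          refine ⟨N.inv_mem ha, ?_⟩
          rw [inv_pow, ← ha']
          group }
    have hEn : E.Normal := by
      refine ⟨fun x hx k => ?_⟩
      obtain ⟨hxN, hx'⟩ := hx
      refine ⟨hN.conj_mem x hxN k, ?_⟩
      have hc := hcent _ (hXc g⁻¹ k⁻¹) x hxN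
      have e1 : g * (k * x * k⁻¹) * g⁻¹ =
          k * (g * (⁅g⁻¹, k⁻¹⁆ * x * ⁅g⁻¹, k⁻¹⁆⁻¹) * g⁻¹) * k⁻¹ := by
        rw [commutatorElement_def]
        group
      rw [e1, hc, hx', conj_pow]
    have hEne : E ≠ ⊥ := by
      intro h
      have : x0 ∈ E := ⟨hx0N, hx0⟩
      rw [h, Subgroup.mem_bot] at this
      exact hx01 this
    have hEN : E ≤ N := fun x hx => hx.1
    have hE := hmin E hEn hEne hEN
    intro x hx
    have hxE : x ∈ E := by rw [hE]; exact hx
    exact hxE.2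
  obtain ⟨x, hxN, hx1⟩ : ∃ x ∈ N, x ≠ 1 := by
    by_contra hcon
    push Not at hcon
    apply hne
    rw [Subgroup.eq_bot_iff_forall]
    exact hcon
  have hzn : (zpowers x).Normal := by
    refine ⟨fun y hy g => ?_⟩
    obtain ⟨i, rfl⟩ := Subgroup.mem_zpowers_iff.mp hy
    obtain ⟨l, hl⟩ := key g
    rw [← conj_zpow, hl x hxN]
    exact Subgroup.zpow_mem _ (Subgroup.pow_mem _ (Subgroup.mem_zpowers x) l) i
  have hz := hmin (zpowers x) hzn (by
      intro h
      apply hx1
      have : x ∈ zpowers x := mem_zpowers x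
      rw [h, mem_bot] at this
      exact this)
    (by rw [zpowers_le]; exact hxN)
  rw [← hz]
  infer_instance

/-- a normal subgroup acting as a `p`-group on a minimal normal `p`-subgroup centralizes it -/
theorem le_centralizer_of_acts_pgroup [Finite G] {p : ℕ} [hp : Fact p.Prime] (N X : Subgroup G)
    [hN : N.Normal] [hX : X.Normal] (hNp : IsPGroup p N) (hne : N ≠ ⊥)
    (hmin : ∀ N' : Subgroup G, N'.Normal → N' ≠ ⊥ → N' ≤ N → N' = N)
    (a : ℕ) (hXa : ∀ c ∈ X, ∀ x ∈ N, c ^ (p ^ a) * x * (c ^ (p ^ a))⁻¹ = x) :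
    X ≤ centralizer (N : Set G) := by
  let φ : ↥X →* MulAut ↥N := (MulAut.conjNormal (H := N)).comp X.subtype
  have hφ : ∀ (c : ↥X) (n : ↥N), ((φ c n : ↥N) : G) = (c : G) * n * (c : G)⁻¹ := by
    intro c n
    rfl
  have hΓ : IsPGroup p ↥φ.range := by
    rintro ⟨y, c, rfl⟩
    refine ⟨a, ?_⟩
    apply Subtype.ext
    rw [Subgroup.coe_pow, Subgroup.coe_one, ← map_pow]
    ext n
    rw [hφ, MulAut.one_apply, Subgroup.coe_pow]
    exact hXa c c.2 n n.2
  have hsmul : ∀ (y : ↥φ.range) (n : ↥N), y • n = (y : MulAut ↥N) n := fun y n => rfl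
  have hNnt : Nontrivial ↥N := (Subgroup.nontrivial_iff_ne_bot N).mpr hne
  have hdvd : p ∣ Nat.card ↥N := by
    obtain ⟨k, hk⟩ := hNp.exists_card_eq
    rw [hk]
    have : k ≠ 0 := by
      rintro rfl
      rw [pow_zero] at hk
      have := Finite.one_lt_card_iff_nontrivial.mpr hNnt
      omega
    exact dvd_pow_self p this
  have h1 : (1 : ↥N) ∈ MulAction.fixedPoints ↥φ.range ↥N := by
    intro y
    rw [hsmul]
    exact map_one _
  obtain ⟨b, hb, hb1⟩ := hΓ.exists_fixed_point_of_prime_dvd_card_of_fixed_point ↥N hdvd h1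
  have hCn : (Subgroup.centralizer (X : Set G)).Normal := inferInstance
  have hC : (N ⊓ Subgroup.centralizer (X : Set G)).Normal := Subgroup.normal_inf_normal _ _
  have hbC : (b : G) ∈ N ⊓ Subgroup.centralizer (X : Set G) := by
    refine ⟨b.2, ?_⟩
    show (b : G) ∈ Subgroup.centralizer (X : Set G)
    rw [Subgroup.mem_centralizer_iff]
    intro c hc
    have h2 := hb ⟨φ ⟨c, hc⟩, ⟨⟨c, hc⟩, rfl⟩⟩
    rw [hsmul] at h2
    have h3 := congrArg Subtype.val h2
    rw [hφ] at h3
    simp only at h3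
    calc c * (b : G) = (c * (b : G) * c⁻¹) * c := by group
      _ = (b : G) * c := by rw [h3]
  have hCne : N ⊓ Subgroup.centralizer (X : Set G) ≠ ⊥ := by
    intro h
    rw [h, Subgroup.mem_bot] at hbC
    exact hb1 (Subtype.ext hbC.symm)
  have hE := hmin _ hC hCne inf_le_left
  intro x hx
  rw [Subgroup.mem_centralizer_iff]
  intro n hn
  have hn' : n ∈ N ⊓ Subgroup.centralizer (X : Set G) := by rw [hE]; exact hn
  exact ((Subgroup.mem_centralizer_iff.mp hn'.2) x hx).symm

end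

/-- main induction: `Q` a normal `p`-subgroup, `X` a normal subgroup containing all commutators
and `(p-1)`-st powers, whose `p^a`-th powers centralize `Q`; `G ⧸ Q` supersolvable gives `G`
supersolvable. -/
theorem ss_main {p : ℕ} [hp : Fact p.Prime] : ∀ (n : ℕ) (G : Type u) [Group G] [Finite G]
    (Q X : Subgroup G) [Q.Normal] [X.Normal],
    Nat.card G = n → IsPGroup p Q → (∀ a b : G, ⁅a, b⁆ ∈ X) → (∀ a : G, a ^ (p - 1) ∈ X) →
    (∃ a : ℕ, ∀ c ∈ X, c ^ (p ^ a) ∈ centralizer (Q : Set G)) →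
    Cfsg.IsSupersolvable (G ⧸ Q) → Cfsg.IsSupersolvable G := by
  intro n
  induction n using Nat.strong_induction_on with
  | _ n ih =>
  intro G _ _ Q X hQn hXn hn hQp hXc hXp hXa hss
  by_cases hQ : Q = ⊥
  · subst hQ
    exact isSupersolvable_of_mulEquiv QuotientGroup.quotientBot hss
  obtain ⟨N, hNn, hNne, hNQ, hmin⟩ := exists_minimal_normal_le Q hQ
  haveI := hNn
  have hcentQ := le_centralizer_of_minimal_normal p Q hQp N hNne hNQ hmin
  have hcomm : ∀ x ∈ N, ∀ y ∈ N, x * y = y * x := by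
    intro x hx y hy
    have := hcentQ (hNQ hx)
    rw [mem_centralizer_iff] at this
    exact (this y hy).symm
  have hNp : IsPGroup p N := hQp.to_le hNQ
  have hNnt : Nontrivial ↥N := (Subgroup.nontrivial_iff_ne_bot N).mpr hNne
  have hNcard1 : 1 < Nat.card N := Finite.one_lt_card_iff_nontrivial.mpr hNnt
  have hpd : p ∣ Nat.card N := by
    obtain ⟨j, hj⟩ := hNp.exists_card_eq
    rw [hj] at hNcard1 ⊢
    have hj0 : j ≠ 0 := by
      rintro rfl
      simp at hNcard1
    exact dvd_pow_self p hj0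
  have hexp := pow_eq_one_of_minimal_normal p N hcomm hmin hpd
  obtain ⟨a, ha⟩ := hXa
  have hXN : X ≤ centralizer (N : Set G) := by
    apply le_centralizer_of_acts_pgroup N X hNp hNne hmin a
    intro c hc x hx
    have := mem_centralizer_iff.mp (ha c hc) x (hNQ hx)
    rw [← this]
    group
  haveI : IsCyclic ↥N := isCyclic_of_minimal_normal N X hcomm hexp hNne hmin hXN hXc hXp
  apply isSupersolvable_of_cyclic_normal_quotient N
  have hlt : Nat.card (G ⧸ N) < n := by
    have h2 := Subgroup.card_eq_card_quotient_mul_card_subgroup N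
    have h4 : 0 < Nat.card (G ⧸ N) := Nat.card_pos
    rw [← hn, h2]
    calc Nat.card (G ⧸ N) < Nat.card (G ⧸ N) * 2 := by omega
      _ ≤ _ := Nat.mul_le_mul_left _ (by omega)
  refine ih _ hlt (G ⧸ N) (Q.map (QuotientGroup.mk' N)) (X.map (QuotientGroup.mk' N)) rfl
    (hQp.map _) ?_ ?_ ?_ ?_
  · intro a' b'
    obtain ⟨a'', rfl⟩ := QuotientGroup.mk'_surjective N a'
    obtain ⟨b'', rfl⟩ := QuotientGroup.mk'_surjective N b'
    exact ⟨⁅a'', b''⁆, hXc a'' b'', map_commutatorElement _ _ _⟩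
  · intro a'
    obtain ⟨a'', rfl⟩ := QuotientGroup.mk'_surjective N a'
    exact ⟨a'' ^ (p - 1), hXp a'', map_pow _ _ _⟩
  · refine ⟨a, ?_⟩
    rintro _ ⟨c, hc, rfl⟩
    rw [← map_pow, mem_centralizer_iff]
    rintro _ ⟨q, hq, rfl⟩
    rw [← map_mul, ← map_mul, mem_centralizer_iff.mp (ha c hc) q hq]
  · exact isSupersolvable_of_mulEquiv
      (QuotientGroup.quotientQuotientEquivQuotient N Q hNQ).symm hss

end Cfsg.Agent.Lib.Helper68.HCyc
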