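import Mathlib
import Cfsg.Agent.Lib.Helper68.HCycB

set_option autoImplicit false

/-!
Tools for S3032 (part C): the subgroup generated by commutators and `(p-1)`-st powers, and the
supersolvability criterion for a normal `p`-subgroup with a normal family of subgroups.
-/

namespace Cfsg.Agent.Lib.Helper68.HCyc

open Subgroup Cfsg.Agent.Lib.Helper9
open scoped commutatorElement

universe u

variable {G : Type u} [Group G]

/-- generators: commutators and `(p-1)`-st powers -/
def genSet (p : ℕ) (G : Type u) [Group G] : Set G :=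
  {g | (∃ a b : G, g = ⁅a, b⁆) ∨ ∃ a : G, g = a ^ (p - 1)}

/-- the normal subgroup generated by commutators and `(p-1)`-st powers -/
def XX (p : ℕ) (G : Type u) [Group G] : Subgroup G := Subgroup.normalClosure (genSet p G)

instance XX_normal (p : ℕ) : (XX p G).Normal := Subgroup.normalClosure_normal

theorem XX_le {p : ℕ} (Y : Subgroup G) [Y.Normal] (h1 : ∀ a b : G, ⁅a, b⁆ ∈ Y)
    (h2 : ∀ a : G, a ^ (p - 1) ∈ Y) : XX p G ≤ Y := by
  apply Subgroup.normalClosure_le_normal
  rintro g (⟨a, b, rfl⟩ | ⟨a, rfl⟩)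
  · exact h1 a b
  · exact h2 a

theorem comm_mem_XX (p : ℕ) (a b : G) : ⁅a, b⁆ ∈ XX p G :=
  Subgroup.subset_normalClosure (Or.inl ⟨a, b, rfl⟩)

theorem pow_mem_XX (p : ℕ) (a : G) : a ^ (p - 1) ∈ XX p G :=
  Subgroup.subset_normalClosure (Or.inr ⟨a, rfl⟩)

/-- `p'`-elements of `XX` centralize normal cyclic `p`-subgroups -/
theorem XX_centralizes_cyclic [Finite G] {p : ℕ} [hp : Fact p.Prime] (R : Subgroup G)
    [hR : R.Normal] [hc : IsCyclic ↥R] (hRp : IsPGroup p R) (c : G) (hcX : c ∈ XX p G)
    (hco : (orderOf c).Coprime p) :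
    ∀ x ∈ R, c * x * c⁻¹ = x := by
  obtain ⟨j, hj⟩ := hRp.exists_card_eq
  let φ : G →* MulAut ↥R := MulAut.conjNormal (H := R)
  have hcard : ∀ α : MulAut ↥R, α ^ ((p - 1) * p ^ j) = 1 := by
    intro α
    have h1 : α ^ Nat.card (MulAut ↥R) = 1 := pow_card_eq_one'
    have h2 : Nat.card (MulAut ↥R) ∣ (p - 1) * p ^ j := by
      rw [IsCyclic.card_mulAut, hj]
      rcases Nat.eq_zero_or_pos j with rfl | hj0
      · simp
      · rw [Nat.totient_prime_pow hp.out hj0, mul_comm]
        exact Nat.mul_dvd_mul_left _ (pow_dvd_pow p (Nat.sub_le j 1))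
    obtain ⟨t, ht⟩ := h2
    rw [ht, pow_mul, h1, one_pow]
  let Y : Subgroup G :=
    { carrier := {u | (φ u) ^ (p ^ j) = 1}
      one_mem' := by simp
      mul_mem' := by
        intro u v hu hv
        simp only [Set.mem_setOf_eq] at hu hv ⊢
        rw [map_mul, (show Commute (φ u) (φ v) from mulAut_comm_of_isCyclic _ _).mul_pow, hu, hv,
          one_mul]
      inv_mem' := by
        intro u hu
        simp only [Set.mem_setOf_eq] at hu ⊢
        rw [map_inv, inv_pow, hu, inv_one] }
  have hYn : Y.Normal := by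
    refine ⟨fun u hu g => ?_⟩
    show (φ (g * u * g⁻¹)) ^ (p ^ j) = 1
    rw [map_mul, map_mul, map_inv, mulAut_comm_of_isCyclic (φ g) (φ u), mul_assoc,
      mul_inv_cancel, mul_one]
    exact hu
  have hle : XX p G ≤ Y := by
    haveI := hYn
    apply XX_le Y
    · intro a b
      show (φ ⁅a, b⁆) ^ (p ^ j) = 1
      rw [map_commutatorElement,
        commutatorElement_eq_one_iff_commute.mpr (mulAut_comm_of_isCyclic _ _), one_pow]
    · intro a
      show (φ (a ^ (p - 1))) ^ (p ^ j) = 1
      rw [map_pow, ← pow_mul]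
      exact hcard _
  have h1 : (φ c) ^ (p ^ j) = 1 := hle hcX
  have h2 : (φ c) ^ (orderOf c) = 1 := by rw [← map_pow, pow_orderOf_eq_one, map_one]
  have h3 : φ c = 1 := by
    have hd1 := orderOf_dvd_of_pow_eq_one h1
    have hd2 := orderOf_dvd_of_pow_eq_one h2
    have hcop : (p ^ j).Coprime (orderOf c) := Nat.Coprime.pow_left j hco.symm
    have h4 := Nat.dvd_gcd hd1 hd2
    rw [Nat.Coprime.gcd_eq_one hcop] at h4
    exact orderOf_eq_one_iff.mp (Nat.dvd_one.mp h4)
  intro x hx
  have h5 := congrArg (fun α : MulAut ↥R => ((α ⟨x, hx⟩ : ↥R) : G)) h3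
  simpa [φ, MulAut.conjNormal_apply] using h5

/-- `XX` acts trivially on a normal section of order `p` -/
theorem XX_trivial_on_prime_quotient [Finite G] {p : ℕ} [hp : Fact p.Prime] (K S : Subgroup G)
    [hK : K.Normal] [hS : S.Normal] (hKS : K ≤ S) (hcard : Nat.card S = p * Nat.card K)
    (u : G) (hu : u ∈ XX p G) : ∀ s ∈ S, u * s * u⁻¹ * s⁻¹ ∈ K := by
  have hS'card : Nat.card ↥(S.map (QuotientGroup.mk' K)) = p := by
    have h1 : (S.map (QuotientGroup.mk' K)).index = S.index :=
      Subgroup.index_map_eq S (QuotientGroup.mk'_surjective K)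
        (by rw [QuotientGroup.ker_mk']; exact hKS)
    have h2 := Subgroup.card_mul_index (S.map (QuotientGroup.mk' K))
    have h3 := Subgroup.card_mul_index S
    have h4 := Subgroup.card_eq_card_quotient_mul_card_subgroup K
    have h5 : S.index ≠ 0 := Subgroup.index_ne_zero_of_finite
    have h6 : 0 < Nat.card K := Nat.card_pos
    rw [h1] at h2
    have h7 : Nat.card ↥(S.map (QuotientGroup.mk' K)) * (S.index * Nat.card K) =
        p * (S.index * Nat.card K) := by
      calc _ = (Nat.card ↥(S.map (QuotientGroup.mk' K)) * S.index) * Nat.card K := by ring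
        _ = Nat.card (G ⧸ K) * Nat.card K := by rw [h2]
        _ = Nat.card G := h4.symm
        _ = Nat.card S * S.index := h3.symm
        _ = _ := by rw [hcard]; ring
    exact Nat.eq_of_mul_eq_mul_right (Nat.mul_pos (Nat.pos_of_ne_zero h5) h6) h7
  haveI : Fact (Nat.card ↥(S.map (QuotientGroup.mk' K))).Prime := ⟨by rw [hS'card]; exact hp.out⟩
  haveI : IsCyclic ↥(S.map (QuotientGroup.mk' K)) := isCyclic_of_prime_card rfl
  let ψ : G →* MulAut ↥(S.map (QuotientGroup.mk' K)) :=
    (MulAut.conjNormal (H := S.map (QuotientGroup.mk' K))).comp (QuotientGroup.mk' K)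
  have hpow : ∀ α : MulAut ↥(S.map (QuotientGroup.mk' K)), α ^ (p - 1) = 1 := by
    intro α
    have h1 : α ^ Nat.card (MulAut ↥(S.map (QuotientGroup.mk' K))) = 1 := pow_card_eq_one'
    rwa [IsCyclic.card_mulAut, hS'card, Nat.totient_prime hp.out] at h1
  have hle : XX p G ≤ ψ.ker := by
    apply XX_le ψ.ker
    · intro a b
      rw [MonoidHom.mem_ker, map_commutatorElement,
        commutatorElement_eq_one_iff_commute.mpr (mulAut_comm_of_isCyclic _ _)]
    · intro a
      rw [MonoidHom.mem_ker, map_pow]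
      exact hpow _
  have h1 : ψ u = 1 := hle hu
  intro s hs
  have h2 := congrArg (fun α : MulAut ↥(S.map (QuotientGroup.mk' K)) =>
    ((α ⟨QuotientGroup.mk' K s, Subgroup.mem_map_of_mem _ hs⟩ :
      ↥(S.map (QuotientGroup.mk' K))) : G ⧸ K)) h1
  simp only [ψ, MonoidHom.comp_apply, MulAut.conjNormal_apply, MulAut.one_apply] at h2
  have h3 : QuotientGroup.mk' K (u * s * u⁻¹ * s⁻¹) = 1 := by
    rw [map_mul, map_mul, map_mul, map_inv, map_inv, h2, mul_inv_cancel]
  exact (QuotientGroup.eq_one_iff _).mp h3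

/-- `p'`-elements of `XX` centralize a normal `p`-subgroup all of whose maximal subgroups are
normal in `G` -/
theorem XX_centralizes_of_maximal_normal [Finite G] {p : ℕ} [hp : Fact p.Prime] (S : Subgroup G)
    [hS : S.Normal] (hSp : IsPGroup p S)
    (hmax : ∀ K : Subgroup G, K ≤ S → Nat.card S = p * Nat.card K → K.Normal)
    (c : G) (hcX : c ∈ XX p G) (hco : (orderOf c).Coprime p) :
    S ≤ centralizer (zpowers c : Set G) := by
  by_contra hcon
  have hC0S : S ⊓ centralizer (zpowers c : Set G) ≤ S := inf_le_left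
  have hne : S ⊓ centralizer (zpowers c : Set G) ≠ S :=
    fun h => hcon (by rw [← h]; exact inf_le_right)
  obtain ⟨k, hk⟩ := hSp.exists_card_eq
  obtain ⟨i, hi⟩ := (hSp.to_le hC0S).exists_card_eq
  have hik : i < k := by
    have hle : Nat.card ↥(S ⊓ centralizer (zpowers c : Set G)) ≤ Nat.card S :=
      Subgroup.card_le_of_le hC0S
    have hne' : Nat.card ↥(S ⊓ centralizer (zpowers c : Set G)) ≠ Nat.card S :=
      fun h => hne (Subgroup.eq_of_le_of_card_ge hC0S h.ge)
    rw [hi, hk] at hle hne'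
    by_contra hge
    push Not at hge
    have := Nat.pow_le_pow_right hp.out.pos hge
    exact hne' (le_antisymm hle this)
  have hk1 : k - 1 + 1 = k := by omega
  obtain ⟨K, hC0K, hKS, hKcard⟩ := exists_between hSp hC0S (k - 1)
    (by rw [hi]; exact Nat.pow_le_pow_right hp.out.pos (by omega))
    (by rw [hk]; exact Nat.pow_le_pow_right hp.out.pos (by omega))
  have hSK : Nat.card S = p * Nat.card K := by rw [hk, hKcard, ← pow_succ', hk1]
  haveI hKn : K.Normal := hmax K hKS hSK
  have hzX : zpowers c ≤ XX p G := by rw [zpowers_le]; exact hcX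
  have hKp : IsPGroup p K := hSp.to_le hKS
  have hcop : (Nat.card (zpowers c)).Coprime (Nat.card K) := by
    rw [Nat.card_zpowers, hKcard]
    exact Nat.Coprime.pow_right _ hco
  have hSK' : S ≤ K := by
    intro s hs
    obtain ⟨n, hnK, hn⟩ := Cfsg.Agent.Lib.Helper24.fixed_point_lemma K (zpowers c)
      (by rw [normalizer_eq_top_iff.mpr hKn]; exact le_top) hcop
      (Or.inl (by haveI := hKp.isNilpotent; infer_instance)) s
      (fun a ha => XX_trivial_on_prime_quotient K S hKS hSK a (hzX ha) s hs)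
    have h1 : n⁻¹ * s ∈ S ⊓ centralizer (zpowers c : Set G) :=
      ⟨S.mul_mem (S.inv_mem (hKS hnK)) hs, hn⟩
    have h2 := hC0K h1
    have h3 : s = n * (n⁻¹ * s) := by group
    rw [h3]
    exact K.mul_mem hnK h2
  have h4 := Subgroup.card_le_of_le hSK'
  rw [hSK] at h4
  have hKpos : 0 < Nat.card K := Nat.card_pos
  have h5 : p * Nat.card K ≤ 1 * Nat.card K := by simpa using h4
  have h6 := Nat.le_of_mul_le_mul_right h5 hKpos
  have := hp.out.one_lt
  omega

end Cfsg.Agent.Lib.Helper68.HCyc
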