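import Mathlib
import Cfsg.Agent.Lib.Helper68.HCycC

set_option autoImplicit false

/-!
Tools for S3032 (part D): the supersolvability criterion.
-/

namespace Cfsg.Agent.Lib.Helper68.HCyc

open Subgroup Cfsg.Agent.Lib.Helper9 Cfsg.Agent.Lib.Helper68
open scoped commutatorElement

universe u

variable {G : Type u} [Group G]

/-- `p'`-elements of `XX` centralize a normal `p`-subgroup with a normal family of subgroups -/
theorem XX_centralizes [Finite G] {p : ℕ} [hp : Fact p.Prime] (Q : Subgroup G) [hQ : Q.Normal]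
    (hQp : IsPGroup p Q) (D : Subgroup G) (hDQ : D ≤ Q) (hD1 : 1 < Nat.card D)
    (hDlt : Nat.card D < Nat.card Q)
    (hfam : ∀ F : Subgroup G, F ≤ Q →
      (Nat.card F = Nat.card D ∨ (Nat.card D = 2 ∧ Nat.card F = 4)) → F.Normal)
    (c : G) (hcX : c ∈ XX p G) (hco : (orderOf c).Coprime p) :
    c ∈ centralizer (Q : Set G) := by
  have hp1 := hp.out.one_lt
  have hp0 := hp.out.pos
  obtain ⟨d, hd⟩ := (hQp.to_le hDQ).exists_card_eq
  obtain ⟨k, hk⟩ := hQp.exists_card_eq
  have hd1 : 1 ≤ d := by
    rcases Nat.eq_zero_or_pos d with rfl | h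
    · rw [hd] at hD1
      simp at hD1
    · exact h
  have hdk : d < k := by
    rw [hd, hk] at hDlt
    exact (Nat.pow_lt_pow_iff_right hp1).mp hDlt
  -- cyclic case
  have hA : ∀ R : Subgroup G, R ≤ Q → R.Normal → IsCyclic ↥R → ∀ x ∈ R, c * x = x * c := by
    intro R hRQ hRn hRc x hx
    haveI := hRn
    haveI := hRc
    have h1 := XX_centralizes_cyclic R (hQp.to_le hRQ) c hcX hco x hx
    calc c * x = (c * x * c⁻¹) * c := by group
      _ = x * c := by rw [h1]
  -- noncyclic of order |D|
  have hB : ∀ R : Subgroup G, R ≤ Q → Nat.card R = Nat.card D → ¬ IsCyclic ↥R →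
      ∀ x ∈ R, c * x = x * c := by
    intro R hRQ hRcard hRnc x hx
    have hRn : R.Normal := hfam R hRQ (Or.inl hRcard)
    obtain ⟨R1, hRR1, hR1Q, hR1card⟩ := exists_between hQp hRQ (d + 1)
      (by rw [hRcard, hd]; exact Nat.pow_le_pow_right hp0 (by omega))
      (by rw [hk]; exact Nat.pow_le_pow_right hp0 (by omega))
    have hR1p := hQp.to_le hR1Q
    have hR1nc : ¬ IsCyclic ↥R1 := fun h => hRnc (by haveI := h; exact Subgroup.isCyclic_of_le hRR1)
    have hfam1 : ∀ K : Subgroup G, K ≤ R1 → Nat.card R1 = p * Nat.card K → K.Normal := by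
      intro K hK hKc
      apply hfam K (hK.trans hR1Q)
      left
      rw [hR1card, pow_succ'] at hKc
      rw [hd]
      exact (Nat.eq_of_mul_eq_mul_left hp0 hKc).symm
    have hRne : R ≠ R1 := by
      intro h
      rw [h, hR1card, hd] at hRcard
      have := Nat.pow_right_injective hp1 hRcard
      omega
    obtain ⟨g, hgR1, hgR⟩ : ∃ g ∈ R1, g ∉ R := by
      by_contra hcon
      push Not at hcon
      exact hRne (le_antisymm hRR1 hcon)
    have hzle : zpowers g ≤ R1 := by rw [zpowers_le]; exact hgR1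
    have hzne : zpowers g ≠ R1 := by
      intro h
      apply hR1nc
      rw [← h]
      infer_instance
    obtain ⟨i, hi⟩ := (hR1p.to_le hzle).exists_card_eq
    have hid : i ≤ d := by
      have hle : Nat.card (zpowers g) ≤ Nat.card R1 := Subgroup.card_le_of_le hzle
      have hne' : Nat.card (zpowers g) ≠ Nat.card R1 :=
        fun h => hzne (Subgroup.eq_of_le_of_card_ge hzle h.ge)
      rw [hi, hR1card] at hle hne'
      have h1 : i ≤ d + 1 := (Nat.pow_le_pow_iff_right hp1).mp hle
      have h2 : i ≠ d + 1 := fun h => hne' (by rw [h])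
      omega
    obtain ⟨R', hzR', hR'R1, hR'card⟩ := exists_between hR1p hzle d
      (by rw [hi]; exact Nat.pow_le_pow_right hp0 hid)
      (by rw [hR1card]; exact Nat.pow_le_pow_right hp0 (by omega))
    have hR'n : R'.Normal := hfam1 R' hR'R1 (by rw [hR1card, hR'card, pow_succ'])
    have hsup : R ⊔ R' = R1 := by
      apply Subgroup.eq_of_le_of_card_ge (sup_le hRR1 hR'R1)
      obtain ⟨j, hj⟩ := (hR1p.to_le (sup_le hRR1 hR'R1)).exists_card_eq
      have hRlt : Nat.card R < Nat.card ↥(R ⊔ R') := by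
        apply lt_of_le_of_ne (Subgroup.card_le_of_le le_sup_left)
        intro h
        have h1 := Subgroup.eq_of_le_of_card_ge (le_sup_left : R ≤ R ⊔ R') h.ge
        apply hgR
        rw [h1]
        exact (le_sup_right : R' ≤ R ⊔ R') (hzR' (mem_zpowers g))
      rw [hRcard, hd, hj] at hRlt
      have h2 : d < j := (Nat.pow_lt_pow_iff_right hp1).mp hRlt
      rw [hR1card, hj]
      exact Nat.pow_le_pow_right hp0 h2
    haveI hR1n : R1.Normal := by
      rw [← hsup]
      haveI := hRn
      haveI := hR'n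
      exact Subgroup.sup_normal R R'
    have h3 := XX_centralizes_of_maximal_normal R1 hR1p hfam1 c hcX hco (hRR1 hx)
    exact (mem_centralizer_iff.mp h3 c (mem_zpowers c))
  apply omega_theorem Q hQp c hco (by rw [normalizer_eq_top_iff.mpr hQ]; trivial)
  intro x hx hox
  have hzQ : zpowers x ≤ Q := by rw [zpowers_le]; exact hx
  by_cases hcase : Nat.card D = 2 ∧ orderOf x = 4
  · have hzn : (zpowers x).Normal :=
      hfam _ hzQ (Or.inr ⟨hcase.1, by rw [Nat.card_zpowers]; exact hcase.2⟩)
    exact hA _ hzQ hzn inferInstance x (mem_zpowers x)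
  · have hle : Nat.card (zpowers x) ≤ p ^ d := by
      rw [Nat.card_zpowers]
      rcases hox with h | ⟨h2, h4⟩
      · rw [h]
        calc p = p ^ 1 := (pow_one p).symm
          _ ≤ p ^ d := Nat.pow_le_pow_right hp0 hd1
      · rw [h4]
        have hd2 : 2 ≤ d := by
          by_contra hlt
          push Not at hlt
          have hd' : d = 1 := by omega
          apply hcase
          refine ⟨by rw [hd, hd', h2]; norm_num, h4⟩
        rw [h2]
        calc 4 = 2 ^ 2 := by norm_num
          _ ≤ 2 ^ d := Nat.pow_le_pow_right (by norm_num) hd2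
    obtain ⟨R, hzR, hRQ, hRcard⟩ := exists_between hQp hzQ d hle
      (by rw [hk]; exact Nat.pow_le_pow_right hp0 hdk.le)
    have hRcard' : Nat.card R = Nat.card D := by rw [hRcard, hd]
    by_cases hRc : IsCyclic ↥R
    · exact hA R hRQ (hfam R hRQ (Or.inl hRcard')) hRc x (hzR (mem_zpowers x))
    · exact hB R hRQ hRcard' hRc x (hzR (mem_zpowers x))

/-- **Criterion.** `Q` a normal `p`-subgroup of `G` with `G ⧸ Q` supersolvable; `Q` cyclic, or all
subgroups of `Q` of some order `|D|` with `1 < |D| < |Q|` (and of order `4` if `|D| = 2`) normal in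
`G`. Then `G` is supersolvable. -/
theorem supersolvable_of_normal_family [Finite G] {p : ℕ} [hp : Fact p.Prime] (Q : Subgroup G)
    [hQ : Q.Normal] (hQp : IsPGroup p Q) (hss : Cfsg.IsSupersolvable (G ⧸ Q))
    (hcond : IsCyclic ↥Q ∨ ∃ D : Subgroup G, D ≤ Q ∧ 1 < Nat.card D ∧ Nat.card D < Nat.card Q ∧
      ∀ F : Subgroup G, F ≤ Q →
        (Nat.card F = Nat.card D ∨ (Nat.card D = 2 ∧ Nat.card F = 4)) → F.Normal) :
    Cfsg.IsSupersolvable G := by
  rcases hcond with hc | ⟨D, hDQ, hD1, hDlt, hfam⟩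
  · haveI := hc
    exact isSupersolvable_of_cyclic_normal_quotient Q hss
  · refine ss_main (p := p) _ G Q (XX p G) rfl hQp (comm_mem_XX p) (pow_mem_XX p) ?_ hss
    refine ⟨(Nat.card G).factorization p, ?_⟩
    intro c hc
    apply XX_centralizes Q hQp D hDQ hD1 hDlt hfam _ (Subgroup.pow_mem _ hc _)
    have h1 : (c ^ (p ^ (Nat.card G).factorization p)) ^
        (Nat.card G / p ^ (Nat.card G).factorization p) = 1 := by
      rw [← pow_mul, Nat.ordProj_mul_ordCompl_eq_self, pow_card_eq_one']
    have h2 := orderOf_dvd_of_pow_eq_one h1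
    have h3 : (Nat.card G / p ^ (Nat.card G).factorization p).Coprime p :=
      (Nat.coprime_ordCompl hp.out Nat.card_pos.ne').symm
    exact Nat.Coprime.coprime_dvd_left h2 h3

end Cfsg.Agent.Lib.Helper68.HCyc
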