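import Cfsg.Agent.Lib.Helper15.HsBasic

/-! # Ha hive (helper14, S2534): leaf HA-DH `dpi_exists_hall` -/

set_option autoImplicit false

namespace Cfsg.Agent.Lib.Helper14.Ha

open Cfsg Cfsg.Agent.Lib.Helper15.Hs

theorem dh_exists_le_maximal {G : Type*} [Group G] [Finite G] (π : Set ℕ) (X : Subgroup G)
    (hX : IsPiSubgroup π X) : ∃ K : Subgroup G, X ≤ K ∧ Maximal (IsPiSubgroup π) K :=
  Set.Finite.exists_le_maximal (s := {Y : Subgroup G | IsPiSubgroup π Y}) (Set.toFinite _) hX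

theorem dh_card_map_conj {G : Type*} [Group G] (g : G) (M : Subgroup G) :
    Nat.card (M.map (MulAut.conj g).toMonoidHom) = Nat.card M :=
  Subgroup.card_map_of_injective (MulAut.conj g).injective

theorem dpi_exists_hall {G : Type*} [Group G] [Finite G] (π : Set ℕ) (h : IsDPiGroup π G) :
    ∃ M : Subgroup G, IsPiHall π M ∧
      ∀ X : Subgroup G, IsPiSubgroup π X → ∃ g : G, X ≤ M.map (MulAut.conj g).toMonoidHom := by
  classical
  have hbot : IsPiSubgroup π (⊥ : Subgroup G) := by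
    intro p hp hpd
    rw [Subgroup.card_bot] at hpd
    exact absurd (Nat.dvd_one.1 hpd) hp.ne_one
  obtain ⟨M, -, hM⟩ := dh_exists_le_maximal π ⊥ hbot
  have hconj : ∀ X : Subgroup G, IsPiSubgroup π X →
      ∃ g : G, X ≤ M.map (MulAut.conj g).toMonoidHom := by
    intro X hX
    obtain ⟨K, hXK, hK⟩ := dh_exists_le_maximal π X hX
    obtain ⟨g, hg⟩ := h M K hM hK
    exact ⟨g, hg ▸ hXK⟩
  refine ⟨M, ⟨hM.1, ?_⟩, hconj⟩
  intro p hp hpπ hdvd
  haveI : Fact p.Prime := ⟨hp⟩
  let P : Sylow p G := default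
  have hP : IsPiSubgroup π (P : Subgroup G) := by
    intro q hq hqd
    obtain ⟨k, hk⟩ := IsPGroup.iff_card.1 P.isPGroup'
    rw [hk] at hqd
    have := (Nat.prime_dvd_prime_iff_eq hq hp).1 (hq.dvd_of_dvd_pow hqd)
    rw [this]; exact hpπ
  obtain ⟨g, hg⟩ := hconj P hP
  have h1 : Nat.card (P : Subgroup G) ∣ Nat.card M := by
    rw [← dh_card_map_conj g M]
    exact Subgroup.card_dvd_of_le hg
  have h2 : Nat.card (P : Subgroup G) * (P : Subgroup G).index = Nat.card G :=
    Subgroup.card_mul_index _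
  have h3 : Nat.card M * M.index = Nat.card G := Subgroup.card_mul_index _
  have h4 : Nat.card (P : Subgroup G) * p ∣ Nat.card (P : Subgroup G) * (P : Subgroup G).index := by
    rw [h2, ← h3]
    exact Nat.mul_dvd_mul h1 hdvd
  have h5 : p ∣ (P : Subgroup G).index := Nat.dvd_of_mul_dvd_mul_left Nat.card_pos h4
  exact P.not_dvd_index h5

end Cfsg.Agent.Lib.Helper14.Ha
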