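import Cfsg.Agent.Lib.Helper30.L34.Defs

/-! # L34 hive (helper30, S2088): BACKUP copy of leaf KER (named seat helper33 owns `exists_mulEquiv_ker`) -/

set_option autoImplicit false

namespace Cfsg.Agent.Lib.Helper30.L34

open Cfsg.Agent.Lib.Helper28.Sp44F4

universe u

theorem kerb_two {Z : Type u} [CommGroup Z] (B C : Z) (hB : B ≠ 1) (hC : C ≠ 1) (hBC : B * C ≠ 1)
    (s t : ℕ) (hs : s < 2) (ht : t < 2) (h : B ^ s * C ^ t = 1) : s = 0 ∧ t = 0 := by
  interval_cases s <;> interval_cases t <;> simp_all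

theorem kerb_comm {Z : Type u} [CommGroup Z] [Finite Z]
    (hcard : Nat.card Z ≤ 48) (a b c : Z) (ha : a ^ 3 = 1) (hb : b ^ 4 = 1) (hc : c ^ 4 = 1)
    (ha1 : a ≠ 1) (hb2 : b ^ 2 ≠ 1) (hc2 : c ^ 2 ≠ 1) (hbc : b ^ 2 * c ^ 2 ≠ 1) :
    Nonempty (Z ≃* Multiplicative (ZMod 3 × ZMod 4 × ZMod 4)) := by
  classical
  let f : Multiplicative (ZMod 3 × ZMod 4 × ZMod 4) →* Z :=
    { toFun := fun x => a ^ (Multiplicative.toAdd x).1.val * b ^ (Multiplicative.toAdd x).2.1.val *
        c ^ (Multiplicative.toAdd x).2.2.val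
      map_one' := by simp
      map_mul' := by
        intro x y
        simp only [toAdd_mul, Prod.fst_add, Prod.snd_add, ZMod.val_add]
        rw [← pow_eq_pow_mod _ ha, ← pow_eq_pow_mod _ hb, ← pow_eq_pow_mod _ hc, pow_add, pow_add,
          pow_add]
        ac_rfl }
  have hf : ∀ x, f x = a ^ (Multiplicative.toAdd x).1.val * b ^ (Multiplicative.toAdd x).2.1.val *
        c ^ (Multiplicative.toAdd x).2.2.val := fun _ => rfl
  have ho : orderOf a = 3 := by
    haveI : Fact (Nat.Prime 3) := ⟨by norm_num⟩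
    exact orderOf_eq_prime ha ha1
  have hinj : Function.Injective f := by
    rw [injective_iff_map_eq_one]
    intro x hx
    rw [hf] at hx
    obtain ⟨y, rfl⟩ := Multiplicative.ofAdd.surjective x
    obtain ⟨i, j, k⟩ := y
    simp only [toAdd_ofAdd] at hx
    have hi3 : i.val < 3 := ZMod.val_lt i
    have hj4 : j.val < 4 := ZMod.val_lt j
    have hk4 : k.val < 4 := ZMod.val_lt k
    -- step 1: `i = 0`
    have h4 := congrArg (· ^ 4) hx
    simp only [mul_pow, one_pow, ← pow_mul] at h4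
    rw [pow_mul' b, pow_mul' c, hb, hc, one_pow, one_pow, mul_one, mul_one] at h4
    have hdvd : 3 ∣ i.val * 4 := by
      have := orderOf_dvd_of_pow_eq_one h4
      rwa [ho] at this
    have hi0 : i.val = 0 := by omega
    rw [hi0, pow_zero, one_mul] at hx
    -- step 2: parities
    have hjd : j.val = 2 * (j.val / 2) + j.val % 2 := (Nat.div_add_mod _ _).symm
    have hkd : k.val = 2 * (k.val / 2) + k.val % 2 := (Nat.div_add_mod _ _).symm
    have h2 := congrArg (· ^ 2) hx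
    simp only [mul_pow, one_pow, ← pow_mul] at h2
    have hbj : b ^ (j.val * 2) = (b ^ 2) ^ (j.val % 2) := by
      conv_lhs => rw [hjd]
      rw [show (2 * (j.val / 2) + j.val % 2) * 2 = 4 * (j.val / 2) + 2 * (j.val % 2) by ring,
        pow_add, pow_mul, hb, one_pow, one_mul, pow_mul]
    have hck : c ^ (k.val * 2) = (c ^ 2) ^ (k.val % 2) := by
      conv_lhs => rw [hkd]
      rw [show (2 * (k.val / 2) + k.val % 2) * 2 = 4 * (k.val / 2) + 2 * (k.val % 2) by ring,
        pow_add, pow_mul, hc, one_pow, one_mul, pow_mul]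
    rw [hbj, hck] at h2
    obtain ⟨hj0, hk0⟩ := kerb_two (b ^ 2) (c ^ 2) hb2 hc2 hbc _ _ (Nat.mod_lt _ (by norm_num))
      (Nat.mod_lt _ (by norm_num)) h2
    have hbj' : b ^ j.val = (b ^ 2) ^ (j.val / 2) := by
      conv_lhs => rw [hjd, hj0, add_zero, pow_mul]
    have hck' : c ^ k.val = (c ^ 2) ^ (k.val / 2) := by
      conv_lhs => rw [hkd, hk0, add_zero, pow_mul]
    rw [hbj', hck'] at hx
    obtain ⟨hj1, hk1⟩ := kerb_two (b ^ 2) (c ^ 2) hb2 hc2 hbc _ _ (by omega) (by omega) hx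
    have hj : j.val = 0 := by omega
    have hk : k.val = 0 := by omega
    have e1 : i = 0 := (ZMod.val_eq_zero i).1 hi0
    have e2 : j = 0 := (ZMod.val_eq_zero j).1 hj
    have e3 : k = 0 := (ZMod.val_eq_zero k).1 hk
    subst e1 e2 e3
    rfl
  have hcard' : Nat.card (Multiplicative (ZMod 3 × ZMod 4 × ZMod 4)) = 48 := by
    rw [Nat.card_eq_fintype_card]
    simp [Fintype.card_prod, ZMod.card]
  have hbij : Function.Bijective f := by
    apply hinj.bijective_of_nat_card_le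
    rw [hcard']
    exact hcard
  exact ⟨(MulEquiv.ofBijective f hbij).symm⟩

theorem kerb_exists_mulEquiv_ker {Z : Type u} [Group Z] [Finite Z] (hcomm : ∀ x y : Z, x * y = y * x)
    (hcard : Nat.card Z ≤ 48) (a b c : Z) (ha : a ^ 3 = 1) (hb : b ^ 4 = 1) (hc : c ^ 4 = 1)
    (ha1 : a ≠ 1) (hb2 : b ^ 2 ≠ 1) (hc2 : c ^ 2 ≠ 1) (hbc : b ^ 2 * c ^ 2 ≠ 1) :
    Nonempty (Z ≃* Multiplicative (ZMod 3 × ZMod 4 × ZMod 4)) := by
  letI : CommGroup Z := { (inferInstance : Group Z) with mul_comm := hcomm }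
  exact kerb_comm hcard a b c ha hb hc ha1 hb2 hc2 hbc

end Cfsg.Agent.Lib.Helper30.L34
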