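import Cfsg.Agent.Lib.Helper4.LcDefs

/-! # Lc hive (S0406, helper4): leaf LC-FLIP `fr_flip` + `code_flip` (helper68): sign changes preserve `Fr`
and the code. -/

set_option autoImplicit false
open Matrix

namespace Cfsg.Agent.Lib.Helper4.Lc

open Cfsg.Agent.Lib.Golay.Cross48 (Hyp Qf bf)

variable {Λ : AddSubgroup V}

theorem lcflip_sq_one {s : V} (hs : IsSign s) (i : Fin 24) : s i * s i = 1 := by
  rcases hs i with h | h <;> rw [h] <;> norm_num

/-- `flip s` is an involution -/
theorem lcflip_flip_flip {s : V} (hs : IsSign s) (v : V) : flip s (flip s v) = v := by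
  funext i
  rw [flip_apply, flip_apply, ← mul_assoc, lcflip_sq_one hs, one_mul]

theorem lcflip_sq {s : V} (hs : IsSign s) (v : V) : sq (flip s v) = sq v := by
  unfold sq
  refine Finset.sum_congr rfl fun i _ => ?_
  rw [flip_apply, mul_pow, pow_two (s i), lcflip_sq_one hs, one_mul]

theorem lcflip_dot {s : V} (hs : IsSign s) (v w : V) : dot (flip s v) (flip s w) = dot v w := by
  unfold dot
  refine Finset.sum_congr rfl fun i _ => ?_
  rw [flip_apply, flip_apply]
  calc s i * v i * (s i * w i) = (s i * s i) * (v i * w i) := by ring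
    _ = v i * w i := by rw [lcflip_sq_one hs, one_mul]

theorem lcflip_single (s : V) (i : Fin 24) (c : ℤ) : flip s (Pi.single i c) = Pi.single i (s i * c) := by
  funext j
  rw [flip_apply]
  by_cases hj : j = i
  · subst hj; simp
  · simp [hj]

/-- LC-FLIP (1) -/
theorem fr_flip (h : Fr Λ) (s : V) (hs : IsSign s) : Fr (Λ.comap (flip s)) := by
  have hneg8 : ∀ i : Fin 24, (Pi.single i (-8) : V) ∈ Λ := by
    intro i
    have := Λ.neg_mem (h.e8 i)
    have e : -(Pi.single i 8 : V) = Pi.single i (-8) := by
      funext j; by_cases hj : j = i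
      · subst hj; simp
      · simp [hj]
    rwa [e] at this
  refine ⟨?_, ?_, ?_, ?_, ?_, ?_⟩
  · intro v hv w hw
    rw [← lcflip_dot hs]
    exact h.dot8 _ hv _ hw
  · intro v hv
    rw [← lcflip_sq hs]
    exact h.sq16 _ hv
  · intro v hv
    rw [← lcflip_sq hs]
    exact h.no16 _ hv
  · intro i
    show flip s (Pi.single i 8) ∈ Λ
    rw [lcflip_single]
    rcases hs i with h1 | h1 <;> rw [h1]
    · simpa using h.e8 i
    · simpa using hneg8 i
  · intro i j hij
    show flip s (Pi.single i 4 + Pi.single j 4) ∈ Λ
    rw [map_add, lcflip_single, lcflip_single]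
    have h44 := h.e44 i j hij
    rcases hs i with h1 | h1 <;> rcases hs j with h2 | h2 <;> rw [h1, h2]
    · simpa using h44
    · have : (Pi.single i (1 * 4) + Pi.single j (-1 * 4) : V) =
          (Pi.single i 4 + Pi.single j 4) + Pi.single j (-8) := by
        funext k
        simp only [Pi.add_apply]
        by_cases hk : k = j
        · subst hk; simp [hij.symm]
        · simp [hk]
      rw [this]
      exact Λ.add_mem h44 (hneg8 j)
    · have : (Pi.single i (-1 * 4) + Pi.single j (1 * 4) : V) =
          (Pi.single i 4 + Pi.single j 4) + Pi.single i (-8) := by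
        funext k
        simp only [Pi.add_apply]
        by_cases hk : k = i
        · subst hk; simp [hij]
        · simp [hk]
      rw [this]
      exact Λ.add_mem h44 (hneg8 i)
    · have : (Pi.single i (-1 * 4) + Pi.single j (-1 * 4) : V) =
          -(Pi.single i 4 + Pi.single j 4) := by
        funext k
        simp only [Pi.add_apply, Pi.neg_apply]
        by_cases hk : k = i
        · subst hk; simp [hij]
        · by_cases hk' : k = j
          · subst hk'; simp [hk]
          · simp [hk, hk']
      rw [this]
      exact Λ.neg_mem h44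
  · rw [← h.cnt]
    apply Set.ncard_congr (fun v _ => flip s v)
    · rintro v ⟨hv, hv32⟩
      exact ⟨hv, by rw [lcflip_sq hs]; exact hv32⟩
    · rintro v w _ _ hvw
      have := congrArg (flip s) hvw
      rwa [lcflip_flip_flip hs, lcflip_flip_flip hs] at this
    · rintro w ⟨hw, hw32⟩
      refine ⟨flip s w, ⟨?_, ?_⟩, lcflip_flip_flip hs w⟩
      · show flip s (flip s w) ∈ Λ
        rw [lcflip_flip_flip hs]
        exact hw
      · rw [lcflip_sq hs]
        exact hw32

/-- LC-FLIP (2) -/
theorem code_flip (s : V) (hs : IsSign s) : code (Λ.comap (flip s)) = code Λ := by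
  have hred : ∀ a : V, red (flip s a) = red a := by
    intro a
    funext i
    rw [red_apply, red_apply, flip_apply]
    rcases hs i with h1 | h1 <;> rw [h1]
    · simp
    · push_cast
      have : (-1 : ZMod 2) = 1 := by decide
      rw [this, one_mul]
  have hdbl : ∀ a : V, flip s (dbl a) = dbl (flip s a) := by
    intro a
    funext i
    simp only [flip_apply, dbl_apply]
    ring
  ext c
  rw [mem_code, mem_code]
  constructor
  · rintro ⟨a, ha, rfl⟩
    refine ⟨flip s a, ?_, hred a⟩
    rw [← hdbl]
    exact ha
  · rintro ⟨a, ha, rfl⟩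
    refine ⟨flip s a, ?_, hred a⟩
    show flip s (dbl (flip s a)) ∈ Λ
    rw [hdbl, lcflip_flip_flip hs]
    exact ha

end Cfsg.Agent.Lib.Helper4.Lc
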