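import Cfsg.Agent.Lib.Helper21.Lq.Defs
import Cfsg.Agent.Lib.Helper13.SpParabolic

set_option autoImplicit false

/-! # Lq hive (helper21, S2333): leaf C-LIFT `exists_lift` -/

namespace Cfsg.Agent.Lib.Helper21.Lq

open Module Cfsg.Agent.Lib.Helper6.Ls Cfsg.Agent.Lib.Helper13

section cliftaux

variable {F : Type*} [Field F]

/-- restriction of a vector to the first `k` coordinates of each half -/
def cliftRes {k : ℕ} (x : Vec F (k + 1)) : Vec F k :=
  fun s => x (Sum.map Fin.castSucc Fin.castSucc s)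

/-- a vector from its restriction and its two last coordinates -/
def cliftUp {k : ℕ} (y : Vec F k) (a b : F) : Vec F (k + 1) :=
  Sum.elim (Fin.snoc (α := fun _ => F) (fun i => y (Sum.inl i)) a)
    (Fin.snoc (α := fun _ => F) (fun i => y (Sum.inr i)) b)

theorem clift_pad_eq {k : ℕ} (v : Vec F k) : pad v = cliftUp v 0 0 := rfl

theorem clift_up_inl_cs {k : ℕ} (y : Vec F k) (a b : F) (i : Fin k) :
    cliftUp y a b (Sum.inl i.castSucc) = y (Sum.inl i) := by
  simp [cliftUp]

theorem clift_up_inr_cs {k : ℕ} (y : Vec F k) (a b : F) (i : Fin k) :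
    cliftUp y a b (Sum.inr i.castSucc) = y (Sum.inr i) := by
  simp [cliftUp]

theorem clift_up_inl_last {k : ℕ} (y : Vec F k) (a b : F) :
    cliftUp y a b (Sum.inl (Fin.last k)) = a := by
  simp [cliftUp]

theorem clift_up_inr_last {k : ℕ} (y : Vec F k) (a b : F) :
    cliftUp y a b (Sum.inr (Fin.last k)) = b := by
  simp [cliftUp]

theorem clift_vec_ext {k : ℕ} {x y : Vec F (k + 1)} (h1 : cliftRes x = cliftRes y)
    (h2 : x (Sum.inl (Fin.last k)) = y (Sum.inl (Fin.last k)))
    (h3 : x (Sum.inr (Fin.last k)) = y (Sum.inr (Fin.last k))) : x = y := by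
  funext s
  rcases s with j | j
  · refine Fin.lastCases h2 (fun i => ?_) j
    exact congrFun h1 (Sum.inl i)
  · refine Fin.lastCases h3 (fun i => ?_) j
    exact congrFun h1 (Sum.inr i)

theorem clift_res_up {k : ℕ} (y : Vec F k) (a b : F) : cliftRes (cliftUp y a b) = y := by
  funext s
  rcases s with i | i
  · exact clift_up_inl_cs y a b i
  · exact clift_up_inr_cs y a b i

theorem clift_res_add {k : ℕ} (x y : Vec F (k + 1)) : cliftRes (x + y) = cliftRes x + cliftRes y := rfl

theorem clift_res_smul {k : ℕ} (c : F) (x : Vec F (k + 1)) : cliftRes (c • x) = c • cliftRes x := rfl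

/-- the lifted linear map -/
def cliftLin {k : ℕ} (A : Matrix (Fin k ⊕ Fin k) (Fin k ⊕ Fin k) F) :
    Vec F (k + 1) →ₗ[F] Vec F (k + 1) where
  toFun x := cliftUp (Matrix.mulVec A (cliftRes x)) (x (Sum.inl (Fin.last k))) (x (Sum.inr (Fin.last k)))
  map_add' x y := by
    apply clift_vec_ext
    · simp only [clift_res_up, clift_res_add, Matrix.mulVec_add]
    · simp only [clift_up_inl_last, Pi.add_apply]
    · simp only [clift_up_inr_last, Pi.add_apply]
  map_smul' c x := by
    apply clift_vec_ext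
    · simp only [clift_res_up, clift_res_smul, Matrix.mulVec_smul, RingHom.id_apply]
    · simp only [clift_up_inl_last, Pi.smul_apply, RingHom.id_apply]
    · simp only [clift_up_inr_last, Pi.smul_apply, RingHom.id_apply]

/-- the lifted matrix -/
noncomputable def cliftMat {k : ℕ} (A : Matrix (Fin k ⊕ Fin k) (Fin k ⊕ Fin k) F) :
    Matrix (Fin (k + 1) ⊕ Fin (k + 1)) (Fin (k + 1) ⊕ Fin (k + 1)) F :=
  LinearMap.toMatrix' (cliftLin A)

theorem clift_mulVec {k : ℕ} (A : Matrix (Fin k ⊕ Fin k) (Fin k ⊕ Fin k) F) (x : Vec F (k + 1)) :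
    Matrix.mulVec (cliftMat A) x =
      cliftUp (Matrix.mulVec A (cliftRes x)) (x (Sum.inl (Fin.last k))) (x (Sum.inr (Fin.last k))) :=
  LinearMap.toMatrix'_mulVec _ _

theorem clift_res_mulVec {k : ℕ} (A : Matrix (Fin k ⊕ Fin k) (Fin k ⊕ Fin k) F) (x : Vec F (k + 1)) :
    cliftRes (Matrix.mulVec (cliftMat A) x) = Matrix.mulVec A (cliftRes x) := by
  rw [clift_mulVec, clift_res_up]

theorem clift_mat_mul {k : ℕ} (A B : Matrix (Fin k ⊕ Fin k) (Fin k ⊕ Fin k) F) :
    cliftMat (A * B) = cliftMat A * cliftMat B := by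
  rw [Matrix.ext_iff_mulVec]
  intro x
  rw [← Matrix.mulVec_mulVec, clift_mulVec, clift_mulVec A, clift_res_mulVec, clift_mulVec B,
    clift_up_inl_last, clift_up_inr_last, Matrix.mulVec_mulVec]

theorem clift_mat_one {k : ℕ} :
    cliftMat (1 : Matrix (Fin k ⊕ Fin k) (Fin k ⊕ Fin k) F) = 1 := by
  rw [Matrix.ext_iff_mulVec]
  intro x
  rw [clift_mulVec, Matrix.one_mulVec, Matrix.one_mulVec]
  apply clift_vec_ext
  · rw [clift_res_up]
  · rw [clift_up_inl_last]
  · rw [clift_up_inr_last]

theorem clift_sympForm {k : ℕ} (x y : Vec F (k + 1)) :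
    Cfsg.sympForm (k + 1) F x y = Cfsg.sympForm k F (cliftRes x) (cliftRes y) +
      (x (Sum.inr (Fin.last k)) * y (Sum.inl (Fin.last k)) -
        x (Sum.inl (Fin.last k)) * y (Sum.inr (Fin.last k))) := by
  rw [sympForm_expand, sympForm_expand, Fin.sum_univ_castSucc]
  rfl

theorem clift_mat_mem {k : ℕ} {A : Matrix (Fin k ⊕ Fin k) (Fin k ⊕ Fin k) F}
    (hA : A ∈ Matrix.symplecticGroup (Fin k) F) :
    cliftMat A ∈ Matrix.symplecticGroup (Fin (k + 1)) F := by
  apply mem_symplectic_of_preserves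
  intro u v
  rw [clift_sympForm, clift_res_mulVec, clift_res_mulVec, preserves_of_mem_symplectic k A hA,
    clift_sympForm u v, clift_mulVec, clift_mulVec, clift_up_inl_last, clift_up_inr_last,
    clift_up_inl_last, clift_up_inr_last]

/-- the embedding `Sp_{2k} → Sp_{2k+2}` -/
noncomputable def cliftHom (F : Type*) [Field F] (k : ℕ) : Spg F k →* Spg F (k + 1) where
  toFun g := ⟨cliftMat g.1, clift_mat_mem g.2⟩
  map_one' := Subtype.ext clift_mat_one
  map_mul' a b := Subtype.ext (clift_mat_mul a.1 b.1)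

theorem clift_hom_coe {k : ℕ} (g : Spg F k) :
    ((cliftHom F k g : Spg F (k + 1)) : Matrix _ _ F) = cliftMat g.1 := rfl

theorem clift_res_e0 (k : ℕ) : cliftRes (e0 F k) = 0 := by
  funext s
  rcases s with i | i
  · simp [cliftRes, e0, Pi.single_apply, (Fin.castSucc_lt_last i).ne]
  · simp [cliftRes, e0]

theorem clift_fix_e0 {k : ℕ} (A : Matrix (Fin k ⊕ Fin k) (Fin k ⊕ Fin k) F) :
    Matrix.mulVec (cliftMat A) (e0 F k) = e0 F k := by
  rw [clift_mulVec, clift_res_e0, Matrix.mulVec_zero]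
  apply clift_vec_ext
  · rw [clift_res_up, clift_res_e0]
  · rw [clift_up_inl_last]
  · rw [clift_up_inr_last]

/-- a symplectic matrix fixing `e` commutes with the transvections with centre `e` -/
theorem clift_comm_transv {m : ℕ} (M : Matrix (Fin m ⊕ Fin m) (Fin m ⊕ Fin m) F)
    (hM : M ∈ Matrix.symplecticGroup (Fin m) F) (e : Vec F m) (he : Matrix.mulVec M e = e) (c : F) :
    M * Cfsg.sympTransvection m e c = Cfsg.sympTransvection m e c * M := by
  rw [Matrix.ext_iff_mulVec]
  intro x
  rw [← Matrix.mulVec_mulVec, ← Matrix.mulVec_mulVec, sympTransvection_mulVec,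
    sympTransvection_mulVec, Matrix.mulVec_add, Matrix.mulVec_smul, he]
  congr 3
  conv_rhs => rw [← he]
  rw [preserves_of_mem_symplectic m M hM]

/-- the lift of a transvection is the transvection with padded centre -/
theorem clift_transv {k : ℕ} (u0 : Vec F k) (c : F) :
    cliftMat (Cfsg.sympTransvection k u0 c) = Cfsg.sympTransvection (k + 1) (pad u0) c := by
  rw [Matrix.ext_iff_mulVec]
  intro x
  rw [clift_mulVec, sympTransvection_mulVec, sympTransvection_mulVec]
  have hf : Cfsg.sympForm (k + 1) F x (pad u0) = Cfsg.sympForm k F (cliftRes x) u0 := by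
    rw [clift_sympForm, clift_pad_eq, clift_res_up, clift_up_inl_last, clift_up_inr_last]
    ring
  rw [hf, clift_pad_eq]
  apply clift_vec_ext
  · rw [clift_res_up, clift_res_add, clift_res_smul, clift_res_up]
  · rw [clift_up_inl_last, Pi.add_apply, Pi.smul_apply, clift_up_inl_last, smul_zero, add_zero]
  · rw [clift_up_inr_last, Pi.add_apply, Pi.smul_apply, clift_up_inr_last, smul_zero, add_zero]

end cliftaux

section concrete

variable {F : Type*} [Field F] [Fintype F]

/-- C-LIFT -/
theorem exists_lift (k : ℕ) :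
    ∃ φ : Spg F k →* Spg F (k + 1),
      (∀ g, ∀ z ∈ Zgrp (e0 F k), φ g * z = z * φ g) ∧
      ∀ u0 : Vec F k, (Zgrp u0).map φ = Zgrp (pad u0) := by
  refine ⟨cliftHom F k, ?_, ?_⟩
  · intro g z hz
    have hcen : Zgrp (e0 F k) ≤ Subgroup.centralizer {cliftHom F k g} := by
      unfold Zgrp
      rw [Subgroup.closure_le]
      rintro z ⟨c, rfl⟩
      rw [SetLike.mem_coe, Subgroup.mem_centralizer_iff]
      intro h hh
      rw [Set.mem_singleton_iff] at hh
      subst hh
      apply Subtype.ext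
      change ((cliftHom F k g : Spg F (k + 1)) : Matrix _ _ F) *
          Cfsg.sympTransvection (k + 1) (e0 F k) c =
        Cfsg.sympTransvection (k + 1) (e0 F k) c * ((cliftHom F k g : Spg F (k + 1)) : Matrix _ _ F)
      exact clift_comm_transv _ (cliftHom F k g).2 _ (clift_fix_e0 g.1) c
    have := hcen hz
    rw [Subgroup.mem_centralizer_iff] at this
    exact this _ rfl
  · intro u0
    unfold Zgrp
    rw [MonoidHom.map_closure]
    congr 1
    ext h
    constructor
    · rintro ⟨g, ⟨c, rfl⟩, rfl⟩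
      exact ⟨c, Subtype.ext (clift_transv u0 c)⟩
    · rintro ⟨c, rfl⟩
      exact ⟨sympTransvElt k u0 c, ⟨c, rfl⟩, Subtype.ext (clift_transv u0 c)⟩

end concrete

end Cfsg.Agent.Lib.Helper21.Lq
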