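import Mathlib

/-!
# Of hive (S5981), leaf OF-ORB
-/

set_option autoImplicit false

namespace Cfsg.Agent.Lib.Helper44.Of

open scoped MatrixGroups
open Matrix

variable {F : Type*} [Field F]

/-- the invertible matrices preserving `Q` -/
def orb_iso {n : ℕ} (Q : (Fin n → F) → F) : Subgroup (GL (Fin n) F) where
  carrier := {g | ∀ v, Q ((g : Matrix (Fin n) (Fin n) F) *ᵥ v) = Q v}
  one_mem' := by intro v; simp
  mul_mem' := by
    intro g h hg hh v
    rw [Units.val_mul, ← Matrix.mulVec_mulVec, hg, hh]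
  inv_mem' := by
    intro g hg v
    have := hg ((g⁻¹ : GL (Fin n) F) *ᵥ v)
    rw [Matrix.mulVec_mulVec, ← Units.val_mul, mul_inv_cancel, Units.val_one, Matrix.one_mulVec] at this
    exact this.symm

/-- a subgroup of the isometries acts on the zeros of `Q` -/
@[reducible] def orb_act {n : ℕ} (Q : (Fin n → F) → F) (P : Subgroup (GL (Fin n) F)) (hP : P ≤ orb_iso Q) :
    MulAction P {v : Fin n → F // Q v = 0} where
  smul g z := ⟨((g : GL (Fin n) F) : Matrix (Fin n) (Fin n) F) *ᵥ z.1, by rw [hP g.2 z.1]; exact z.2⟩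
  one_smul z := by
    apply Subtype.ext
    change (((1 : P) : GL (Fin n) F) : Matrix (Fin n) (Fin n) F) *ᵥ z.1 = z.1
    simp
  mul_smul a b z := by
    apply Subtype.ext
    change (((a * b : P) : GL (Fin n) F) : Matrix (Fin n) (Fin n) F) *ᵥ z.1 =
      ((a : GL (Fin n) F) : Matrix (Fin n) (Fin n) F) *ᵥ
        (((b : GL (Fin n) F) : Matrix (Fin n) (Fin n) F) *ᵥ z.1)
    rw [Subgroup.coe_mul, Units.val_mul, Matrix.mulVec_mulVec]

theorem orb_isPGroup_zpowers {G : Type*} [Group G] {r : ℕ} [Fact r.Prime] {u : G} (hk : u ^ r = 1) :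
    IsPGroup r (Subgroup.zpowers u) := by
  apply IsPGroup.of_card (n := (Nat.card (Subgroup.zpowers u)).factorization r)
  rw [Nat.card_zpowers]
  have hdvd : orderOf u ∣ r ^ 1 := by rw [pow_one]; exact orderOf_dvd_of_pow_eq_one hk
  obtain ⟨j, _, hj⟩ := (Nat.dvd_prime_pow (Fact.out : r.Prime)).mp hdvd
  rw [hj, (Fact.out : r.Prime).factorization_pow]
  simp

/-- OF-ORB : the group generated by a fixed-point-free isometry of prime order `r` acts freely on the nonzero singular
vectors -/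
theorem dvd_card_zeros_sub_one [Fintype F] {n : ℕ} (Q : (Fin n → F) → F) (hQ0 : Q 0 = 0) (u : GL (Fin n) F)
    (hu : ∀ v, Q ((u : Matrix (Fin n) (Fin n) F) *ᵥ v) = Q v) (r : ℕ) [Fact r.Prime] (hur : u ^ r = 1)
    (hfpf : ∀ v : Fin n → F, (u : Matrix (Fin n) (Fin n) F) *ᵥ v = v → v = 0) :
    r ∣ Nat.card {v : Fin n → F // Q v = 0} - 1 := by
  have hP : Subgroup.zpowers u ≤ orb_iso Q := (Subgroup.zpowers_le).mpr hu
  letI := orb_act Q (Subgroup.zpowers u) hP
  have h1 := (orb_isPGroup_zpowers (r := r) hur).card_modEq_card_fixedPoints {v : Fin n → F // Q v = 0}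
  have h2 : MulAction.fixedPoints (Subgroup.zpowers u) {v : Fin n → F // Q v = 0} = {⟨0, hQ0⟩} := by
    ext z
    simp only [MulAction.mem_fixedPoints, Set.mem_singleton_iff]
    constructor
    · intro hz
      have := hz ⟨u, Subgroup.mem_zpowers u⟩
      have h3 : (u : Matrix (Fin n) (Fin n) F) *ᵥ z.1 = z.1 := congrArg Subtype.val this
      exact Subtype.ext (hfpf z.1 h3)
    · rintro rfl g
      apply Subtype.ext
      change ((g : GL (Fin n) F) : Matrix (Fin n) (Fin n) F) *ᵥ (0 : Fin n → F) = 0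
      simp
  rw [h2] at h1
  have h4 : Nat.card {v : Fin n → F // Q v = 0} ≡ 1 [MOD r] := by simpa using h1
  haveI : Nonempty {v : Fin n → F // Q v = 0} := ⟨⟨0, hQ0⟩⟩
  exact (Nat.modEq_iff_dvd' Nat.card_pos).mp h4.symm

end Cfsg.Agent.Lib.Helper44.Of
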