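import Mathlib
import Cfsg.Agent.Lib.Helper68.PNilp
import Cfsg.Agent.Lib.Helper68.Omega

set_option autoImplicit false

namespace Cfsg.Agent.Lib.Helper68

open Subgroup Cfsg.Agent.Lib.Helper24
open scoped commutatorElement

variable {G : Type*} [Group G]

/-- An element normalizing two subgroups normalizes their intersection. -/
theorem mem_normalizer_inf {A B : Subgroup G} {g : G}
    (hA : g ∈ normalizer (A : Set G)) (hB : g ∈ normalizer (B : Set G)) :
    g ∈ normalizer ((A ⊓ B : Subgroup G) : Set G) := by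
  rw [mem_normalizer_iff]
  intro h
  rw [mem_inf, mem_inf, ← mem_normalizer_iff.1 hA h, ← mem_normalizer_iff.1 hB h]

/-- If the class of `x` has `p`-power size, `G` acts on the normal closure `X` of `x` as a Sylow
`p`-subgroup does, modulo `[X, P]`. -/
theorem commutator_normalClosure_mem [Finite G] {p : ℕ} [Fact p.Prime] (x : G) (a : ℕ)
    (hx : (centralizer ({x} : Set G)).index = p ^ a) (P : Sylow p G) (hxP : x ∈ (P : Subgroup G)) :
    ∀ w ∈ normalClosure ({x} : Set G), ∀ g : G,
      ⁅w, g⁆ ∈ ⁅normalClosure ({x} : Set G), (P : Subgroup G)⁆ := by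
  set X := normalClosure ({x} : Set G) with hX
  have hxX : x ∈ X := subset_normalClosure rfl
  have hXn : X ≤ normalizer ((⁅X, (P : Subgroup G)⁆ : Subgroup G) : Set G) :=
    le_normalizer_commutator_left X (P : Subgroup G)
  intro w hw
  unfold normalClosure at hX
  rw [hX] at hw
  induction hw using closure_induction with
  | mem w hw =>
    intro g
    rw [Group.mem_conjugatesOfSet_iff] at hw
    obtain ⟨b, hb, hbw⟩ := hw
    rw [Set.mem_singleton_iff] at hb
    subst hb
    rw [isConj_iff] at hbw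
    obtain ⟨c, rfl⟩ := hbw
    obtain ⟨b1, hb1, he1⟩ := exists_conj_eq_of_index_pow b a hx P c
    obtain ⟨b2, hb2, he2⟩ := exists_conj_eq_of_index_pow b a hx P (g * c)
    have e : ⁅c * b * c⁻¹, g⁆ = ⁅b1, b⁆ * ⁅b2, b⁆⁻¹ := by
      have h1 : g * (c * b * c⁻¹) * g⁻¹ = b2 * b * b2⁻¹ := by
        rw [← he2]; group
      calc ⁅c * b * c⁻¹, g⁆ = (c * b * c⁻¹) * (g * (c * b * c⁻¹) * g⁻¹)⁻¹ := by
            rw [commutatorElement_def]; group
        _ = (b1 * b * b1⁻¹) * (b2 * b * b2⁻¹)⁻¹ := by rw [h1, he1]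
        _ = ⁅b1, b⁆ * ⁅b2, b⁆⁻¹ := by simp only [commutatorElement_def]; group
    rw [e, commutator_comm]
    exact mul_mem (commutator_mem_commutator hb1 hxX) (inv_mem (commutator_mem_commutator hb2 hxX))
  | one =>
    intro g
    rw [commutatorElement_one_left]
    exact one_mem _
  | mul w1 w2 hw1 hw2 h1 h2 =>
    intro g
    have hw1X : w1 ∈ X := by rw [hX]; exact hw1
    have e : ⁅w1 * w2, g⁆ = w1 * ⁅w2, g⁆ * w1⁻¹ * ⁅w1, g⁆ := by
      simp only [commutatorElement_def]; group
    rw [e]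
    exact mul_mem ((mem_normalizer_iff.1 (hXn hw1X) _).1 (h2 g)) (h1 g)
  | inv w hw h1 =>
    intro g
    have hwX : w⁻¹ ∈ X := by rw [hX]; exact inv_mem hw
    have e : ⁅w⁻¹, g⁆ = w⁻¹ * ⁅w, g⁆⁻¹ * w⁻¹⁻¹ := by
      simp only [commutatorElement_def]; group
    rw [e]
    exact (mem_normalizer_iff.1 (hXn hwX) _).1 (inv_mem (h1 g))

/-- A non-identity `p`-element with class of `p`-power size is not in `[X, P]`, `X` its normal
closure. -/
theorem not_mem_commutator_normalClosure [Finite G] {p : ℕ} [Fact p.Prime] (x : G) (a k : ℕ)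
    (hx : (centralizer ({x} : Set G)).index = p ^ a) (hxo : orderOf x = p ^ k) (hx1 : x ≠ 1)
    (P : Sylow p G) (hxP : x ∈ (P : Subgroup G)) :
    x ∉ ⁅normalClosure ({x} : Set G), (P : Subgroup G)⁆ := by
  intro hmem
  set X := normalClosure ({x} : Set G) with hX
  have hxX : x ∈ X := subset_normalClosure rfl
  have hXp : IsPGroup p X := isPGroup_normalClosure_of_index_pow x a k hx hxo
  have hXne : X ≠ ⊥ := by
    intro h
    rw [h, mem_bot] at hxX
    exact hx1 hxX
  have hPX : (P : Subgroup G) ≤ normalizer (X : Set G) := by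
    rw [normalizer_eq_top]; exact le_top
  have hlt := commutator_lt_of_pGroups (P : Subgroup G) X P.2 hXp hPX hXne
  have hle : X ≤ ⁅X, (P : Subgroup G)⁆ := by
    have hX' : X = closure (Group.conjugatesOfSet ({x} : Set G)) := rfl
    rw [hX', closure_le]
    intro w hw
    rw [Group.mem_conjugatesOfSet_iff] at hw
    obtain ⟨b, hb, hbw⟩ := hw
    rw [Set.mem_singleton_iff] at hb
    subst hb
    rw [isConj_iff] at hbw
    obtain ⟨c, rfl⟩ := hbw
    obtain ⟨b1, hb1, he1⟩ := exists_conj_eq_of_index_pow b a hx P c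
    have e : c * b * c⁻¹ = ⁅b1, b⁆ * b := by
      rw [he1, commutatorElement_def]; group
    rw [e]
    refine mul_mem ?_ hmem
    rw [← hX', commutator_comm]
    exact commutator_mem_commutator hb1 hxX
  exact absurd (lt_of_le_of_lt hle hlt) (lt_irrefl _)

end Cfsg.Agent.Lib.Helper68
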