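import Mathlib
import Cfsg.Agent.Lib.Helper90.PsuDefs
import Cfsg.Agent.Lib.Helper99.UnitaryND1
import Cfsg.Agent.Lib.Helper99.PsuHEIS

/-! Psu hive (helper90, S2412), core lemmas for PSU-SQ1 (helper68, for helper42): admissible Heisenberg parameters. -/

set_option autoImplicit false

namespace Cfsg.Agent.Lib.Helper90.Psu

open Matrix Cfsg.Agent.Lib.Helper99 Cfsg.Agent.Lib.Helper13

variable {F : Type*} [Field F] [Fintype F] {q n : ℕ}

local notation "hh" => Cfsg.hermForm n F q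

/-- `(r, β)` are admissible Heisenberg parameters over the coordinates `≥ 2` -/
def sq1c_Good (q : ℕ) (r : Fin n → F) (β : F) : Prop :=
  SuppGe 2 r ∧ β + β ^ q + Cfsg.hermForm n F q r r = 0

theorem sq1c_perp (hF : Fintype.card F = q ^ 2) {e : Fin n → F}
    (hsupp : ∀ k : Fin n, 2 ≤ k.val → e k = 0) {r : Fin n → F} (hr : SuppGe 2 r) :
    hh r e = 0 := by
  apply hermForm_eq_zero_of_disjoint
  · intro k
    by_cases hk : 2 ≤ k.val
    · exact Or.inr (hsupp k hk)
    · exact Or.inl (hr k (by omega))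
  · have := q_ge_two hF; omega

theorem sq1c_good_mul (hF : Fintype.card F = q ^ 2) {e : Fin n → F} (hee : hh e e = 0)
    (hsupp : ∀ k : Fin n, 2 ≤ k.val → e k = 0) {r r' : Fin n → F} {β β' : F}
    (h : sq1c_Good q r β) (h' : sq1c_Good q r' β') :
    sq1c_Good q (r + r') (β + β' - hh r' r) ∧
      heis q e r β * heis q e r' β' = heis q e (r + r') (β + β' - hh r' r) := by
  refine ⟨⟨?_, ?_⟩, heis_mul hF hee (sq1c_perp hF hsupp h.1) h.2 (sq1c_perp hF hsupp h'.1) h'.2⟩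
  · intro j hj
    rw [Pi.add_apply, h.1 j hj, h'.1 j hj, add_zero]
  · have h1 := h.2
    have h2 := h'.2
    have h3 : (hh r' r) ^ q = hh r r' := Helper13.hermForm_conj hF n r' r
    rw [frob_sub hF, frob_add hF, h3, Helper13.hermForm_add_left, Helper13.hermForm_add_right hF,
      Helper13.hermForm_add_right hF]
    linear_combination h1 + h2

theorem sq1c_good_inv (hF : Fintype.card F = q ^ 2) {e : Fin n → F} (hee : hh e e = 0)
    (hsupp : ∀ k : Fin n, 2 ≤ k.val → e k = 0) {r : Fin n → F} {β : F}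
    (h : sq1c_Good q r β) :
    sq1c_Good q (-r) (β ^ q) ∧ (heis q e r β)⁻¹ = heis q e (-r) (β ^ q) := by
  refine ⟨⟨?_, ?_⟩, heis_inv hF hee (sq1c_perp hF hsupp h.1) h.2⟩
  · intro j hj
    rw [Pi.neg_apply, h.1 j hj, neg_zero]
  · rw [Helper13.pow_q_pow_q hF, hermForm_neg_left, hermForm_neg_right hF, neg_neg]
    linear_combination h.2

/-- the operator `D` -/
def sq1c_D (θ : Fin n → F) (r : Fin n → F) : Fin n → F := fun j => θ j * r j

theorem sq1c_good_conj (hF : Fintype.card F = q ^ 2) {e : Fin n → F} (hee : hh e e = 0)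
    (hsupp : ∀ k : Fin n, 2 ≤ k.val → e k = 0) (ζ : F) (hζ0 : ζ ≠ 0)
    (a : GL (Fin n) F) (haU : a ∈ Cfsg.GU n F q)
    (hae : (a : Matrix (Fin n) (Fin n) F) *ᵥ e = ζ • e)
    (har : ∀ r : Fin n → F, SuppGe 2 r → (a : Matrix (Fin n) (Fin n) F) *ᵥ r =
        fun j => (if j.val + 1 = n then ζ ^ q * ζ⁻¹ else 1) * r j)
    (θ : Fin n → F)
    (hθ : ∀ j : Fin n, θ j = if j.val + 1 = n then ζ ^ (2 * q - 1) else ζ ^ q)
    {r : Fin n → F} {β : F} (h : sq1c_Good q r β) :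
    sq1c_Good q (sq1c_D θ r) (ζ ^ (q + 1) * β) ∧
      a * heis q e r β * a⁻¹ = heis q e (sq1c_D θ r) (ζ ^ (q + 1) * β) := by
  have hq2 := q_ge_two hF
  have hre := sq1c_perp hF hsupp h.1
  have hDsupp : SuppGe 2 (sq1c_D θ r) := by
    intro j hj
    unfold sq1c_D
    rw [h.1 j hj, mul_zero]
  have harS : SuppGe 2 ((a : Matrix (Fin n) (Fin n) F) *ᵥ r) := by
    intro j hj
    rw [har r h.1]
    simp only
    rw [h.1 j hj, mul_zero]
  have hD : ζ ^ q • ((a : Matrix (Fin n) (Fin n) F) *ᵥ r) = sq1c_D θ r := by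
    rw [har r h.1]
    funext j
    unfold sq1c_D
    rw [hθ j]
    simp only [Pi.smul_apply, smul_eq_mul]
    by_cases hj : j.val + 1 = n
    · rw [if_pos hj, if_pos hj, ← mul_assoc]
      congr 1
      have : 2 * q - 1 = (q - 1) + q := by omega
      rw [this, pow_add]
      have h1 : ζ ^ q = ζ ^ (q - 1) * ζ := by rw [← pow_succ]; congr 1; omega
      rw [h1]
      field_simp
    · rw [if_neg hj, if_neg hj, one_mul]
  have hnorm : hh ((a : Matrix (Fin n) (Fin n) F) *ᵥ r) ((a : Matrix (Fin n) (Fin n) F) *ᵥ r) =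
      hh r r := GU_preserves haU r r
  have hβ' : β + β ^ q + hh ((a : Matrix (Fin n) (Fin n) F) *ᵥ r)
      ((a : Matrix (Fin n) (Fin n) F) *ᵥ r) = 0 := by rw [hnorm]; exact h.2
  have hconj := conj_heis hF hee hre h.2 haU
  rw [hae, heis_smul hF hee (sq1c_perp hF hsupp harS) hβ' hζ0, hD] at hconj
  refine ⟨⟨hDsupp, ?_⟩, hconj⟩
  rw [← hD, Helper13.hermForm_smul_left, Helper13.hermForm_smul_right, hnorm, mul_pow,
    Helper13.pow_q_pow_q hF]
  have h2 : (ζ ^ (q + 1)) ^ q = ζ ^ (q + 1) := by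
    rw [pow_succ, mul_pow, Helper13.pow_q_pow_q hF, mul_comm]
  rw [h2]
  have h3 : ζ ^ q * (ζ * hh r r) = ζ ^ (q + 1) * hh r r := by rw [pow_succ]; ring
  rw [h3]
  linear_combination ζ ^ (q + 1) * h.2

theorem sq1c_div (hF : Fintype.card F = q ^ 2) {e : Fin n → F} (hee : hh e e = 0)
    (hsupp : ∀ k : Fin n, 2 ≤ k.val → e k = 0) {s : Fin n → F} {X Y : F}
    (hX : sq1c_Good q s X) (hY : sq1c_Good q s Y) :
    heis q e s X * (heis q e s Y)⁻¹ = utv q e (X - Y) := by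
  obtain ⟨hg, hinv⟩ := sq1c_good_inv hF hee hsupp hY
  obtain ⟨hg2, hmul⟩ := sq1c_good_mul hF hee hsupp hX hg
  rw [hinv, hmul]
  have h0 : s + -s = 0 := add_neg_cancel s
  have h1 : X + Y ^ q - hh (-s) s = X - Y := by
    rw [hermForm_neg_left]
    linear_combination hY.2
  rw [h0, h1]
  apply heis_zero hF hee
  rw [frob_sub hF]
  linear_combination hX.2 - hY.2

end Cfsg.Agent.Lib.Helper90.Psu
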