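import Cfsg.Agent.Lib.Helper38.RhDefsB

/-! # Rh hive (helper38), part B: leaf RH-CNT2, core (helper68): the counting hypothesis of RH-MAIN, with the
leaves RH-DER, RH-DEC, RH-ZCNT as hypotheses. -/

set_option autoImplicit false

namespace Cfsg.Agent.Lib.Helper38.Rh

open Cfsg.Agent.Lib.Helper12.Rt

section partB
variable {K : Type*} [Field K] [Fintype K] {G : Type*} [Group G] {m : ℕ} (D : RtData K G m)

/-- `27 ≤ q` -/
theorem cnt2_qq_ge (m : ℕ) (hm : 1 ≤ m) : 27 ≤ qq m := by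
  unfold qq
  calc 27 = 3 ^ 3 := by norm_num
    _ ≤ 3 ^ (2 * m + 1) := Nat.pow_le_pow_right (by norm_num) (by omega)

/-- RH-CNT2 with RH-DER / RH-DEC / RH-ZCNT as hypotheses. -/
theorem cnt2_core (hm : 1 ≤ m)
    (hDER : (Nat.card {g : G // fixN D g = 0} : ℚ) = (gg m : ℚ) * EE m)
    (hDEC : ∀ g : G, g ≠ 1 → (fixN D g = 0 ↔ (orderOf g ∣ NN m ∨ g ∈ Zset G m)))
    (hDEC' : ∀ g : G, orderOf g ∣ NN m → g ∉ Zset G m)
    {C : Subgroup G}
    (hZ : Nat.card ↥(Zset G m) * Nat.card ↥(Subgroup.normalizer (C : Set G)) = Nat.card G * (qq m - 3))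
    (w₁ : ℕ) (hw : Nat.card ↥(Subgroup.normalizer (C : Set G)) = w₁ * (qq m + 1)) :
    (Nat.card {y : G // y ≠ 1 ∧ orderOf y ∣ NN m} : ℚ) +
      (gg m : ℚ) * ((qq m : ℚ) - 3) / ((w₁ : ℚ) * ((qq m : ℚ) + 1)) = (gg m : ℚ) * EE m := by
  classical
  haveI : Finite G := D.finite
  have hq : 27 ≤ qq m := cnt2_qq_ge m hm
  have hcard : Nat.card G = gg m := by
    rw [D.card_G]
    rfl
  -- `fix 1 ≠ 0`
  have hfix1 : fixN D 1 ≠ 0 := by
    unfold fixN
    haveI : Nonempty {c : G ⧸ D.R.B // (1 : G) • c = c} := ⟨⟨((1 : G) : G ⧸ D.R.B), one_smul _ _⟩⟩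
    exact Nat.card_pos.ne'
  -- `1 ∉ Zset`
  have hZ1 : ∀ g : G, g ∈ Zset G m → g ≠ 1 := by
    rintro g ⟨ℓ, hℓ, _, _, hdvd⟩ rfl
    rw [orderOf_one] at hdvd
    exact hℓ.one_lt.ne' (Nat.dvd_one.mp hdvd)
  -- the decomposition
  have hsplit : Nat.card {g : G // fixN D g = 0} =
      Nat.card {y : G // y ≠ 1 ∧ orderOf y ∣ NN m} + Nat.card ↥(Zset G m) := by
    have e : {g : G // fixN D g = 0} ≃ {y : G // y ≠ 1 ∧ orderOf y ∣ NN m} ⊕ ↥(Zset G m) :=
      { toFun := fun g =>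
          if hg : orderOf g.1 ∣ NN m then
            Sum.inl ⟨g.1, fun h1 => hfix1 (h1 ▸ g.2), hg⟩
          else
            Sum.inr ⟨g.1, by
              have hg1 : g.1 ≠ 1 := fun h1 => hfix1 (h1 ▸ g.2)
              rcases (hDEC g.1 hg1).mp g.2 with h | h
              · exact absurd h hg
              · exact h⟩
        invFun := fun s =>
          match s with
          | Sum.inl y => ⟨y.1, (hDEC y.1 y.2.1).mpr (Or.inl y.2.2)⟩
          | Sum.inr z => ⟨z.1, (hDEC z.1 (hZ1 z.1 z.2)).mpr (Or.inr z.2)⟩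
        left_inv := by
          intro g
          by_cases hg : orderOf g.1 ∣ NN m
          · simp [hg]
          · simp [hg]
        right_inv := by
          rintro (y | z)
          · simp [y.2.2]
          · have : ¬ orderOf z.1 ∣ NN m := fun h => hDEC' z.1 h z.2
            simp [this] }
    rw [Nat.card_congr e, Nat.card_sum]
  -- `w₁ ≠ 0`
  have hN0 : Nat.card ↥(Subgroup.normalizer (C : Set G)) ≠ 0 := Nat.card_pos.ne'
  have hw0 : w₁ ≠ 0 := by
    rintro rfl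
    rw [zero_mul] at hw
    exact hN0 hw
  have hwq : ((w₁ : ℚ) * ((qq m : ℚ) + 1)) ≠ 0 := by
    have : (0 : ℚ) < (qq m : ℚ) + 1 := by positivity
    have hw' : (w₁ : ℚ) ≠ 0 := by exact_mod_cast hw0
    exact mul_ne_zero hw' this.ne'
  -- `|Zset|` as a rational number
  have hZq : (Nat.card ↥(Zset G m) : ℚ) =
      (gg m : ℚ) * ((qq m : ℚ) - 3) / ((w₁ : ℚ) * ((qq m : ℚ) + 1)) := by
    rw [eq_div_iff hwq]
    have h1 : ((Nat.card ↥(Zset G m) * (w₁ * (qq m + 1)) : ℕ) : ℚ) = ((gg m * (qq m - 3) : ℕ) : ℚ) := by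
      rw [← hw, hZ, hcard]
    rw [Nat.cast_mul, Nat.cast_mul, Nat.cast_mul, Nat.cast_add, Nat.cast_one,
      Nat.cast_sub (by omega : 3 ≤ qq m)] at h1
    rw [h1]
    norm_num
  rw [← hDER, hsplit, Nat.cast_add, hZq]

end partB

end Cfsg.Agent.Lib.Helper38.Rh
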