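import Mathlib

/-! # Sm hive (S2086, helper39): leaf SM-TOP-CEN `center_SL_equiv` (helper68).
The centre of `SL_n(F)`, `F` a finite field, is cyclic of order `gcd(n, q - 1)`. -/

set_option autoImplicit false

namespace Cfsg.Agent.Lib.Helper39.Sm

open Matrix

/-- `|Z(SL_n(F))| = gcd(n, q - 1)` and the centre is cyclic -/
theorem topcen_aux {F : Type*} [Field F] [Fintype F] (n : ℕ) [NeZero n] :
    IsCyclic (Subgroup.center (SpecialLinearGroup (Fin n) F)) ∧
    Nat.card (Subgroup.center (SpecialLinearGroup (Fin n) F)) = Nat.gcd n (Fintype.card F - 1) := by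
  classical
  have e := Matrix.SpecialLinearGroup.center_equiv_rootsOfUnity' (R := F) (0 : Fin n)
  refine ⟨?_, ?_⟩
  · exact isCyclic_of_surjective e.symm.toMonoidHom e.symm.surjective
  · rw [Nat.card_congr e.toEquiv]
    have h1 : rootsOfUnity (Fintype.card (Fin n)) F = (powMonoidHom n : Fˣ →* Fˣ).ker := by
      ext x
      simp [MonoidHom.mem_ker]
    rw [h1, IsCyclic.card_powMonoidHom_ker, Nat.card_eq_fintype_card, Fintype.card_units,
      Nat.gcd_comm]

/-- TOP-CEN -/
theorem center_SL_equiv {F : Type*} [Field F] [Fintype F] (n : ℕ) (hn : 1 ≤ n) :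
    Nonempty (Subgroup.center (SpecialLinearGroup (Fin n) F) ≃*
      Multiplicative (ZMod (Nat.gcd n (Fintype.card F - 1)))) := by
  haveI : NeZero n := ⟨by omega⟩
  obtain ⟨hcyc, hcard⟩ := topcen_aux (F := F) n
  have e := zmodCyclicMulEquiv hcyc
  rw [hcard] at e
  exact ⟨e.symm⟩

end Cfsg.Agent.Lib.Helper39.Sm
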