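import Cfsg.Agent.S3958
import Cfsg.Agent.Lib.Helper68.Sm_TOPCEN

/-! # Sm hive (S2086, helper39): leaf SM-TOP-PSL `psl_multiplier_of_sl` (helper68).
If `SL_n(F)` is perfect with trivial Schur multiplier, then `SL_n(F) → PSL_n(F)` is a Schur cover and the
multiplier of `PSL_n(F)` is the centre of `SL_n(F)`, cyclic of order `gcd(n, q - 1)`. -/

set_option autoImplicit false

namespace Cfsg.Agent.Lib.Helper39.Sm

open Matrix

/-- TOP-PSL -/
theorem psl_multiplier_of_sl {F : Type*} [Field F] [Fintype F] (n : ℕ) (hn : 1 ≤ n)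
    (hperf : commutator (SpecialLinearGroup (Fin n) F) = ⊤)
    (hM : Cfsg.HasCyclicSchurMultiplier (SpecialLinearGroup (Fin n) F) 1) :
    Cfsg.HasCyclicSchurMultiplier (ProjectiveSpecialLinearGroup (Fin n) F)
      (Nat.gcd n (Fintype.card F - 1)) := by
  classical
  obtain ⟨e⟩ := center_SL_equiv (F := F) n hn
  set σ : SpecialLinearGroup (Fin n) F →* ProjectiveSpecialLinearGroup (Fin n) F :=
    QuotientGroup.mk' (Subgroup.center (SpecialLinearGroup (Fin n) F)) with hσ
  have hker : σ.ker = Subgroup.center (SpecialLinearGroup (Fin n) F) := QuotientGroup.ker_mk' _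
  have hstem : Cfsg.IsStemExtension σ := by
    refine ⟨QuotientGroup.mk'_surjective _, ?_, ?_⟩
    · rw [hker]
    · rw [hperf]; exact le_top
  have e' : σ.ker ≃* Multiplicative (ZMod (Nat.gcd n (Fintype.card F - 1))) :=
    (MulEquiv.subgroupCongr hker).trans e
  haveI : Finite (ProjectiveSpecialLinearGroup (Fin n) F) :=
    Finite.of_surjective σ (QuotientGroup.mk'_surjective _)
  refine ⟨⟨SpecialLinearGroup (Fin n) F, inferInstance, inferInstance, σ, hstem, ⟨e'⟩⟩, ?_⟩
  intro Γ _ _ τ hτ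
  obtain ⟨π, hπ⟩ := Cfsg.Agent.S3958.result σ hstem hM Γ τ hτ
  exact ⟨π.comp e'.symm.toMonoidHom, hπ.comp e'.symm.surjective⟩

end Cfsg.Agent.Lib.Helper39.Sm
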