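import Cfsg.Agent.Lib.Helper92.Sz8.Defs

/-! Sz8 hive (helper92, S2112), leaf BR (helper68): the matrix of a word in the generators `gK`
is computed by `evP`.  `br_core` takes the PK leaf (`semK_mulP`, `semK_oneP`) as hypotheses. -/

set_option autoImplicit false

namespace Cfsg.Agent.Lib.Helper92.Sz8

open Cfsg Cfsg.Agent.Lib.Helper6.Sz Cfsg.Agent.Lib.Helper89.CosetCert

theorem br_sK_apply (x : K8) : sK x = x ^ 4 := rfl

/-- the matrix `T(a,b) W` -/
theorem br_Tm_mul_Wm (a b : K8) : Tm sK a b * Wm =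
    !![ff sK a b, b + a * sK a, a, 1; b, sK a, 1, 0; a, 1, 0, 0; 1, 0, 0, 0] := by
  ext i j
  fin_cases i <;> fin_cases j <;> simp [Tm, Wm, Matrix.mul_apply, Fin.sum_univ_four]

theorem br_LP0 : semK (LP 0) = Tm sK (K8.ofNat 3) (K8.ofNat 1) * Wm := by
  rw [br_Tm_mul_Wm]
  ext i j
  fin_cases i <;> fin_cases j <;>
    simp only [semK, ff, br_sK_apply, Matrix.of_apply, Matrix.cons_val', Matrix.cons_val_zero,
      Matrix.cons_val_one, Matrix.cons_val_two, Matrix.cons_val_three, Matrix.empty_val',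
      Matrix.cons_val_fin_one, Fin.zero_eta, Fin.mk_one, Fin.reduceFinMk] <;> decide

theorem br_LP2 : semK (LP 2) = Tm sK (K8.ofNat 5) (K8.ofNat 5) * Wm := by
  rw [br_Tm_mul_Wm]
  ext i j
  fin_cases i <;> fin_cases j <;>
    simp only [semK, ff, br_sK_apply, Matrix.of_apply, Matrix.cons_val', Matrix.cons_val_zero,
      Matrix.cons_val_one, Matrix.cons_val_two, Matrix.cons_val_three, Matrix.empty_val',
      Matrix.cons_val_fin_one, Fin.zero_eta, Fin.mk_one, Fin.reduceFinMk] <;> decide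

/-- the matrix of an element of `GK` -/
def br_mat (g : GK) : Matrix (Fin 4) (Fin 4) K8 :=
  ((g : Matrix.SpecialLinearGroup (Fin 4) K8) : Matrix (Fin 4) (Fin 4) K8)

theorem br_mat_mul (g h : GK) : br_mat (g * h) = br_mat g * br_mat h := by
  unfold br_mat
  rw [Subgroup.coe_mul, Matrix.SpecialLinearGroup.coe_mul]

theorem br_mat_one : br_mat (1 : GK) = 1 := by
  unfold br_mat
  rw [Subgroup.coe_one, Matrix.SpecialLinearGroup.coe_one]

theorem br_mat_inv_of_mul {g : GK} {B : Matrix (Fin 4) (Fin 4) K8} (h : br_mat g * B = 1) :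
    br_mat g⁻¹ = B := by
  have h1 : br_mat g⁻¹ * br_mat g = 1 := by rw [← br_mat_mul, inv_mul_cancel, br_mat_one]
  calc br_mat g⁻¹ = br_mat g⁻¹ * (br_mat g * B) := by rw [h, mul_one]
    _ = B := by rw [← mul_assoc, h1, one_mul]

theorem br_mat_gK0 : br_mat (gK 0) = semK (LP 0) := by
  rw [br_LP0]; rfl

theorem br_mat_gK1 : br_mat (gK 1) = semK (LP 2) := by
  rw [br_LP2]; rfl

theorem br_LP01 : mulP (LP 0) (LP 1) = oneP := by decide

theorem br_LP23 : mulP (LP 2) (LP 3) = oneP := by decide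

/-- the letters -/
theorem br_lv (hmul : ∀ P Q : ℕ, semK (mulP P Q) = semK P * semK Q) (hone : semK oneP = 1)
    (l : ℕ) (hl : l < 4) : br_mat (lv gK l) = semK (LP l) := by
  have h0 : lv gK 0 = gK 0 := lv_two_mul gK 0
  have h1 : lv gK 1 = (gK 0)⁻¹ := lv_two_mul_add_one gK 0
  have h2 : lv gK 2 = gK 1 := lv_two_mul gK 1
  have h3 : lv gK 3 = (gK 1)⁻¹ := lv_two_mul_add_one gK 1
  interval_cases l
  · rw [h0, br_mat_gK0]
  · rw [h1]
    apply br_mat_inv_of_mul
    rw [br_mat_gK0, ← hmul, br_LP01, hone]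
  · rw [h2, br_mat_gK1]
  · rw [h3]
    apply br_mat_inv_of_mul
    rw [br_mat_gK1, ← hmul, br_LP23, hone]

theorem br_foldl (hmul : ∀ P Q : ℕ, semK (mulP P Q) = semK P * semK Q) (hone : semK oneP = 1)
    (w : List ℕ) (hw : ∀ l ∈ w, l < 4) (acc : ℕ) :
    semK (w.foldl (fun acc l => mulP acc (LP l)) acc) = semK acc * br_mat (ev gK w) := by
  induction w generalizing acc with
  | nil => simp [br_mat_one]
  | cons l w ih =>
    rw [List.foldl_cons, ih (fun x hx => hw x (List.mem_cons_of_mem _ hx)), hmul, ev_cons,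
      br_mat_mul, br_lv hmul hone l (hw l List.mem_cons_self), mul_assoc]

/-- BR with the PK leaf as hypotheses -/
theorem br_core (hmul : ∀ P Q : ℕ, semK (mulP P Q) = semK P * semK Q) (hone : semK oneP = 1)
    (w : List ℕ) (hw : ∀ l ∈ w, l < 4) :
    (((ev gK w : GK) : Matrix.SpecialLinearGroup (Fin 4) K8) : Matrix (Fin 4) (Fin 4) K8) =
      semK (evP w) := by
  unfold evP
  rw [br_foldl hmul hone w hw oneP, hone, one_mul]
  rfl

end Cfsg.Agent.Lib.Helper92.Sz8
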