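import Cfsg.Agent.Lib.Helper68.Sz8BR
import Cfsg.Agent.Lib.Helper80.Sz8PK

/-! Sz8 hive (helper92, S2112), leaf BR `coe_ev_gK` (helper68): `br_core` + the PK leaf (helper80). -/

set_option autoImplicit false

namespace Cfsg.Agent.Lib.Helper92.Sz8

open Cfsg Cfsg.Agent.Lib.Helper6.Sz Cfsg.Agent.Lib.Helper89.CosetCert

/-- Sz8-BR -/
theorem coe_ev_gK (w : List ℕ) (hw : ∀ l ∈ w, l < 4) :
    (((ev gK w : GK) : Matrix.SpecialLinearGroup (Fin 4) K8) : Matrix (Fin 4) (Fin 4) K8) =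
      semK (evP w) :=
  br_core semK_mulP semK_oneP w hw

end Cfsg.Agent.Lib.Helper92.Sz8
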