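import Cfsg.Agent.Lib.Helper88.TrsDefs
import Cfsg.Agent.Lib.Helper87.FusionBasic

/-! Trs hive (helper88, S5156), package P3 (helper68): TRS-F1 `isWeaklyNormalIn_self`,
TRS-F2 `residual_self`. -/

set_option autoImplicit false

namespace Cfsg.Agent.Lib.Helper88.Trs

open Cfsg Cfsg.FusionSystem

universe u

variable {Ω : Type*} [Group Ω] {S : Subgroup Ω} {p : ℕ} [Fact p.Prime]

/-- **TRS-F1**. -/
theorem isWeaklyNormalIn_self [Finite S] (F : FusionSystem S) (hF : F.IsSaturated p) :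
    F.IsWeaklyNormalIn F p := by
  refine ⟨hF, hF, fun _ => subset_rfl, ⟨le_rfl, fun R _ φ hφ x => (F.le_of_mem hφ).2 x⟩, ?_, ?_⟩
  · intro P hPT φ hφ α hα
    have hP'S : (P.subgroupOf S).map (S.subtype.comp α.toMonoidHom) ≤ S := by
      rintro _ ⟨z, -, rfl⟩
      exact (α z).2
    have ha : S.subtype.comp α.toMonoidHom ∈ F.Hom S :=
      (Cfsg.Agent.Lib.Helper87.mem_autGroup_iff F le_rfl α).1 hα
    have hai : S.subtype.comp (α⁻¹).toMonoidHom ∈ F.Hom S :=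
      (Cfsg.Agent.Lib.Helper87.mem_autGroup_iff F le_rfl α⁻¹).1 (Subgroup.inv_mem _ hα)
    have hρ := Cfsg.Agent.Lib.Helper87.restrict_mem F hai hP'S
    have hρv : ∀ (z : S) (hz : ((α z : S) : Ω) ∈ (P.subgroupOf S).map (S.subtype.comp α.toMonoidHom)),
        ((S.subtype.comp (α⁻¹).toMonoidHom).comp (Subgroup.inclusion hP'S)) ⟨((α z : S) : Ω), hz⟩
          = (z : Ω) := by
      intro z hz
      show ((α⁻¹ (Subgroup.inclusion hP'S ⟨((α z : S) : Ω), hz⟩) : S) : Ω) = z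
      have : Subgroup.inclusion hP'S ⟨((α z : S) : Ω), hz⟩ = α z := Subtype.ext (by rfl)
      rw [this]
      simp
    have hρP : ∀ y : ↥((P.subgroupOf S).map (S.subtype.comp α.toMonoidHom)),
        ((S.subtype.comp (α⁻¹).toMonoidHom).comp (Subgroup.inclusion hP'S)) y ∈ P := by
      rintro ⟨_, z, hz, rfl⟩
      have := hρv z ⟨z, hz, by rfl⟩
      show ((S.subtype.comp (α⁻¹).toMonoidHom).comp (Subgroup.inclusion hP'S))
        ⟨((α z : S) : Ω), _⟩ ∈ P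
      rw [this]
      exact hz
    obtain ⟨χ₁, hχ₁, hχ₁v⟩ := Cfsg.Agent.Lib.Helper87.comp_mem' F hρ hφ hρP
    obtain ⟨χ, hχ, hχv⟩ := Cfsg.Agent.Lib.Helper87.comp_mem' F hχ₁ ha
      (fun y => by rw [hχ₁v]; exact (F.le_of_mem hφ).2 _)
    refine ⟨χ, hχ, ?_⟩
    intro x hφx hαx
    rw [hχv]
    show ((α ⟨χ₁ ⟨((α ⟨x, hPT x.2⟩ : S) : Ω), hαx⟩, _⟩ : S) : Ω) = ((α ⟨φ x, hφx⟩ : S) : Ω)
    have h1 : χ₁ ⟨((α ⟨x, hPT x.2⟩ : S) : Ω), hαx⟩ = φ x := by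
      rw [hχ₁v]
      congr 1
      apply Subtype.ext
      exact hρv ⟨x, hPT x.2⟩ hαx
    congr 2
    exact Subtype.ext h1
  · intro P _ φ hφ
    refine ⟨1, Subgroup.one_mem _, φ, hφ, ?_⟩
    intro x hx
    rfl

/-- **TRS-F2**. -/
theorem residual_self (F E : FusionSystem S) (hE : F.IsPPrimeResidual p E) :
    E.IsPPrimeResidual p E := by
  obtain ⟨hEs, ⟨hEF, hEa⟩, hEmin⟩ := hE
  refine ⟨hEs, ⟨fun _ => subset_rfl, fun P _ => Subgroup.map_subtype_le _⟩, ?_⟩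
  intro D hD ⟨hDE, hDa⟩
  apply hEmin D hD
  refine ⟨fun P => (hDE P).trans (hEF P), ?_⟩
  intro P hP
  rw [Subgroup.map_le_iff_le_comap, Subgroup.closure_le]
  rintro α ⟨k, hk⟩
  show ((α : F.autGroup P) : MulAut P) ∈ D.autGroup P
  have hαE : ((α : F.autGroup P) : MulAut P) ∈ E.autGroup P := by
    apply hEa P hP
    exact ⟨α, Subgroup.subset_closure ⟨k, hk⟩, rfl⟩
  apply hDa P hP
  refine ⟨⟨(α : MulAut P), hαE⟩, Subgroup.subset_closure ⟨k, ?_⟩, rfl⟩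
  rw [← hk, ← Subgroup.orderOf_coe, ← Subgroup.orderOf_coe]

end Cfsg.Agent.Lib.Helper88.Trs
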