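import Cfsg.Agent.Lib.Helper88.TrsDefs
import Cfsg.Agent.Lib.Helper54.PSolvExt
import Cfsg.Agent.S5124

/-! Trs hive (helper88, S5156), package P5 (helper68): TRS-F5 `isCentric_of_stronglyClosed`,
TRS-B `ps_of_eq_bot`, TRS-N `hyperfocal_normal`. -/

set_option autoImplicit false

namespace Cfsg.Agent.Lib.Helper88.Trs

open Cfsg Cfsg.FusionSystem

universe u

variable {Ω : Type*} [Group Ω] {S : Subgroup Ω} {p : ℕ} [Fact p.Prime]

/-- **TRS-F5**. -/
theorem isCentric_of_stronglyClosed [Finite S] (E : FusionSystem S) {Q : Subgroup Ω}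
    (hQ : E.StronglyClosed Q) (hc : centralizerIn S Q ≤ Q) : E.IsCentric Q := by
  refine ⟨hQ.1, ?_⟩
  rintro Q' ⟨φ, hφ, rfl⟩
  have hle : φ.range ≤ Q := by
    rintro _ ⟨x, rfl⟩
    exact hQ.2 Q le_rfl φ hφ x
  haveI : Finite Q := Finite.of_injective (Subgroup.inclusion hQ.1) (Subgroup.inclusion_injective _)
  have hcard : Nat.card Q ≤ Nat.card φ.range := by
    have e : Q ≃ φ.range := Equiv.ofInjective φ (E.injective_of_mem hφ) |>.trans
      (Equiv.setCongr (by ext; simp))
    exact (Nat.card_congr e).le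
  have heq : φ.range = Q := Subgroup.eq_of_le_of_card_ge hle hcard
  rw [heq]
  exact hc

theorem f5_cast_mem (F : FusionSystem S) {P P' : Subgroup Ω} (h : P' = P) (φ : P →* Ω)
    (hφ : φ ∈ F.Hom P) : φ.comp (Subgroup.inclusion h.le) ∈ F.Hom P' := by
  subst h
  have : φ.comp (Subgroup.inclusion (le_refl P')) = φ := by
    ext x
    rfl
  rw [this]
  exact hφ

/-- **TRS-B**. -/
theorem ps_of_eq_bot (F : FusionSystem S) (hS : S = ⊥) : PS p F := by
  refine ⟨⊥, ⟨bot_le, ?_⟩, ⟨bot_le, ?_⟩, ?_⟩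
  · intro P φ hφ
    have hP : P ⊔ ⊥ = P := sup_bot_eq P
    refine ⟨φ.comp (Subgroup.inclusion hP.le), f5_cast_mem F hP φ hφ, ?_, ?_⟩
    · intro x
      rfl
    · rw [Subgroup.bot_subgroupOf, Subgroup.map_bot]
  · intro Q' _
    have h1 : centralizerIn S Q' ≤ S := inf_le_left
    have h2 : S ≤ Q' := by rw [hS]; exact bot_le
    exact h1.trans h2
  · apply Cfsg.Agent.Lib.Helper54.isPSolvable_of_coprime
    have : Subsingleton (MulAut (⊥ : Subgroup Ω)) := by
      constructor
      intro a b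
      ext x
      have hx : x = 1 := Subsingleton.elim _ _
      rw [hx, map_one, map_one]
    have h1 : Nat.card ↥(F.autGroup (⊥ : Subgroup Ω)) = 1 := Nat.card_unique
    rw [h1]
    exact Nat.coprime_one_left p

/-- **TRS-N**. -/
theorem hyperfocal_normal [Finite S] (hS : IsPGroup p S) (E : FusionSystem S) (hE : E.IsSaturated p) :
    ((E.hyperfocalSubgroup p).subgroupOf S).Normal := by
  have hsc := Cfsg.Agent.S5124.result p hS E hE
  constructor
  intro x hx s
  rw [Subgroup.mem_subgroupOf] at hx ⊢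
  have hmem := E.conj_mem (P := E.hyperfocalSubgroup p) (g := (s : Ω)) hsc.1 s.2
  have := hsc.2 (E.hyperfocalSubgroup p) le_rfl _ hmem ⟨(x : Ω), hx⟩
  simpa [conjHom] using this

end Cfsg.Agent.Lib.Helper88.Trs
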