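import Mathlib

/-! # We hive (S2347, helper14): leaf WE-TRCONJ `trace_mulLeft_mulRight` (helper68).
The trace of `S ↦ A S B` on `End(W)` is `tr A * tr B`. -/

set_option autoImplicit false

namespace Cfsg.Agent.Lib.Helper14.We

open Matrix

/-- coordinates in the standard basis of matrices -/
theorem trconj_repr {ι : Type*} [Fintype ι] [DecidableEq ι] (M : Matrix ι ι ℂ) (i j : ι) :
    (Matrix.stdBasis ℂ ι ι).repr M (i, j) = M i j := by
  have hM : M = ∑ a : ι, ∑ b : ι, M a b • Matrix.stdBasis ℂ ι ι (a, b) := by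
    simp only [Matrix.stdBasis_eq_single]
    exact (Matrix.matrix_eq_sum_single M).trans (by simp [Matrix.smul_single])
  conv_lhs => rw [hM]
  simp [map_sum, Finsupp.single_apply, Finset.sum_ite_eq, ite_and]

/-- the matrix version -/
theorem trconj_matrix {ι : Type*} [Fintype ι] [DecidableEq ι] (A B : Matrix ι ι ℂ) :
    LinearMap.trace ℂ (Matrix ι ι ℂ) (LinearMap.mulLeft ℂ A ∘ₗ LinearMap.mulRight ℂ B) =
      A.trace * B.trace := by
  rw [LinearMap.trace_eq_matrix_trace ℂ (Matrix.stdBasis ℂ ι ι)]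
  simp only [Matrix.trace, Matrix.diag, LinearMap.toMatrix_apply,
    LinearMap.comp_apply, LinearMap.mulLeft_apply, LinearMap.mulRight_apply]
  rw [Fintype.sum_prod_type, Finset.sum_mul_sum]
  refine Finset.sum_congr rfl fun i _ => Finset.sum_congr rfl fun j _ => ?_
  rw [trconj_repr, Matrix.stdBasis_eq_single]
  simp [Matrix.mul_apply, Matrix.single_apply, Finset.sum_ite_eq, ite_and]

section Abstract

variable {W : Type*} [AddCommGroup W] [Module ℂ W] [FiniteDimensional ℂ W]

/-- WE-TRCONJ -/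
theorem trace_mulLeft_mulRight (A B : Module.End ℂ W) :
    LinearMap.trace ℂ (Module.End ℂ W) (LinearMap.mulLeft ℂ A ∘ₗ LinearMap.mulRight ℂ B) =
      LinearMap.trace ℂ W A * LinearMap.trace ℂ W B := by
  classical
  set b := Module.finBasis ℂ W with hb
  set e : Module.End ℂ W ≃ₗ[ℂ] Matrix (Fin (Module.finrank ℂ W)) (Fin (Module.finrank ℂ W)) ℂ :=
    LinearMap.toMatrix b b with he
  have hconj : e.conj (LinearMap.mulLeft ℂ A ∘ₗ LinearMap.mulRight ℂ B) =
      LinearMap.mulLeft ℂ (e A) ∘ₗ LinearMap.mulRight ℂ (e B) := by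
    apply LinearMap.ext
    intro X
    rw [LinearEquiv.conj_apply]
    simp only [LinearMap.comp_apply, LinearEquiv.coe_coe, LinearMap.mulLeft_apply,
      LinearMap.mulRight_apply]
    rw [he, LinearMap.toMatrix_mul, LinearMap.toMatrix_mul]
    congr 2
    exact (LinearMap.toMatrix b b).apply_symm_apply X
  rw [← LinearMap.trace_conj' _ e, hconj, trconj_matrix, LinearMap.trace_eq_matrix_trace ℂ b A,
    LinearMap.trace_eq_matrix_trace ℂ b B]

end Abstract

end Cfsg.Agent.Lib.Helper14.We
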